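import Cfsg.Agent.Lib.Classical.UnitaryGen
import Cfsg.Agent.Lib.Spor.FourField

/-!
Codes for vectors of the unitary space of dimension six over four elements, and for products of
transvections.
-/

set_option autoImplicit false

namespace CfsgLib.KnownB.U62Mult

open Matrix CfsgLib.Classical CfsgLib.Classical.Unitary CfsgLib.Spor

universe u

/-- product of codes -/
def qm (a b : ℕ) : ℕ := (2625168384 >>> (2 * (4 * (a % 4) + b % 4))) % 4

/-- conjugate of a code -/
def qc (a : ℕ) : ℕ := (180 >>> (2 * (a % 4))) % 4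

/-- a coordinate -/
def dig (x i : ℕ) : ℕ := (x >>> (2 * i)) % 4

/-- the form -/
def hm (x y : ℕ) : ℕ :=
  qm (dig x 0) (qc (dig y 0)) ^^^ (qm (dig x 1) (qc (dig y 1)) ^^^ (qm (dig x 2) (qc (dig y 2)) ^^^
    (qm (dig x 3) (qc (dig y 3)) ^^^ (qm (dig x 4) (qc (dig y 4)) ^^^ qm (dig x 5) (qc (dig y 5))))))

/-- scalar multiple -/
def smulC (c x : ℕ) : ℕ :=
  qm c (dig x 0) + 4 * qm c (dig x 1) + 16 * qm c (dig x 2) + 64 * qm c (dig x 3) +
    256 * qm c (dig x 4) + 1024 * qm c (dig x 5)

/-- a transvection applied to a vector -/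
def app (p x : ℕ) : ℕ := x ^^^ smulC (hm x p) p

/-- a product of transvections applied to a vector -/
def appW (w : List ℕ) (x : ℕ) : ℕ := w.foldr app x

/-- the letters are isotropic -/
def isoW (w : List ℕ) : Bool := w.all fun p => Nat.beq (hm p p) 0

/-- the standard basis vectors -/
def bas : List ℕ := [1, 4, 16, 64, 256, 1024]

/-- two products agree on the basis -/
def eqW (w w' : List ℕ) : Bool :=
  bas.all fun b => Nat.beq (appW w b % 4096) (appW w' b % 4096)

/-- a product takes a vector to a nonzero multiple of another -/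
def moves (w : List ℕ) (x y : ℕ) : Bool :=
  let z := appW w x % 4096
  Nat.beq z (smulC 1 y % 4096) || Nat.beq z (smulC 2 y % 4096) || Nat.beq z (smulC 3 y % 4096)

section Field

variable {F : Type u} [Field F] (e : QField →+* F) {σ : F →+* F}

/-- the element of a code -/
def el (a : ℕ) : F := e ⟨⟨a % 4, Nat.mod_lt _ (Nat.succ_pos 3)⟩⟩

/-- the vector of a code -/
def vec (x : ℕ) : Fin 6 → F := fun i => el e (x >>> (2 * (i : ℕ)))

theorem el_mod (a : ℕ) : el e (a % 4) = el e a := by
  unfold el; congr 2; exact Fin.ext (Nat.mod_mod _ _)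

theorem el_congr {a b : ℕ} (h : a % 4 = b % 4) : el e a = el e b := by
  rw [← el_mod e a, h, el_mod]

theorem el_inj {a b : ℕ} : el e a = el e b ↔ a % 4 = b % 4 := by
  refine ⟨fun h => ?_, el_congr e⟩
  have := e.injective h
  exact congrArg (fun z : QField => z.val.val) this

theorem el_zero : el e 0 = 0 := map_zero e

theorem el_one : el e 1 = 1 := map_one e

theorem el_xor (a b : ℕ) : el e (a ^^^ b) = el e a + el e b := by
  unfold el
  rw [← map_add]
  refine congrArg e (congrArg QField.mk (Fin.ext ?_))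
  show (a ^^^ b) % 4 = ((a % 4) ^^^ (b % 4)) % 4
  rw [show (4 : ℕ) = 2 ^ 2 by norm_num, Nat.xor_mod_two_pow]
  exact (Nat.mod_eq_of_lt (Nat.xor_lt_two_pow (Nat.mod_lt _ (by norm_num)) (Nat.mod_lt _ (by norm_num)))).symm

theorem el_qm (a b : ℕ) : el e (qm a b) = el e a * el e b := by
  unfold el
  rw [← map_mul]
  refine congrArg e (congrArg QField.mk (Fin.ext ?_))
  exact Nat.mod_mod _ _

variable [Finite F] (hF : Nat.card F = 2 ^ 2) (h : UFrob σ 2)

omit [Finite F] in
include h in
theorem el_qc (a : ℕ) : el e (qc a) = σ (el e a) := by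
  rw [h.pow, pow_two, ← el_qm]
  refine el_congr e ?_
  have key : ∀ c < 4, qc c % 4 = qm c c % 4 := by decide
  have := key (a % 4) (Nat.mod_lt _ (by norm_num))
  simpa [qc, qm, Nat.mod_mod] using this

include hF in
theorem e_surjective : Function.Surjective e := by
  have := Fintype.ofFinite F
  refine ((Nat.bijective_iff_injective_and_card e).2 ⟨e.injective, ?_⟩).2
  rw [hF, Nat.card_eq_fintype_card]
  rfl

include hF in
theorem exists_el (c : F) : ∃ a < 4, c = el e a := by
  obtain ⟨⟨a⟩, rfl⟩ := e_surjective e hF c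
  refine ⟨a.val, a.2, congrArg e (congrArg QField.mk (Fin.ext ?_))⟩
  exact (Nat.mod_eq_of_lt a.2).symm

include hF h in
theorem norm_el {c : F} (hc : c ≠ 0) : c * σ c = 1 := by
  have := Fintype.ofFinite F
  have h1 := FiniteField.pow_card_sub_one_eq_one c hc
  rw [← Nat.card_eq_fintype_card, hF] at h1
  rw [h.pow, ← h1]
  ring

omit [Finite F] in
theorem vec_xor (x y : ℕ) : vec e (x ^^^ y) = vec e x + vec e y := funext fun i => by
  rw [Pi.add_apply]
  simp only [vec, Nat.shiftRight_xor_distrib, el_xor]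

omit [Finite F] in
theorem vec_smulC (c x : ℕ) : vec e (smulC c x) = el e c • vec e x := by
  funext i
  have hd : ∀ j, qm c (dig x j) < 4 := fun j => Nat.mod_lt _ (by norm_num)
  rw [Pi.smul_apply, smul_eq_mul]
  simp only [vec]
  rw [← el_mod e (x >>> (2 * (i : ℕ))), ← el_qm]
  refine el_congr e ?_
  have h0 := hd 0
  have h1 := hd 1
  have h2 := hd 2
  have h3 := hd 3
  have h4 := hd 4
  have h5 := hd 5
  show smulC c x >>> (2 * (i : ℕ)) % 4 = qm c (dig x i) % 4
  rw [Nat.shiftRight_eq_div_pow]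
  unfold smulC
  generalize hA : qm c (dig x 0) = A at *
  generalize hB : qm c (dig x 1) = B at *
  generalize hC : qm c (dig x 2) = C at *
  generalize hD : qm c (dig x 3) = D at *
  generalize hE : qm c (dig x 4) = E at *
  generalize hG : qm c (dig x 5) = G at *
  fin_cases i <;> norm_num [hA, hB, hC, hD, hE, hG] <;> omega

omit [Finite F] in
theorem vec_inj {x y : ℕ} : vec e x = vec e y ↔ x % 4096 = y % 4096 := by
  constructor
  · intro hxy
    have key : ∀ i : Fin 6, x >>> (2 * (i : ℕ)) % 4 = y >>> (2 * (i : ℕ)) % 4 := fun i =>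
      (el_inj e).1 (congrFun hxy i)
    have k0 := key 0
    have k1 := key 1
    have k2 := key 2
    have k3 := key 3
    have k4 := key 4
    have k5 := key 5
    norm_num [Nat.shiftRight_eq_div_pow] at k0 k1 k2 k3 k4 k5
    omega
  · intro hxy
    funext i
    refine el_congr e ?_
    rw [Nat.shiftRight_eq_div_pow, Nat.shiftRight_eq_div_pow]
    fin_cases i <;> norm_num <;> omega

omit [Finite F] in
theorem vec_zero : vec e 0 = 0 := funext fun i => by simp [vec, el_zero]

include hF in
theorem exists_vec (v : Fin 6 → F) : ∃ x < 4096, v = vec e x := by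
  choose a ha hv using fun i => exists_el e hF (v i)
  have h0 := ha 0
  have h1 := ha 1
  have h2 := ha 2
  have h3 := ha 3
  have h4 := ha 4
  have h5 := ha 5
  refine ⟨a 0 + 4 * a 1 + 16 * a 2 + 64 * a 3 + 256 * a 4 + 1024 * a 5, by omega, funext fun i => ?_⟩
  rw [hv i]
  refine el_congr e ?_
  rw [Nat.shiftRight_eq_div_pow]
  obtain rfl | rfl | rfl | rfl | rfl | rfl : i = 0 ∨ i = 1 ∨ i = 2 ∨ i = 3 ∨ i = 4 ∨ i = 5 := by omega
  all_goals norm_num <;> omega

omit [Finite F] in
include h in
theorem uh_vec (x y : ℕ) : uh σ (vec e x) (vec e y) = el e (hm x y) := by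
  simp only [hm, el_xor, el_qm, el_qc e h, dig, el_mod]
  simp [uh, dotProduct, Fin.sum_univ_six, vec]
  ring

omit [Finite F] in
include h in
theorem uh_vec_zero {x y : ℕ} : uh σ (vec e x) (vec e y) = 0 ↔ hm x y % 4 = 0 := by
  rw [uh_vec e h, ← el_zero e, el_inj]

omit [Finite F] in
theorem vec_bas_ext {A B : Matrix (Fin 6) (Fin 6) F} (hb : ∀ b ∈ bas, A *ᵥ vec e b = B *ᵥ vec e b) :
    A = B := by
  refine Matrix.ext_of_mulVec_single fun i => ?_
  have hs : ∀ i : Fin 6, vec e (4 ^ (i : ℕ)) = Pi.single i (1 : F) := fun i => funext fun j => by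
    have k : (4 ^ (i : ℕ) >>> (2 * (j : ℕ))) % 4 = if j = i then 1 % 4 else 0 % 4 := by
      revert i j; decide
    rcases eq_or_ne j i with rfl | hne
    · rw [if_pos rfl] at k
      rw [Pi.single_eq_same]
      exact (el_congr e k).trans (el_one e)
    · rw [if_neg hne] at k
      rw [Pi.single_eq_of_ne hne]
      exact (el_congr e k).trans (el_zero e)
  rw [← hs]
  exact hb _ (by revert i; decide)

/-! ### Transvections -/

include hF in
theorem two_zero : (2 : F) = 0 := two_eq_zero_of_q_two hF rfl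

include hF in
theorem skew_one : (1 : F) + σ 1 = 0 := by
  rw [map_one]; linear_combination two_zero hF

/-- The transvection at an isotropic vector. -/
def tvec (v : Fin 6 → F) (hv : uh σ v v = 0) : Cfsg.SU 6 F 2 := utv h v 1 hv (skew_one hF)

theorem tvec_mulVec (v : Fin 6 → F) (hv : uh σ v v = 0) (x : Fin 6 → F) :
    (tvec hF h v hv).1.1 *ᵥ x = x + uh σ x v • v := by
  rw [tvec, utv_mulVec, one_mul]

open _root_.Classical in
/-- The transvection of a code. -/
noncomputable def tv (p : ℕ) : Cfsg.SU 6 F 2 :=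
  if hp : uh σ (vec e p) (vec e p) = 0 then tvec hF h (vec e p) hp else 1

theorem tv_mulVec {p : ℕ} (hp : hm p p % 4 = 0) (x : Fin 6 → F) :
    (tv e hF h p).1.1 *ᵥ x = x + uh σ x (vec e p) • vec e p := by
  rw [tv, dif_pos ((uh_vec_zero e h).2 hp), tvec_mulVec]

/-- The product of the transvections of a word. -/
noncomputable def gW (w : List ℕ) : Cfsg.SU 6 F 2 := (w.map (tv e hF h)).prod

theorem gW_nil : gW e hF h [] = 1 := rfl

theorem gW_cons (p : ℕ) (w : List ℕ) : gW e hF h (p :: w) = tv e hF h p * gW e hF h w := rfl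

theorem gW_append (w w' : List ℕ) : gW e hF h (w ++ w') = gW e hF h w * gW e hF h w' := by
  rw [gW, List.map_append, List.prod_append]; rfl

theorem gW_vec : ∀ {w : List ℕ}, isoW w = true → ∀ x : ℕ,
    (gW e hF h w).1.1 *ᵥ vec e x = vec e (appW w x)
  | [], _, x => by rw [gW_nil, su_one_mulVec]; rfl
  | p :: w, hw, x => by
    simp only [isoW, List.all_cons, Bool.and_eq_true, Nat.beq_eq] at hw
    have hw' : isoW w = true := hw.2
    rw [gW_cons, su_mul_mulVec, gW_vec hw', tv_mulVec e hF h (by rw [hw.1])]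
    show _ = vec e (appW w x ^^^ smulC (hm (appW w x) p) p)
    rw [vec_xor, vec_smulC, uh_vec e h]

theorem gW_eq {w w' : List ℕ} (hw : isoW w = true) (hw' : isoW w' = true) (he : eqW w w' = true) :
    gW e hF h w = gW e hF h w' := by
  refine Subtype.ext (Subtype.ext (vec_bas_ext e fun b hb => ?_))
  rw [gW_vec e hF h hw, gW_vec e hF h hw', vec_inj]
  exact Nat.eq_of_beq_eq_true (List.all_eq_true.1 he b hb)

theorem moves_spec {w : List ℕ} (hw : isoW w = true) {x y : ℕ} (hm' : moves w x y = true) :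
    ∃ c : F, c ≠ 0 ∧ (gW e hF h w).1.1 *ᵥ vec e x = c • vec e y := by
  simp only [moves, Bool.or_eq_true, Nat.beq_eq] at hm'
  have ne : ∀ a < 4, 0 < a → el e a ≠ 0 := fun a ha h0 he => by
    rw [← el_zero e, el_inj, Nat.mod_eq_of_lt ha] at he; omega
  rw [gW_vec e hF h hw]
  rcases hm' with (h1 | h1) | h1
  · exact ⟨el e 1, ne 1 (by norm_num) (by norm_num), by rw [← vec_smulC, vec_inj]; exact h1⟩
  · exact ⟨el e 2, ne 2 (by norm_num) (by norm_num), by rw [← vec_smulC, vec_inj]; exact h1⟩
  · exact ⟨el e 3, ne 3 (by norm_num) (by norm_num), by rw [← vec_smulC, vec_inj]; exact h1⟩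

/-- A conjugate of a transvection. -/
theorem conj_tv {g : Cfsg.SU 6 F 2} {p q : ℕ} (hp : hm p p % 4 = 0) (hq : hm q q % 4 = 0) {c : F}
    (hc : c ≠ 0) (hg : g.1.1 *ᵥ vec e p = c • vec e q) :
    g * tv e hF h p * g⁻¹ = tv e hF h q := by
  refine mul_inv_eq_iff_eq_mul.2 (su_ext fun x => ?_)
  rw [su_mul_mulVec, su_mul_mulVec, tv_mulVec e hF h hp, tv_mulVec e hF h hq, mulVec_add,
    mulVec_smul, hg, smul_smul]
  congr 2
  have e1 : uh σ x (vec e p) = uh σ (g.1.1 *ᵥ x) (c • vec e q) := by rw [← hg, su_uh h]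
  rw [e1, uh_smul_right]
  linear_combination uh σ (g.1.1 *ᵥ x) (vec e q) * norm_el hF h hc

theorem tv_sq {p : ℕ} (hp : hm p p % 4 = 0) : tv e hF h p * tv e hF h p = 1 := by
  refine su_ext fun x => ?_
  rw [su_mul_mulVec, su_one_mulVec, tv_mulVec e hF h hp, tv_mulVec e hF h hp, uh_add_left, uh_smul_left,
    (uh_vec_zero e h).2 hp, mul_zero, add_zero, add_assoc, ← two_smul F, two_zero hF, zero_smul, add_zero]

include hF h in
/-- The transvections generate. -/
theorem eq_top_of_tv {H : Subgroup (Cfsg.SU 6 F 2)}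
    (hH : ∀ p < 4096, hm p p % 4 = 0 → tv e hF h p ∈ H) : H = ⊤ := by
  rw [eq_top_iff, ← transvGroup_eq_top hF h 6 (by norm_num) (fun e => absurd e (by norm_num))]
  refine mem_of_eq_utv h fun v c hv hc => ?_
  obtain ⟨x, hx, rfl⟩ := exists_vec e hF v
  have hp := (uh_vec_zero e h).1 hv
  have hc' : c = 0 ∨ c = 1 := by
    have h2 := two_zero hF
    have h1 : σ c = c := by linear_combination hc - c * h2
    rw [h.pow, pow_two] at h1
    rcases eq_or_ne c 0 with h0 | h0
    · exact Or.inl h0
    · exact Or.inr (mul_left_cancel₀ h0 (by rw [h1, mul_one]))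
  rcases hc' with rfl | rfl
  · have : utv h (vec e x) 0 hv hc = 1 := su_ext fun y => by
      rw [utv_mulVec, su_one_mulVec, zero_mul, zero_smul, add_zero]
    rw [this]; exact one_mem _
  · have : utv h (vec e x) 1 hv hc = tv e hF h x := by
      rw [tv, dif_pos hv]; rfl
    rw [this]; exact hH x hx hp

end Field

end CfsgLib.KnownB.U62Mult
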