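import Cfsg.Agent.Lib.KnownB.U62Mult.CoverChecks
import Cfsg.Agent.Lib.Classical.UnitarySimple

/-!
The cover of `SU₆(2)` with kernel a four-group: pairs of an element and a permutation of four copies of
the non-singular points preserving the signed orthogonality graph.
-/

set_option autoImplicit false
set_option maxRecDepth 100000

noncomputable section

namespace CfsgLib.KnownB.U62Mult

open Matrix CfsgLib.Classical CfsgLib.Classical.Unitary CfsgLib.Spor
open scoped commutatorElement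

universe u

/-- four copies of the points -/
abbrev Pt : Type := Fin 672 × Fin 4

/-- bitwise sum -/
def xb (b d : Fin 4) : Fin 4 := ⟨(b.val ^^^ d.val) % 4, Nat.mod_lt _ (Nat.succ_pos 3)⟩

theorem xb_facts : ∀ a b d : Fin 4, (xb a b).val = a.val ^^^ b.val ∧ xb (xb a b) d = xb a (xb b d) ∧
    xb a b = xb b a ∧ xb a ⟨0, by omega⟩ = a ∧ xb a a = ⟨0, by omega⟩ := by decide +kernel

/-- flips -/
def flipP (d : Fin 4) (p : Pt) : Pt := (p.1, xb p.2 d)

theorem flipP_flipP (d : Fin 4) (p : Pt) : flipP d (flipP d p) = p := by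
  refine Prod.ext rfl ?_
  show xb (xb p.2 d) d = p.2
  rw [(xb_facts _ _ _).2.1, (xb_facts d d d).2.2.2.2, (xb_facts p.2 d d).2.2.2.1]

/-- a flip as a permutation -/
def flipE (d : Fin 4) : Equiv.Perm Pt :=
  ⟨flipP d, flipP d, flipP_flipP d, flipP_flipP d⟩

/-- the signed edges -/
def Edge (p q : Pt) : Prop :=
  adjA p.1 q.1 = true ∧ p.2.val ^^^ q.2.val = edgeS p.1 q.1

theorem xor_edge : ∀ a b : Fin 4, ∀ c d : Fin 4, (a.val ^^^ c.val) ^^^ (b.val ^^^ d.val) =
    (a.val ^^^ b.val) ^^^ (c.val ^^^ d.val) := by decide +kernel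

theorem edge_flip {d : Fin 4} {p q : Pt} (h : Edge p q) : Edge (flipP d p) (flipP d q) := by
  refine ⟨h.1, ?_⟩
  show (xb p.2 d).val ^^^ (xb q.2 d).val = edgeS p.1 q.1
  rw [(xb_facts p.2 d d).1, (xb_facts q.2 d d).1, xor_edge, h.2, Nat.xor_self, Nat.xor_zero]

theorem mem_upList {i j : ℕ} (hi : i < 672) (h : upA i j = true) :
    j ∈ upList i ∧ i < j ∧ j < 672 := by
  have h1 := List.all_eq_true.1 rows_ok i (List.mem_range.2 hi)
  simp only [rowOK, Bool.and_eq_true, Nat.beq_eq, List.all_eq_true] at h1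
  obtain ⟨hb, hl⟩ := h1
  have key : ∀ l : List ℕ, (bitsOf l).testBit j = true → j ∈ l := by
    intro l
    induction l with
    | nil => intro h; simp [bitsOf] at h
    | cons a r ih =>
      intro h
      simp only [bitsOf, Nat.testBit_or, Bool.or_eq_true] at h
      rcases h with h | h
      · rw [Nat.one_shiftLeft, Nat.testBit_two_pow, decide_eq_true_eq] at h
        exact h ▸ List.mem_cons_self
      · exact List.mem_cons_of_mem _ (ih h)
  have hm : j ∈ upList i := key _ (by rw [hb]; exact h)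
  obtain ⟨h2, h3⟩ := hl j hm
  exact ⟨hm, Nat.le_of_ble_eq_true h2, Nat.le_of_ble_eq_true h3⟩

theorem adjA_comm (i j : ℕ) : adjA i j = adjA j i := by rw [adjA, adjA, Bool.or_comm]

theorem edgeS_comm {i j : ℕ} (hi : i < 672) (hj : j < 672) (h : adjA i j = true) : edgeS i j = edgeS j i := by
  simp only [adjA, Bool.or_eq_true] at h
  have hno : ∀ {a b : ℕ}, a < 672 → b < 672 → upA a b = true → upA b a = false := fun {a b} ha hb hab => by
    rw [← Bool.not_eq_true]
    intro hba
    have := (mem_upList ha hab).2.1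
    have := (mem_upList hb hba).2.1
    omega
  rcases h with h | h
  · simp [edgeS, h, hno hi hj h]
  · simp [edgeS, h, hno hj hi h]

theorem nv_facts {i : ℕ} (hi : i < 672) : nv i < 4096 ∧
    (∀ c ∈ [1, 2, 3], canonC (smulC c (nv i)) = nv i) ∧ (i + 1 < 672 → nv i < nv (i + 1)) := by
  have h := List.all_eq_true.1 pts_ok i (List.mem_range.2 hi)
  simp only [ptOK, Bool.and_eq_true, Bool.or_eq_true, Nat.beq_eq] at h
  obtain ⟨⟨⟨⟨⟨h0, h1⟩, h2⟩, h3⟩, h4⟩, -⟩ := h
  refine ⟨Nat.le_of_ble_eq_true h0, fun c hc => ?_, fun hlt => ?_⟩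
  · simp only [List.mem_cons, List.not_mem_nil, or_false] at hc
    rcases hc with rfl | rfl | rfl <;> assumption
  · rcases h4 with h4 | h4
    · omega
    · exact Nat.le_of_ble_eq_true h4

theorem nv_inj {i j : ℕ} (hi : i < 672) (hj : j < 672) (h : nv i = nv j) : i = j := by
  have mono : ∀ a k : ℕ, a + k < 672 → 0 < k → nv a < nv (a + k) := by
    intro a k
    induction k with
    | zero => intro _ h; omega
    | succ k ih =>
      intro hlt _
      rcases Nat.eq_zero_or_pos k with rfl | hk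
      · exact (nv_facts (by omega)).2.2 hlt
      · exact (ih (by omega) hk).trans ((nv_facts (i := a + k) (by omega)).2.2 (by omega))
  rcases lt_trichotomy i j with hlt | rfl | hgt
  · have := mono i (j - i) (by omega) (by omega)
    rw [show i + (j - i) = j by omega] at this
    omega
  · rfl
  · have := mono j (i - j) (by omega) (by omega)
    rw [show j + (i - j) = i by omega] at this
    omega

variable {F : Type u} [Field F] (e : QField →+* F) {σ : F →+* F} [Finite F] (hF : Nat.card F = 2 ^ 2)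
  (h : UFrob σ 2)

include hF in
theorem index_unique {i j : ℕ} (hi : i < 672) (hj : j < 672) {c c' : F} (hc : c ≠ 0) (hc' : c' ≠ 0)
    (heq : c • vec e (nv i) = c' • vec e (nv j)) : i = j := by
  obtain ⟨a, ha, hda⟩ := exists_el e hF (c'⁻¹ * c)
  have h1 : vec e (smulC a (nv i)) = vec e (nv j) := by
    rw [vec_smulC, ← hda, ← smul_smul, heq, smul_smul, inv_mul_cancel₀ hc', one_smul]
  have ha0 : a ≠ 0 := fun he => by
    subst he
    rw [el_zero e] at hda
    exact mul_ne_zero (inv_ne_zero hc') hc hda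
  have hm : smulC a (nv i) % 4096 = smulC 1 (nv j) % 4096 := by
    rw [← vec_inj e, h1, vec_smulC, el_one, one_smul]
  have hk : ∀ z, canonC z = canonC (z % 4096) := fun z => by
    rw [canonC, canonC, Nat.mod_mod]
  have e1 : canonC (smulC a (nv i)) = nv i :=
    (nv_facts hi).2.1 a (by simp only [List.mem_cons, List.not_mem_nil, or_false]; omega)
  have e2 : canonC (smulC 1 (nv j)) = nv j := (nv_facts hj).2.1 1 (by simp)
  exact nv_inj hi hj (by rw [← e1, ← e2, hk, hm, ← hk])

/-- the pairs in question -/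
def IsCov (x : Cfsg.SU 6 F 2 × Equiv.Perm Pt) : Prop :=
  (∀ p, ∃ c : F, c ≠ 0 ∧ x.1.1.1 *ᵥ vec e (nv p.1) = c • vec e (nv (x.2 p).1)) ∧
    (∀ d p, x.2 (flipP d p) = flipP d (x.2 p)) ∧ ∀ p q, Edge p q → Edge (x.2 p) (x.2 q)

/-- the covering group as a monoid -/
def covMonoid : Submonoid (Cfsg.SU 6 F 2 × Equiv.Perm Pt) where
  carrier := {x | IsCov e x}
  one_mem' := ⟨fun p => ⟨1, one_ne_zero, by
    show (1 : Cfsg.SU 6 F 2).1.1 *ᵥ _ = _
    rw [su_one_mulVec, one_smul]; rfl⟩, fun _ _ => rfl, fun _ _ hpq => hpq⟩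
  mul_mem' := by
    rintro x y ⟨hx1, hx2, hx3⟩ ⟨hy1, hy2, hy3⟩
    refine ⟨fun p => ?_, fun d p => ?_, fun p q hpq => hx3 _ _ (hy3 p q hpq)⟩
    · obtain ⟨c, hc, ec⟩ := hy1 p
      obtain ⟨d, hd, ed⟩ := hx1 (y.2 p)
      refine ⟨c * d, mul_ne_zero hc hd, ?_⟩
      show (x.1 * y.1).1.1 *ᵥ _ = (c * d) • vec e (nv (x.2 (y.2 p)).1)
      rw [su_mul_mulVec, ec, mulVec_smul, ed, smul_smul]
    · show x.2 (y.2 (flipP d p)) = flipP d (x.2 (y.2 p))
      rw [hy2, hx2]

/-- the covering group -/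
def CovGrp : Subgroup (Cfsg.SU 6 F 2 × Equiv.Perm Pt) :=
  { covMonoid e with
    inv_mem' := fun {x} hx => by
      have h1 : x⁻¹ = x ^ (orderOf x - 1) := by
        rw [inv_eq_iff_mul_eq_one, ← pow_succ', Nat.sub_add_cancel (orderOf_pos x), pow_orderOf_eq_one]
      show x⁻¹ ∈ covMonoid e
      rw [h1]
      exact pow_mem hx _ }

instance : Finite (CovGrp e) := Subtype.finite

/-- the projection -/
def covProj : CovGrp e →* Cfsg.SU 6 F 2 := (MonoidHom.fst _ _).comp (CovGrp e).subtype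

/-- a flip in the covering group -/
def covFlip (d : Fin 4) : CovGrp e :=
  ⟨(1, flipE d), fun p => ⟨1, one_ne_zero, by
    show (1 : Cfsg.SU 6 F 2).1.1 *ᵥ _ = _
    rw [su_one_mulVec, one_smul]; rfl⟩, fun d' p => Prod.ext rfl (by
      show xb (xb p.2 d') d = xb (xb p.2 d) d'
      rw [(xb_facts p.2 d' d).2.1, (xb_facts p.2 d d').2.1, (xb_facts d' d d).2.2.1]),
    fun _ _ hpq => edge_flip hpq⟩

include hF in
theorem ker_covProj {x : CovGrp e} : x ∈ (covProj e).ker ↔ ∃ d, x = covFlip e d := by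
  constructor
  · intro hx
    obtain ⟨⟨g, s⟩, hs1, hs2, hs3⟩ := x
    have hg : g = 1 := hx
    subst hg
    have hfix : ∀ p, (s p).1 = p.1 := fun p => by
      obtain ⟨c, hc, ec⟩ := hs1 p
      have ec' : (1 : Cfsg.SU 6 F 2).1.1 *ᵥ vec e (nv p.1) = c • vec e (nv (s p).1) := ec
      rw [su_one_mulVec] at ec'
      exact Fin.ext (index_unique e hF (s p).1.2 p.1.2 hc one_ne_zero (by rw [one_smul]; exact ec'.symm))
    let δ : Fin 672 → Fin 4 := fun i => (s (i, ⟨0, by omega⟩)).2
    have hsv : ∀ p : Pt, s p = (p.1, xb p.2 (δ p.1)) := by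
      intro p
      have h1 := hs2 p.2 (p.1, ⟨0, by omega⟩)
      have h0 : flipP p.2 (p.1, ⟨0, by omega⟩) = p := Prod.ext rfl (by
        show xb _ p.2 = p.2
        rw [(xb_facts _ p.2 p.2).2.2.1, (xb_facts p.2 p.2 p.2).2.2.2.1])
      rw [h0] at h1
      rw [h1]
      refine Prod.ext (hfix _) ?_
      show xb (δ p.1) p.2 = _
      rw [(xb_facts (δ p.1) p.2 p.2).2.2.1]
    have hedge : ∀ i j : Fin 672, adjA i j = true → δ i = δ j := by
      intro i j hij
      have hS : edgeS i j < 4 := by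
        have key : ∀ a b : Bool, cond a 1 0 + cond b 2 0 < 4 := by decide
        unfold edgeS
        cases upA i j <;> exact key _ _
      obtain ⟨b, hb⟩ : ∃ b : Fin 4, b.val = edgeS i j := ⟨⟨_, hS⟩, rfl⟩
      have he : Edge (i, ⟨0, by omega⟩) (j, b) := ⟨hij, by
        show (0 : ℕ) ^^^ b.val = _
        rw [Nat.zero_xor, hb]⟩
      have h2 := (hs3 _ _ he).2
      rw [hsv, hsv] at h2
      change (xb _ (δ i)).val ^^^ (xb b (δ j)).val = edgeS i j at h2
      rw [← hb] at h2
      have key : ∀ b x y : Fin 4, (xb ⟨0, Nat.succ_pos 3⟩ x).val ^^^ (xb b y).val = b.val → x = y := by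
        decide +kernel
      exact key b _ _ h2
    have hconst : ∀ i : Fin 672, δ i = δ ⟨0, by omega⟩ := by
      intro i
      have h1 := List.all_eq_true.1 pts_ok i.val (List.mem_range.2 i.2)
      simp only [Bool.and_eq_true, joinOK, Bool.or_eq_true, Nat.beq_eq] at h1
      rcases h1.2 with (h2 | h2) | h2
      · exact congrArg δ (Fin.ext h2)
      · exact (hedge ⟨0, by omega⟩ i h2).symm
      · obtain ⟨⟨hlt, ha⟩, hb⟩ := h2
        exact ((hedge ⟨0, by omega⟩ ⟨_, Nat.le_of_ble_eq_true hlt⟩ ha).trans (hedge ⟨_, _⟩ i hb)).symm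
    refine ⟨δ ⟨0, by omega⟩, Subtype.ext (Prod.ext rfl (Equiv.ext fun p => ?_))⟩
    show s p = flipP _ p
    rw [hsv, hconst]
    rfl
  · rintro ⟨d, rfl⟩
    rfl

theorem covFlip_injective : Function.Injective (covFlip e) := fun a b hab => by
  have h1 : flipP a (⟨0, by omega⟩, ⟨0, by omega⟩) = flipP b (⟨0, by omega⟩, ⟨0, by omega⟩) :=
    congrArg (fun x : CovGrp e => x.1.2 (⟨0, by omega⟩, ⟨0, by omega⟩)) hab
  have h2 := congrArg Prod.snd h1
  simp only [flipP] at h2
  rw [(xb_facts _ a a).2.2.1, (xb_facts _ b b).2.2.1, (xb_facts a a a).2.2.2.1, (xb_facts b b b).2.2.2.1] at h2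
  exact h2

theorem covFlip_mul (a b : Fin 4) : covFlip e a * covFlip e b = covFlip e (xb b a) := by
  refine Subtype.ext (Prod.ext (one_mul 1) (Equiv.ext fun p => ?_))
  show flipP a (flipP b p) = flipP (xb b a) p
  exact Prod.ext rfl (xb_facts p.2 b a).2.1

theorem covFlip_zero : covFlip e ⟨0, by omega⟩ = 1 := by
  refine Subtype.ext (Prod.ext rfl (Equiv.ext fun p => ?_))
  exact Prod.ext rfl (xb_facts p.2 p.2 p.2).2.2.2.1

theorem covFlip_central (d : Fin 4) : covFlip e d ∈ Subgroup.center (CovGrp e) := by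
  rw [Subgroup.mem_center_iff]
  intro x
  refine Subtype.ext (Prod.ext ((mul_one _).trans (one_mul _).symm) (Equiv.ext fun p => ?_))
  exact x.2.2.1 d p

include hF in
theorem natCard_ker_covProj : Nat.card (covProj e).ker = 4 := by
  let f : Fin 4 → (covProj e).ker := fun d => ⟨covFlip e d, (ker_covProj e hF).2 ⟨d, rfl⟩⟩
  have hf : Function.Bijective f := ⟨fun a b hab => covFlip_injective e (congrArg Subtype.val hab),
    fun x => by
      obtain ⟨d, hd⟩ := (ker_covProj e hF).1 x.2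
      exact ⟨d, Subtype.ext hd.symm⟩⟩
  rw [← Nat.card_congr (Equiv.ofBijective f hf), Nat.card_fin]

/-! ### Generators -/

/-- what is checked of a generator -/
def GenOK (w : List ℕ) (pi ep : Trie) : Prop :=
  isoW w = true ∧ ∀ i < 672, actOK w pi ep i = true ∧ keepOK pi ep i = true

theorem genOK_zero : GenOK [5] piT0 epT0 := by
  refine ⟨by decide +kernel, fun i hi => ⟨?_, List.all_eq_true.1 keep0_ok i (List.mem_range.2 hi)⟩⟩
  have := List.all_eq_true.1 act_ok i (List.mem_range.2 hi)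
  simp only [Bool.and_eq_true] at this
  exact this.1.1.1.1.1.1

theorem genOK_one : GenOK gWord piT1 epT1 := by
  refine ⟨orbit_ok.2, fun i hi => ⟨?_, List.all_eq_true.1 keep1_ok i (List.mem_range.2 hi)⟩⟩
  have := List.all_eq_true.1 act_ok i (List.mem_range.2 hi)
  simp only [Bool.and_eq_true] at this
  exact this.1.1.1.1.1.2

include hF h in
theorem exists_cov_gen {w : List ℕ} {pi ep : Trie} (hg : GenOK w pi ep) :
    ∃ x : CovGrp e, x.1.1 = gW e hF h w ∧
      ∀ p : Pt, ((x.1.2 p).1 : ℕ) = pi.get p.1 ∧ ((x.1.2 p).2 : ℕ) = ep.get p.1 ^^^ p.2.val := by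
  have hact : ∀ i : Fin 672, pi.get i < 672 ∧ ep.get i < 4 ∧
      ∃ c : F, c ≠ 0 ∧ (gW e hF h w).1.1 *ᵥ vec e (nv i) = c • vec e (nv (pi.get i)) := fun i => by
    have h1 := (hg.2 i i.2).1
    simp only [actOK, Bool.and_eq_true] at h1
    exact ⟨Nat.le_of_ble_eq_true h1.1.1, Nat.le_of_ble_eq_true h1.1.2, moves_spec e hF h hg.1 h1.2⟩
  let f : Pt → Pt := fun p =>
    (⟨pi.get p.1, (hact p.1).1⟩, xb ⟨ep.get p.1, (hact p.1).2.1⟩ p.2)
  have hinj : Function.Injective f := by
    intro p q hpq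
    have h1 : pi.get p.1 = pi.get q.1 := congrArg (fun r : Pt => r.1.val) hpq
    obtain ⟨c, hc, ec⟩ := (hact p.1).2.2
    obtain ⟨d, hd, ed⟩ := (hact q.1).2.2
    rw [h1] at ec
    have h2 : (gW e hF h w).1.1 *ᵥ (d • vec e (nv p.1)) = (gW e hF h w).1.1 *ᵥ (c • vec e (nv q.1)) := by
      rw [mulVec_smul, mulVec_smul, ec, ed, smul_smul, smul_smul, mul_comm]
    have h3 : d • vec e (nv p.1) = c • vec e (nv q.1) := by
      have := congrArg (fun v => ((gW e hF h w)⁻¹).1.1 *ᵥ v) h2
      simpa only [← su_mul_mulVec, inv_mul_cancel, su_one_mulVec] using this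
    have hp : p.1 = q.1 := Fin.ext (index_unique e hF p.1.2 q.1.2 hd hc h3)
    have h4 : xb ⟨ep.get p.1, (hact p.1).2.1⟩ p.2 = xb ⟨ep.get q.1, (hact q.1).2.1⟩ q.2 :=
      congrArg Prod.snd hpq
    obtain ⟨i, b⟩ := p
    obtain ⟨j, b'⟩ := q
    have hp' : i = j := hp
    subst hp'
    have key : ∀ a x y : Fin 4, xb a x = xb a y → x = y := by decide +kernel
    exact Prod.ext rfl (key _ _ _ h4)
  have hbij : Function.Bijective f := hinj.bijective_of_finite
  have hv : ∀ p : Pt, ((f p).2 : ℕ) = ep.get p.1 ^^^ p.2.val := fun p => (xb_facts _ p.2 p.2).1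
  refine ⟨⟨(gW e hF h w, Equiv.ofBijective f hbij), fun p => ?_, fun d p => ?_, ?_⟩, rfl,
    fun p => ⟨rfl, hv p⟩⟩
  · exact (hact p.1).2.2
  · refine Prod.ext rfl ?_
    show xb _ (xb p.2 d) = xb (xb _ p.2) d
    rw [(xb_facts _ p.2 d).2.1]
    rfl
  · -- edges, checked from the smaller end
    have hup : ∀ p q : Pt, upA p.1 q.1 = true → p.2.val ^^^ q.2.val = upS p.1 q.1 → Edge (f p) (f q) := by
      intro p q hu hs
      have h1 := (hg.2 p.1 p.1.2).2
      simp only [keepOK, forceN_eq, List.all_eq_true] at h1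
      have h2 := h1 q.1 (mem_upList p.1.2 hu).1
      unfold Edge
      rw [hv, hv]
      show adjA (pi.get p.1) (pi.get q.1) = true ∧ _ = edgeS (pi.get p.1) (pi.get q.1)
      have e1 : (ep.get p.1 ^^^ p.2.val) ^^^ (ep.get q.1 ^^^ q.2.val) =
          upS p.1 q.1 ^^^ (ep.get p.1 ^^^ ep.get q.1) := by
        rw [← hs]
        simp only [Nat.xor_assoc, Nat.xor_comm, Nat.xor_left_comm]
      rw [e1]
      simp only [edgeOK, Nat.beq_eq, Bool.and_eq_true] at h2
      cases hab : upA (pi.get p.1) (pi.get q.1) with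
      | true =>
        have hab' : (mkT.get (pi.get p.1)).testBit (pi.get q.1) = true := hab
        rw [hab', cond_true, Nat.beq_eq] at h2
        exact ⟨by simp [adjA, hab], by simp only [edgeS, hab, cond_true]; exact h2.symm⟩
      | false =>
        have hab' : (mkT.get (pi.get p.1)).testBit (pi.get q.1) = false := hab
        rw [hab', cond_false, Bool.and_eq_true, Nat.beq_eq] at h2
        have hba : upA (pi.get q.1) (pi.get p.1) = true := h2.1
        exact ⟨by simp [adjA, hba], by simp only [edgeS, hab, cond_false]; exact h2.2.symm⟩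
    intro p q hpq
    obtain ⟨hadj, hs⟩ := hpq
    show Edge (f p) (f q)
    simp only [adjA, Bool.or_eq_true] at hadj
    rcases hadj with hu | hu
    · exact hup p q hu (by simpa [edgeS, hu] using hs)
    · have hq := hup q p hu (by
        rw [Nat.xor_comm, hs, edgeS_comm p.1.2 q.1.2 (by simp [adjA, hu]), edgeS, hu, cond_true])
      exact ⟨by rw [adjA_comm]; exact hq.1, by
        rw [Nat.xor_comm, hq.2, edgeS_comm (f q).1.2 (f p).1.2 hq.1]⟩

/-- The two generators with their inverse relations. -/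
theorem exists_gens : ∃ a b : CovGrp e, a.1.1 = gW e hF h [5] ∧ b.1.1 = gW e hF h gWord ∧ a * a = 1 ∧
    ∀ k < 3, ∀ p : Pt,
      ((((if k = 0 then a else if k = 1 then b else b⁻¹) : CovGrp e).1.2 p).1 : ℕ) = (letterPi k).get p.1 ∧
      ((((if k = 0 then a else if k = 1 then b else b⁻¹) : CovGrp e).1.2 p).2 : ℕ) =
        (letterEp k).get p.1 ^^^ p.2.val := by
  obtain ⟨a, ha, hap⟩ := exists_cov_gen e hF h genOK_zero
  obtain ⟨b, hb, hbp⟩ := exists_cov_gen e hF h genOK_one
  have hact := fun i : Fin 672 => List.all_eq_true.1 act_ok i.val (List.mem_range.2 i.2)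
  simp only [Bool.and_eq_true, Nat.beq_eq] at hact
  refine ⟨a, b, ha, hb, Subtype.ext (Prod.ext ?_ (Equiv.ext fun p => ?_)), ?_⟩
  · show a.1.1 * a.1.1 = 1
    rw [ha, gW_cons, gW_nil, mul_one, tv_sq e hF h (by decide +kernel)]
  · show a.1.2 (a.1.2 p) = p
    obtain ⟨⟨⟨⟨-, -⟩, h0⟩, h1⟩, -⟩ := hact p.1
    refine Prod.ext (Fin.ext ?_) (Fin.ext ?_)
    · rw [(hap _).1, (hap _).1, h0]
    · rw [(hap _).2, (hap _).2, (hap _).1, ← Nat.xor_assoc, Nat.xor_comm (epT0.get _), h1, Nat.zero_xor]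
  · intro k hk p
    interval_cases k
    · exact hap p
    · exact hbp p
    · simp only [show (2 : ℕ) ≠ 0 by norm_num, show (2 : ℕ) ≠ 1 by norm_num, if_false]
      obtain ⟨q, rfl⟩ := b.1.2.surjective p
      have h2 : (b⁻¹).1.2 (b.1.2 q) = q := by
        show (b.1⁻¹).2 (b.1.2 q) = q
        rw [Prod.snd_inv, Equiv.Perm.inv_def, Equiv.symm_apply_apply]
      rw [h2]
      obtain ⟨⟨⟨⟨⟨⟨-, -⟩, h3⟩, -⟩, -⟩, -⟩, -⟩ := hact q.1
      refine ⟨?_, ?_⟩
      · show (q.1 : ℕ) = piT2.get (b.1.2 q).1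
        rw [(hbp q).1, h3]
      · show (q.2 : ℕ) = epT2.get (b.1.2 q).1 ^^^ (b.1.2 q).2.val
        obtain ⟨-, h5⟩ := hact (b.1.2 q).1
        rw [h5, (hbp q).1, h3, (hbp q).2, ← Nat.xor_assoc, Nat.xor_self, Nat.zero_xor]

include hF h in
theorem covProj_surjective : Function.Surjective (covProj e) := by
  obtain ⟨a, b, ha, hb, -, -⟩ := exists_gens e hF h
  rw [← MonoidHom.range_eq_top]
  have hg : ∀ k : ℕ, k < 2 → gW e hF h (if k = 0 then [5] else gWord) ∈ (covProj e).range := fun k hk => by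
    interval_cases k
    · exact ⟨a, ha⟩
    · exact ⟨b, hb⟩
  have hmult : ∀ y x, hm y y % 4 = 0 → (multBits y).testBit x = true → hm x x % 4 = 0 →
      tv e hF h x = tv e hF h y := by
    intro y x hy hx hxx
    simp only [multBits, Nat.testBit_or, Bool.or_eq_true, Nat.one_shiftLeft, Nat.testBit_two_pow,
      decide_eq_true_eq] at hx
    have ne : ∀ a < 4, 0 < a → el e a ≠ 0 := fun a ha h0 he => by
      rw [← el_zero e, el_inj, Nat.mod_eq_of_lt ha] at he; omega
    have key : ∀ c, c < 4 → 0 < c → smulC c y % 4096 = x → tv e hF h x = tv e hF h y := fun c hc hc0 he => by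
      have := conj_tv e hF h hxx hy (g := 1) (c := el e c) (ne c hc hc0) (by
        rw [su_one_mulVec, ← vec_smulC, vec_inj, ← he, Nat.mod_mod])
      simpa using this
    rcases hx with hx | hx | hx
    · exact key 1 (by norm_num) (by norm_num) hx
    · exact key 2 (by norm_num) (by norm_num) hx
    · exact key 3 (by norm_num) (by norm_num) hx
  have key : ∀ (l : List (ℕ × ℕ × ℕ)) (acc : ℕ), orbitOK acc l = true →
      (∀ x, hm x x % 4 = 0 → acc.testBit x = true → tv e hF h x ∈ (covProj e).range) →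
      ∀ x < 4096, hm x x % 4 = 0 → tv e hF h x ∈ (covProj e).range := by
    intro l
    induction l with
    | nil =>
      intro acc hok hacc x hx hiso
      have h1 := List.all_eq_true.1 hok x (List.mem_range.2 hx)
      simp only [Bool.or_eq_true, Bool.not_eq_true', Nat.beq_eq] at h1
      rcases h1 with (h1 | h1) | h1
      · exfalso
        have h4 : hm x x < 4 := by
          have : ∀ a b, qm a b < 4 := fun a b => Nat.mod_lt _ (by norm_num)
          simp only [hm]
          iterate 5 refine Nat.xor_lt_two_pow (n := 2) (this _ _) ?_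
          exact this _ _
        rw [Nat.mod_eq_of_lt h4] at hiso
        rw [← Bool.not_eq_true, Nat.beq_eq] at h1
        exact h1 hiso
      · subst h1
        have : tv e hF h 0 = 1 := su_ext fun v => by
          rw [tv_mulVec e hF h (by decide), su_one_mulVec, vec_zero, smul_zero, add_zero]
        rw [this]; exact one_mem _
      · exact hacc x hiso h1
    | cons q r ih =>
      obtain ⟨y, p, k⟩ := q
      intro acc hok hacc
      simp only [orbitOK, Bool.and_eq_true, Nat.beq_eq] at hok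
      obtain ⟨⟨⟨⟨⟨hp, hk⟩, hmv⟩, hy⟩, hpp⟩, hrest⟩ := hok
      refine ih _ hrest fun x hiso hxb => ?_
      rw [Nat.testBit_or, Bool.or_eq_true] at hxb
      rcases hxb with hxb | hxb
      · exact hacc x hiso hxb
      · have hyy : hm y y % 4 = 0 := by rw [hy]
        have hp4 : hm p p % 4 = 0 := by rw [hpp]
        rw [hmult y x hyy hxb hiso]
        have hk2 := Nat.le_of_ble_eq_true hk
        have hw : isoW (if k = 0 then [5] else gWord) = true := by
          split_ifs
          · decide +kernel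
          · exact orbit_ok.2
        obtain ⟨c, hc, ec⟩ := moves_spec e hF h hw hmv
        rw [← conj_tv e hF h hp4 hyy hc ec]
        exact mul_mem (mul_mem (hg k hk2) (hacc p hp4 hp)) (inv_mem (hg k hk2))
  refine eq_top_of_tv e hF h fun x hx hiso => key orbitData _ orbit_ok.1 (fun y hyy hb => ?_) x hx hiso
  rw [hmult 5 y (by decide +kernel) hb hyy, show tv e hF h 5 = gW e hF h [5] by rw [gW_cons, gW_nil, mul_one]]
  exact ⟨a, ha⟩

end CfsgLib.KnownB.U62Mult
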