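import Cfsg.Agent.Lib.KnownB.U62Mult.CoverCode

/-! The second generator preserves the signed edges. -/

set_option autoImplicit false
set_option maxRecDepth 100000
set_option Elab.async false

namespace CfsgLib.KnownB.U62Mult

theorem keep1_ok_0 : ((List.range' 0 48).all fun i => keepOK piT1 epT1 i) = true := by decide +kernel

theorem keep1_ok_48 : ((List.range' 48 48).all fun i => keepOK piT1 epT1 i) = true := by decide +kernel

theorem keep1_ok_96 : ((List.range' 96 48).all fun i => keepOK piT1 epT1 i) = true := by decide +kernel

theorem keep1_ok_144 : ((List.range' 144 48).all fun i => keepOK piT1 epT1 i) = true := by decide +kernel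

end CfsgLib.KnownB.U62Mult
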