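import Cfsg.Agent.Lib.KnownB.U62Mult.CoverCode

/-! Checks on the points and the rows of the graph. -/

set_option autoImplicit false
set_option maxRecDepth 100000

namespace CfsgLib.KnownB.U62Mult

theorem pts_ok : ((List.range 672).all fun i => ptOK i && joinOK i) = true := by decide +kernel

theorem rows_ok : ((List.range 672).all fun i => rowOK i) = true := by decide +kernel

theorem act_ok : ((List.range 672).all fun i => actOK [5] piT0 epT0 i && actOK gWord piT1 epT1 i &&
    Nat.beq (piT2.get (piT1.get i)) i && Nat.beq (piT1.get (piT2.get i)) i &&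
    Nat.beq (piT0.get (piT0.get i)) i && Nat.beq (epT0.get i ^^^ epT0.get (piT0.get i)) 0 &&
    Nat.beq (epT2.get i) (epT1.get (piT2.get i))) = true := by decide +kernel

theorem orbit_ok : orbitOK (multBits 5) orbitData = true ∧ isoW gWord = true := by
  refine ⟨?_, ?_⟩ <;> decide +kernel

theorem sums_ok : sumsOK flipWord1 = true ∧ sumsOK flipWord2 = true ∧
    bas.all (fun b => (List.range 672).any fun i => Nat.beq (nv i) b) = true := by
  refine ⟨?_, ?_, ?_⟩ <;> decide +kernel

end CfsgLib.KnownB.U62Mult
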