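import Cfsg.Agent.Lib.KnownB.U62Mult.CoverKeep0a
import Cfsg.Agent.Lib.KnownB.U62Mult.CoverKeep0b
import Cfsg.Agent.Lib.KnownB.U62Mult.CoverKeep1a
import Cfsg.Agent.Lib.KnownB.U62Mult.CoverKeep1b
import Cfsg.Agent.Lib.KnownB.U62Mult.CoverFlip
import Cfsg.Agent.Lib.KnownB.U62Mult.CoverPts

/-! The checks put together. -/

set_option autoImplicit false

namespace CfsgLib.KnownB.U62Mult

theorem keep0_ok : ((List.range 672).all fun i => keepOK piT0 epT0 i) = true := by
  rw [List.all_eq_true]
  intro i hi
  rw [List.mem_range] at hi
  have key : ∀ s n, ((List.range' s n).all fun i => keepOK piT0 epT0 i) = true → s ≤ i → i < s + n → (keepOK piT0 epT0 i) = true :=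
    fun s n h h1 h2 => List.all_eq_true.1 h i (List.mem_range'_1.2 ⟨h1, h2⟩)
  by_cases h0 : i < 48
  · exact key 0 48 keep0_ok_0 (by omega) (by omega)
  by_cases h48 : i < 96
  · exact key 48 48 keep0_ok_48 (by omega) (by omega)
  by_cases h96 : i < 144
  · exact key 96 48 keep0_ok_96 (by omega) (by omega)
  by_cases h144 : i < 192
  · exact key 144 48 keep0_ok_144 (by omega) (by omega)
  by_cases h192 : i < 240
  · exact key 192 48 keep0_ok_192 (by omega) (by omega)
  by_cases h240 : i < 288
  · exact key 240 48 keep0_ok_240 (by omega) (by omega)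
  by_cases h288 : i < 336
  · exact key 288 48 keep0_ok_288 (by omega) (by omega)
  by_cases h336 : i < 384
  · exact key 336 48 keep0_ok_336 (by omega) (by omega)
  by_cases h384 : i < 432
  · exact key 384 48 keep0_ok_384 (by omega) (by omega)
  by_cases h432 : i < 480
  · exact key 432 48 keep0_ok_432 (by omega) (by omega)
  by_cases h480 : i < 528
  · exact key 480 48 keep0_ok_480 (by omega) (by omega)
  by_cases h528 : i < 576
  · exact key 528 48 keep0_ok_528 (by omega) (by omega)
  by_cases h576 : i < 624
  · exact key 576 48 keep0_ok_576 (by omega) (by omega)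
  by_cases h624 : i < 672
  · exact key 624 48 keep0_ok_624 (by omega) (by omega)
  omega

theorem keep1_ok : ((List.range 672).all fun i => keepOK piT1 epT1 i) = true := by
  rw [List.all_eq_true]
  intro i hi
  rw [List.mem_range] at hi
  have key : ∀ s n, ((List.range' s n).all fun i => keepOK piT1 epT1 i) = true → s ≤ i → i < s + n → (keepOK piT1 epT1 i) = true :=
    fun s n h h1 h2 => List.all_eq_true.1 h i (List.mem_range'_1.2 ⟨h1, h2⟩)
  by_cases h0 : i < 48
  · exact key 0 48 keep1_ok_0 (by omega) (by omega)
  by_cases h48 : i < 96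
  · exact key 48 48 keep1_ok_48 (by omega) (by omega)
  by_cases h96 : i < 144
  · exact key 96 48 keep1_ok_96 (by omega) (by omega)
  by_cases h144 : i < 192
  · exact key 144 48 keep1_ok_144 (by omega) (by omega)
  by_cases h192 : i < 240
  · exact key 192 48 keep1_ok_192 (by omega) (by omega)
  by_cases h240 : i < 288
  · exact key 240 48 keep1_ok_240 (by omega) (by omega)
  by_cases h288 : i < 336
  · exact key 288 48 keep1_ok_288 (by omega) (by omega)
  by_cases h336 : i < 384
  · exact key 336 48 keep1_ok_336 (by omega) (by omega)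
  by_cases h384 : i < 432
  · exact key 384 48 keep1_ok_384 (by omega) (by omega)
  by_cases h432 : i < 480
  · exact key 432 48 keep1_ok_432 (by omega) (by omega)
  by_cases h480 : i < 528
  · exact key 480 48 keep1_ok_480 (by omega) (by omega)
  by_cases h528 : i < 576
  · exact key 528 48 keep1_ok_528 (by omega) (by omega)
  by_cases h576 : i < 624
  · exact key 576 48 keep1_ok_576 (by omega) (by omega)
  by_cases h624 : i < 672
  · exact key 624 48 keep1_ok_624 (by omega) (by omega)
  omega

theorem flip_ok : ((List.range 672).all fun i => flipOK flipWord1 flip1 i && flipOK flipWord2 flip2 i &&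
    flipOK (List.replicate gOrd 1) 0 i) = true := by
  rw [List.all_eq_true]
  intro i hi
  rw [List.mem_range] at hi
  have key : ∀ s n, ((List.range' s n).all fun i => flipOK flipWord1 flip1 i && flipOK flipWord2 flip2 i &&
    flipOK (List.replicate gOrd 1) 0 i) = true → s ≤ i → i < s + n → (flipOK flipWord1 flip1 i && flipOK flipWord2 flip2 i &&
    flipOK (List.replicate gOrd 1) 0 i) = true :=
    fun s n h h1 h2 => List.all_eq_true.1 h i (List.mem_range'_1.2 ⟨h1, h2⟩)
  by_cases h0 : i < 48
  · exact key 0 48 flip_ok_0 (by omega) (by omega)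
  by_cases h48 : i < 96
  · exact key 48 48 flip_ok_48 (by omega) (by omega)
  by_cases h96 : i < 144
  · exact key 96 48 flip_ok_96 (by omega) (by omega)
  by_cases h144 : i < 192
  · exact key 144 48 flip_ok_144 (by omega) (by omega)
  by_cases h192 : i < 240
  · exact key 192 48 flip_ok_192 (by omega) (by omega)
  by_cases h240 : i < 288
  · exact key 240 48 flip_ok_240 (by omega) (by omega)
  by_cases h288 : i < 336
  · exact key 288 48 flip_ok_288 (by omega) (by omega)
  by_cases h336 : i < 384
  · exact key 336 48 flip_ok_336 (by omega) (by omega)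
  by_cases h384 : i < 432
  · exact key 384 48 flip_ok_384 (by omega) (by omega)
  by_cases h432 : i < 480
  · exact key 432 48 flip_ok_432 (by omega) (by omega)
  by_cases h480 : i < 528
  · exact key 480 48 flip_ok_480 (by omega) (by omega)
  by_cases h528 : i < 576
  · exact key 528 48 flip_ok_528 (by omega) (by omega)
  by_cases h576 : i < 624
  · exact key 576 48 flip_ok_576 (by omega) (by omega)
  by_cases h624 : i < 672
  · exact key 624 48 flip_ok_624 (by omega) (by omega)
  omega

end CfsgLib.KnownB.U62Mult
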