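import Cfsg.Agent.Lib.KnownB.U62Mult.Trie

/-! Generators of the covering group. -/

set_option autoImplicit false
set_option maxRecDepth 100000

namespace CfsgLib.KnownB.U62Mult

/-- the second generator -/
def gWord : List Nat :=
  [285, 2852, 1201, 3737, 372, 3249]

/-- its order on the covering points -/
def gOrd : Nat :=
  14

/-- first permutation -/
def piT0 : Trie :=
  .nd (.nd (.nd (.nd (.nd (.nd (.nd (.nd (.nd (.nd (.lf 1) (.lf 513)) (.lf 257)) (.nd (.nd (.lf 128) (.lf 232)) (.lf 384))) (.nd (.nd (.nd (.lf 64) (.lf 294)) (.lf 321)) (.nd (.lf 192) (.lf 447)))) (.nd (.nd (.nd (.nd (.lf 24) (.lf 374)) (.lf 287)) (.nd (.lf 84) (.lf 417))) (.nd (.nd (.nd (.lf 95) (.lf 609)) (.lf 351)) (.nd (.lf 224) (.lf 480))))) (.nd (.nd (.nd (.nd (.nd (.lf 17) (.lf 529)) (.lf 560)) (.nd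 (.nd (.lf 130) (.lf 254)) (.lf 400))) (.nd (.nd (.nd (.lf 80) (.lf 593)) (.lf 337)) (.nd (.lf 524) (.lf 463)))) (.nd (.nd (.nd (.nd (.lf 49) (.lf 272)) (.lf 304)) (.nd (.lf 176) (.lf 639))) (.nd (.nd (.nd (.lf 171) (.lf 411)) (.lf 547)) (.nd (.lf 241) (.lf 497)))))) (.nd (.nd (.nd (.nd (.nd (.nd (.lf 10) (.lf 386)) (.lf 264)) (.nd (.nd (.lf 137) (.lf 649)) (.lf 599))) (.nd (.nd (.nd (.lf 148) (.lf 491)) (.lf 327)) (.nd (.lf 200) (.lf 457)))) (.nd (.nd (.nd (.nd (.lf 40) (.lf 553)) (.lf 297)) (.nd (.lf 118) (.lf 423))) (.nd (.nd (.nd (.lf 104) (.lf 334)) (.lf 360)) (.nd (.lf 640) (.lf 487))))) (.nd (.nd (.nd (.nd (.nd (.lf 32) (.lf 220)) (.lf 281)) (.nd (.nd (.lf 153) (.lf 451)) (.lf 407))) (.nd (.nd (.nd (.lf 132) (.lf 312)) (.lf 508)) (.nd (.lf 216) (.lf 559)))) (.nd (.nd (.nd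 (.nd (.lf 56) (.lf 569)) (.lf 600)) (.nd (.lf 185) (.lf 440))) (.nd (.nd (.nd (.lf 119) (.lf 633)) (.lf 375)) (.nd (.lf 247) (.lf 503))))))) (.nd (.nd (.nd (.nd (.nd (.nd (.nd (.lf 11) (.lf 517)) (.lf 261)) (.nd (.nd (.lf 88) (.lf 644)) (.lf 387))) (.nd (.nd (.nd (.lf 68) (.lf 579)) (.lf 324)) (.nd (.lf 548) (.lf 453)))) (.nd (.nd (.nd (.nd (.lf 37) (.lf 196)) (.lf 291)) (.nd (.lf 165) (.lf 606))) (.nd (.nd (.nd (.lf 159) (.lf 613)) (.lf 535)) (.nd (.lf 228) (.lf 483))))) (.nd (.nd (.nd (.nd (.nd (.lf 21) (.lf 362)) (.lf 585)) (.nd (.nd (.lf 72) (.lf 659)) (.lf 403))) (.nd (.nd (.nd (.lf 160) (.lf 398)) (.lf 341)) (.nd (.lf 212) (.lf 467)))) (.nd (.nd (.nd (.nd (.lf 52) (.lf 564)) (.lf 308)) (.nd (.lf 181) (.lf 436))) (.nd (.nd (.nd (.lf 116) (.lf 629)) (.lf 372)) (.nd (.lf 244)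 (.lf 566)))))) (.nd (.nd (.nd (.nd (.nd (.nd (.lf 12) (.lf 208)) (.lf 268)) (.nd (.nd (.lf 141) (.lf 653)) (.lf 396))) (.nd (.nd (.nd (.lf 76) (.lf 589)) (.lf 331)) (.nd (.lf 204) (.lf 646)))) (.nd (.nd (.nd (.nd (.lf 45) (.lf 478)) (.lf 301)) (.nd (.lf 60) (.lf 427))) (.nd (.nd (.nd (.lf 107) (.lf 619)) (.lf 363)) (.nd (.lf 665) (.lf 493))))) (.nd (.nd (.nd (.nd (.nd (.lf 27) (.lf 541)) (.lf 284)) (.nd (.nd (.lf 106) (.lf 669)) (.lf 413))) (.nd (.nd (.nd (.lf 91) (.lf 604)) (.lf 347)) (.nd (.lf 536) (.lf 476)))) (.nd (.nd (.nd (.nd (.lf 172) (.lf 573)) (.lf 625)) (.nd (.lf 188) (.lf 443))) (.nd (.nd (.nd (.lf 147) (.lf 438)) (.lf 523)) (.nd (.lf 251) (.lf 344)))))))) (.nd (.nd (.nd (.nd (.nd (.nd (.nd (.nd (.lf 2) (.lf 515)) (.lf 259)) (.nd (.nd (.lf 144) (.lf 435)) (.lf 520)))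 (.nd (.nd (.nd (.lf 151) (.lf 577)) (.lf 323)) (.nd (.lf 373) (.lf 237)))) (.nd (.nd (.nd (.nd (.lf 35) (.lf 546)) (.lf 289)) (.nd (.lf 103) (.lf 418))) (.nd (.nd (.nd (.lf 98) (.lf 611)) (.lf 354)) (.nd (.lf 643) (.lf 575))))) (.nd (.nd (.nd (.nd (.nd (.lf 19) (.lf 530)) (.lf 274)) (.nd (.nd (.lf 146) (.lf 657)) (.lf 615))) (.nd (.nd (.nd (.lf 105) (.lf 594)) (.lf 339)) (.nd (.lf 211) (.lf 465)))) (.nd (.nd (.nd (.nd (.lf 51) (.lf 475)) (.lf 603)) (.nd (.lf 509) (.lf 227))) (.nd (.nd (.nd (.lf 55) (.lf 627)) (.lf 191)) (.nd (.lf 243) (.lf 498)))))) (.nd (.nd (.nd (.nd (.nd (.nd (.lf 8) (.lf 522)) (.lf 563)) (.nd (.nd (.lf 139) (.lf 651)) (.lf 307))) (.nd (.nd (.nd (.lf 75) (.lf 587)) (.lf 329)) (.nd (.lf 527) (.lf 458)))) (.nd (.nd (.nd (.nd (.lf 133) (.lf 554)) (.lf 299)) (.nd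 (.lf 170) (.lf 425))) (.nd (.nd (.nd (.lf 156) (.lf 617)) (.lf 532)) (.nd (.lf 234) (.lf 277))))) (.nd (.nd (.nd (.nd (.nd (.lf 25) (.lf 359)) (.lf 283)) (.nd (.nd (.lf 154) (.lf 667)) (.lf 317))) (.nd (.nd (.nd (.lf 89) (.lf 395)) (.lf 345)) (.nd (.lf 361) (.lf 267)))) (.nd (.nd (.nd (.nd (.lf 117) (.lf 571)) (.lf 314)) (.nd (.lf 187) (.lf 655))) (.nd (.nd (.nd (.lf 122) (.lf 634)) (.lf 378)) (.nd (.lf 249) (.lf 505))))))) (.nd (.nd (.nd (.nd (.nd (.nd (.nd (.lf 6) (.lf 518)) (.lf 263)) (.nd (.nd (.lf 135) (.lf 460)) (.lf 390))) (.nd (.nd (.nd (.lf 129) (.lf 581)) (.lf 419)) (.nd (.lf 199) (.lf 455)))) (.nd (.nd (.nd (.nd (.lf 39) (.lf 371)) (.lf 576)) (.nd (.lf 166) (.lf 421))) (.nd (.nd (.nd (.lf 79) (.lf 614)) (.lf 215)) (.nd (.lf 437) (.lf 485))))) (.nd (.nd (.nd (.nd (.nd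 (.lf 22) (.lf 534)) (.lf 279)) (.nd (.nd (.lf 127) (.lf 661)) (.lf 405))) (.nd (.nd (.nd (.lf 86) (.lf 598)) (.lf 342)) (.nd (.lf 539) (.lf 470)))) (.nd (.nd (.nd (.nd (.lf 175) (.lf 500)) (.lf 397)) (.nd (.lf 183) (.lf 636))) (.nd (.nd (.nd (.lf 168) (.lf 631)) (.lf 544)) (.nd (.lf 459) (.lf 501)))))) (.nd (.nd (.nd (.nd (.nd (.nd (.lf 33) (.lf 383)) (.lf 477)) (.nd (.nd (.lf 142) (.lf 654)) (.lf 596))) (.nd (.nd (.nd (.lf 163) (.lf 591)) (.lf 616)) (.nd (.lf 385) (.lf 461)))) (.nd (.nd (.nd (.nd (.lf 47) (.lf 558)) (.lf 303)) (.nd (.lf 115) (.lf 430))) (.nd (.nd (.nd (.lf 110) (.lf 621)) (.lf 366)) (.nd (.lf 239) (.lf 495))))) (.nd (.nd (.nd (.nd (.nd (.lf 29) (.lf 542)) (.lf 499)) (.nd (.nd (.lf 158) (.lf 671)) (.lf 415))) (.nd (.nd (.nd (.lf 93) (.lf 420)) (.lf 349)) (.nd (.lf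 223) (.lf 556)))) (.nd (.nd (.nd (.nd (.lf 63) (.lf 574)) (.lf 319)) (.nd (.lf 551) (.lf 445))) (.nd (.nd (.nd (.lf 67) (.lf 638)) (.lf 203)) (.nd (.lf 656) (.lf 511))))))))) (.nd (.nd (.nd (.nd (.nd (.nd (.nd (.nd (.nd (.lf 0) (.lf 512)) (.lf 256)) (.nd (.nd (.lf 70) (.lf 641)) (.lf 206))) (.nd (.nd (.nd (.lf 65) (.lf 578)) (.lf 320)) (.nd (.lf 545) (.lf 449)))) (.nd (.nd (.nd (.nd (.lf 14) (.lf 193)) (.lf 290)) (.nd (.lf 161) (.lf 416))) (.nd (.nd (.nd (.lf 97) (.lf 608)) (.lf 353)) (.nd (.lf 225) (.lf 295))))) (.nd (.nd (.nd (.nd (.nd (.lf 16) (.lf 528)) (.lf 471)) (.nd (.nd (.lf 69) (.lf 658)) (.lf 335))) (.nd (.nd (.nd (.lf 157) (.lf 592)) (.lf 336)) (.nd (.lf 379) (.lf 466)))) (.nd (.nd (.nd (.nd (.lf 48) (.lf 561)) (.lf 305)) (.nd (.lf 177) (.lf 433))) (.nd (.nd (.nd (.lf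 113) (.lf 316)) (.lf 369)) (.nd (.lf 240) (.lf 496)))))) (.nd (.nd (.nd (.nd (.nd (.nd (.lf 9) (.lf 205)) (.lf 265)) (.nd (.nd (.lf 136) (.lf 648)) (.lf 393))) (.nd (.nd (.nd (.lf 123) (.lf 276)) (.lf 330)) (.nd (.lf 201) (.lf 456)))) (.nd (.nd (.nd (.nd (.lf 41) (.lf 552)) (.lf 296)) (.nd (.lf 57) (.lf 426))) (.nd (.nd (.nd (.lf 82) (.lf 618)) (.lf 218)) (.nd (.lf 431) (.lf 489))))) (.nd (.nd (.nd (.nd (.nd (.lf 26) (.lf 537)) (.lf 280)) (.nd (.nd (.lf 152) (.lf 236)) (.lf 409))) (.nd (.nd (.nd (.lf 90) (.lf 601)) (.lf 346)) (.nd (.lf 533) (.lf 473)))) (.nd (.nd (.nd (.nd (.lf 169) (.lf 568)) (.lf 391)) (.nd (.lf 184) (.lf 255))) (.nd (.nd (.nd (.lf 121) (.lf 632)) (.lf 377)) (.nd (.lf 250) (.lf 506))))))) (.nd (.nd (.nd (.nd (.nd (.nd (.nd (.lf 7) (.lf 516)) (.lf 260)) (.nd (.nd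 (.lf 42) (.lf 645)) (.lf 389))) (.nd (.nd (.nd (.lf 145) (.lf 582)) (.lf 607)) (.nd (.lf 367) (.lf 452)))) (.nd (.nd (.nd (.nd (.lf 36) (.lf 549)) (.lf 293)) (.nd (.lf 164) (.lf 422))) (.nd (.nd (.nd (.lf 101) (.lf 612)) (.lf 357)) (.nd (.lf 637) (.lf 486))))) (.nd (.nd (.nd (.nd (.nd (.lf 20) (.lf 217)) (.lf 490)) (.nd (.nd (.lf 149) (.lf 662)) (.lf 406))) (.nd (.nd (.nd (.lf 99) (.lf 309)) (.lf 340)) (.nd (.lf 213) (.lf 469)))) (.nd (.nd (.nd (.nd (.lf 53) (.lf 565)) (.lf 597)) (.nd (.lf 180) (.lf 230))) (.nd (.nd (.nd (.lf 58) (.lf 628)) (.lf 194)) (.nd (.lf 647) (.lf 502)))))) (.nd (.nd (.nd (.nd (.nd (.nd (.lf 13) (.lf 525)) (.lf 557)) (.nd (.nd (.lf 140) (.lf 652)) (.lf 310))) (.nd (.nd (.nd (.lf 77) (.lf 588)) (.lf 333)) (.nd (.lf 521) (.lf 462)))) (.nd (.nd (.nd (.nd (.lf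 44) (.lf 269)) (.lf 300)) (.nd (.lf 173) (.lf 429))) (.nd (.nd (.nd (.lf 109) (.lf 622)) (.lf 365)) (.nd (.lf 450) (.lf 492))))) (.nd (.nd (.nd (.nd (.nd (.lf 30) (.lf 540)) (.lf 567)) (.nd (.nd (.lf 81) (.lf 668)) (.lf 412))) (.nd (.nd (.nd (.lf 94) (.lf 605)) (.lf 350)) (.nd (.lf 355) (.lf 270)))) (.nd (.nd (.nd (.nd (.lf 111) (.lf 572)) (.lf 410)) (.nd (.lf 189) (.lf 446))) (.nd (.nd (.nd (.lf 125) (.lf 229)) (.lf 381)) (.nd (.lf 253) (.lf 178)))))))) (.nd (.nd (.nd (.nd (.nd (.nd (.nd (.nd (.lf 3) (.lf 514)) (.lf 258)) (.nd (.nd (.lf 131) (.lf 226)) (.lf 388))) (.nd (.nd (.nd (.lf 126) (.lf 580)) (.lf 322)) (.nd (.lf 195) (.lf 664)))) (.nd (.nd (.nd (.nd (.lf 34) (.lf 368)) (.lf 292)) (.nd (.lf 78) (.lf 326))) (.nd (.nd (.nd (.lf 85) (.lf 610)) (.lf 221)) (.nd (.lf 434) (.lf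 484))))) (.nd (.nd (.nd (.nd (.nd (.lf 18) (.lf 531)) (.lf 275)) (.nd (.nd (.lf 124) (.lf 660)) (.lf 404))) (.nd (.nd (.nd (.lf 83) (.lf 595)) (.lf 338)) (.nd (.lf 210) (.lf 468)))) (.nd (.nd (.nd (.nd (.lf 50) (.lf 266)) (.lf 394)) (.nd (.lf 343) (.lf 642))) (.nd (.nd (.nd (.lf 174) (.lf 626)) (.lf 550)) (.nd (.lf 242) (.lf 286)))))) (.nd (.nd (.nd (.nd (.nd (.nd (.lf 4) (.lf 380)) (.lf 474)) (.nd (.nd (.lf 138) (.lf 650)) (.lf 602))) (.nd (.nd (.nd (.lf 74) (.lf 586)) (.lf 332)) (.nd (.lf 382) (.lf 246)))) (.nd (.nd (.nd (.nd (.lf 87) (.lf 555)) (.lf 298)) (.nd (.lf 112) (.lf 428))) (.nd (.nd (.nd (.lf 108) (.lf 620)) (.lf 364)) (.nd (.lf 235) (.lf 584))))) (.nd (.nd (.nd (.nd (.nd (.lf 28) (.lf 214)) (.lf 282)) (.nd (.nd (.lf 155) (.lf 666)) (.lf 624))) (.nd (.nd (.nd (.lf 92)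 (.lf 306)) (.lf 348)) (.nd (.lf 219) (.lf 562)))) (.nd (.nd (.nd (.nd (.lf 59) (.lf 570)) (.lf 315)) (.nd (.lf 186) (.lf 444))) (.nd (.nd (.nd (.lf 73) (.lf 635)) (.lf 209)) (.nd (.lf 252) (.lf 507))))))) (.nd (.nd (.nd (.nd (.nd (.nd (.nd (.lf 5) (.lf 519)) (.lf 262)) (.nd (.nd (.lf 134) (.lf 245)) (.lf 313))) (.nd (.nd (.nd (.lf 71) (.lf 583)) (.lf 328)) (.nd (.lf 198) (.lf 454)))) (.nd (.nd (.nd (.nd (.lf 38) (.lf 190)) (.lf 481)) (.nd (.lf 167) (.lf 424))) (.nd (.nd (.nd (.lf 162) (.lf 402)) (.lf 538)) (.nd (.lf 231) (.lf 488))))) (.nd (.nd (.nd (.nd (.nd (.lf 15) (.lf 356)) (.lf 278)) (.nd (.nd (.lf 66) (.lf 663)) (.lf 408))) (.nd (.nd (.nd (.lf 43) (.lf 392)) (.lf 179)) (.nd (.lf 358) (.lf 273)))) (.nd (.nd (.nd (.nd (.lf 114) (.lf 285)) (.lf 311)) (.nd (.lf 182) (.lf 439)))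 (.nd (.nd (.nd (.lf 120) (.lf 630)) (.lf 376)) (.nd (.lf 248) (.lf 504)))))) (.nd (.nd (.nd (.nd (.nd (.nd (.lf 23) (.lf 202)) (.lf 271)) (.nd (.nd (.lf 143) (.lf 442)) (.lf 399))) (.nd (.nd (.nd (.lf 102) (.lf 590)) (.lf 401)) (.nd (.lf 207) (.lf 464)))) (.nd (.nd (.nd (.nd (.lf 46) (.lf 472)) (.lf 302)) (.nd (.lf 54) (.lf 233))) (.nd (.nd (.nd (.lf 61) (.lf 623)) (.lf 197)) (.nd (.lf 238) (.lf 494))))) (.nd (.nd (.nd (.nd (.nd (.lf 31) (.lf 543)) (.lf 288)) (.nd (.nd (.lf 100) (.lf 670)) (.lf 414))) (.nd (.nd (.nd (.lf 96) (.lf 325)) (.lf 352)) (.nd (.lf 222) (.lf 479)))) (.nd (.nd (.nd (.nd (.lf 62) (.lf 482)) (.lf 318)) (.nd (.lf 370) (.lf 448))) (.nd (.nd (.nd (.lf 150) (.lf 432)) (.lf 526)) (.nd (.lf 441) (.lf 510)))))))))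

/-- first shifts -/
def epT0 : Trie :=
  .nd (.nd (.nd (.nd (.nd (.nd (.nd (.nd (.nd (.nd (.lf 0) (.lf 0)) (.lf 0)) (.nd (.nd (.lf 0) (.lf 0)) (.lf 0))) (.nd (.nd (.nd (.lf 0) (.lf 0)) (.lf 0)) (.nd (.lf 0) (.lf 0)))) (.nd (.nd (.nd (.nd (.lf 0) (.lf 0)) (.lf 0)) (.nd (.lf 0) (.lf 0))) (.nd (.nd (.nd (.lf 0) (.lf 0)) (.lf 0)) (.nd (.lf 0) (.lf 0))))) (.nd (.nd (.nd (.nd (.nd (.lf 0) (.lf 0)) (.lf 0)) (.nd (.nd (.lf 0) (.lf 0)) (.lf 0))) (.nd (.nd (.nd (.lf 0) (.lf 0)) (.lf 0)) (.nd (.lf 0) (.lf 0)))) (.nd (.nd (.nd (.nd (.lf 0) (.lf 0)) (.lf 0)) (.nd (.lf 0) (.lf 0))) (.nd (.nd (.nd (.lf 0) (.lf 0)) (.lf 0)) (.nd (.lf 0) (.lf 0)))))) (.nd (.nd (.nd (.nd (.nd (.nd (.lf 0) (.lf 0)) (.lf 0)) (.nd (.nd (.lf 0) (.lf 0)) (.lf 0))) (.nd (.nd (.nd (.lf 0) (.lf 0)) (.lf 0)) (.nd (.lf 0)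 (.lf 0)))) (.nd (.nd (.nd (.nd (.lf 0) (.lf 0)) (.lf 0)) (.nd (.lf 0) (.lf 0))) (.nd (.nd (.nd (.lf 0) (.lf 0)) (.lf 0)) (.nd (.lf 0) (.lf 0))))) (.nd (.nd (.nd (.nd (.nd (.lf 0) (.lf 0)) (.lf 0)) (.nd (.nd (.lf 0) (.lf 0)) (.lf 0))) (.nd (.nd (.nd (.lf 0) (.lf 0)) (.lf 0)) (.nd (.lf 0) (.lf 0)))) (.nd (.nd (.nd (.nd (.lf 0) (.lf 0)) (.lf 0)) (.nd (.lf 0) (.lf 0))) (.nd (.nd (.nd (.lf 0) (.lf 0)) (.lf 0)) (.nd (.lf 0) (.lf 0))))))) (.nd (.nd (.nd (.nd (.nd (.nd (.nd (.lf 0) (.lf 0)) (.lf 0)) (.nd (.nd (.lf 0) (.lf 0)) (.lf 0))) (.nd (.nd (.nd (.lf 0) (.lf 0)) (.lf 0)) (.nd (.lf 0) (.lf 0)))) (.nd (.nd (.nd (.nd (.lf 0) (.lf 0)) (.lf 0)) (.nd (.lf 0) (.lf 0))) (.nd (.nd (.nd (.lf 0) (.lf 0)) (.lf 0)) (.nd (.lf 0) (.lf 0))))) (.nd (.nd (.nd (.nd (.nd (.lf 0) (.lf 0)) (.lf 0)) (.nd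 (.nd (.lf 0) (.lf 0)) (.lf 0))) (.nd (.nd (.nd (.lf 0) (.lf 0)) (.lf 0)) (.nd (.lf 0) (.lf 0)))) (.nd (.nd (.nd (.nd (.lf 0) (.lf 0)) (.lf 0)) (.nd (.lf 0) (.lf 0))) (.nd (.nd (.nd (.lf 0) (.lf 0)) (.lf 0)) (.nd (.lf 0) (.lf 0)))))) (.nd (.nd (.nd (.nd (.nd (.nd (.lf 0) (.lf 0)) (.lf 0)) (.nd (.nd (.lf 0) (.lf 0)) (.lf 0))) (.nd (.nd (.nd (.lf 0) (.lf 0)) (.lf 0)) (.nd (.lf 0) (.lf 0)))) (.nd (.nd (.nd (.nd (.lf 0) (.lf 0)) (.lf 0)) (.nd (.lf 0) (.lf 0))) (.nd (.nd (.nd (.lf 0) (.lf 0)) (.lf 0)) (.nd (.lf 0) (.lf 0))))) (.nd (.nd (.nd (.nd (.nd (.lf 0) (.lf 0)) (.lf 0)) (.nd (.nd (.lf 0) (.lf 0)) (.lf 0))) (.nd (.nd (.nd (.lf 0) (.lf 0)) (.lf 0)) (.nd (.lf 0) (.lf 0)))) (.nd (.nd (.nd (.nd (.lf 0) (.lf 0)) (.lf 0)) (.nd (.lf 0) (.lf 0))) (.nd (.nd (.nd (.lf 0) (.lf 0)) (.lf 0))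 (.nd (.lf 0) (.lf 0)))))))) (.nd (.nd (.nd (.nd (.nd (.nd (.nd (.nd (.lf 0) (.lf 0)) (.lf 0)) (.nd (.nd (.lf 0) (.lf 0)) (.lf 0))) (.nd (.nd (.nd (.lf 0) (.lf 0)) (.lf 0)) (.nd (.lf 0) (.lf 0)))) (.nd (.nd (.nd (.nd (.lf 0) (.lf 0)) (.lf 0)) (.nd (.lf 0) (.lf 0))) (.nd (.nd (.nd (.lf 0) (.lf 0)) (.lf 0)) (.nd (.lf 0) (.lf 0))))) (.nd (.nd (.nd (.nd (.nd (.lf 0) (.lf 0)) (.lf 0)) (.nd (.nd (.lf 0) (.lf 0)) (.lf 0))) (.nd (.nd (.nd (.lf 0) (.lf 0)) (.lf 0)) (.nd (.lf 0) (.lf 0)))) (.nd (.nd (.nd (.nd (.lf 0) (.lf 0)) (.lf 0)) (.nd (.lf 0) (.lf 0))) (.nd (.nd (.nd (.lf 0) (.lf 0)) (.lf 0)) (.nd (.lf 0) (.lf 0)))))) (.nd (.nd (.nd (.nd (.nd (.nd (.lf 0) (.lf 0)) (.lf 0)) (.nd (.nd (.lf 0) (.lf 0)) (.lf 0))) (.nd (.nd (.nd (.lf 0) (.lf 0)) (.lf 0)) (.nd (.lf 0) (.lf 0)))) (.nd (.nd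 (.nd (.nd (.lf 0) (.lf 0)) (.lf 0)) (.nd (.lf 0) (.lf 0))) (.nd (.nd (.nd (.lf 0) (.lf 0)) (.lf 0)) (.nd (.lf 0) (.lf 0))))) (.nd (.nd (.nd (.nd (.nd (.lf 0) (.lf 0)) (.lf 0)) (.nd (.nd (.lf 0) (.lf 0)) (.lf 0))) (.nd (.nd (.nd (.lf 0) (.lf 0)) (.lf 0)) (.nd (.lf 0) (.lf 0)))) (.nd (.nd (.nd (.nd (.lf 0) (.lf 0)) (.lf 0)) (.nd (.lf 0) (.lf 0))) (.nd (.nd (.nd (.lf 0) (.lf 0)) (.lf 0)) (.nd (.lf 0) (.lf 0))))))) (.nd (.nd (.nd (.nd (.nd (.nd (.nd (.lf 0) (.lf 0)) (.lf 0)) (.nd (.nd (.lf 0) (.lf 0)) (.lf 0))) (.nd (.nd (.nd (.lf 0) (.lf 0)) (.lf 0)) (.nd (.lf 0) (.lf 0)))) (.nd (.nd (.nd (.nd (.lf 0) (.lf 0)) (.lf 0)) (.nd (.lf 0) (.lf 0))) (.nd (.nd (.nd (.lf 0) (.lf 0)) (.lf 0)) (.nd (.lf 0) (.lf 0))))) (.nd (.nd (.nd (.nd (.nd (.lf 0) (.lf 0)) (.lf 0)) (.nd (.nd (.lf 0) (.lf 0))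 (.lf 0))) (.nd (.nd (.nd (.lf 0) (.lf 0)) (.lf 0)) (.nd (.lf 0) (.lf 0)))) (.nd (.nd (.nd (.nd (.lf 0) (.lf 0)) (.lf 0)) (.nd (.lf 0) (.lf 0))) (.nd (.nd (.nd (.lf 0) (.lf 0)) (.lf 0)) (.nd (.lf 0) (.lf 0)))))) (.nd (.nd (.nd (.nd (.nd (.nd (.lf 0) (.lf 0)) (.lf 0)) (.nd (.nd (.lf 0) (.lf 0)) (.lf 0))) (.nd (.nd (.nd (.lf 0) (.lf 0)) (.lf 0)) (.nd (.lf 0) (.lf 0)))) (.nd (.nd (.nd (.nd (.lf 0) (.lf 0)) (.lf 0)) (.nd (.lf 0) (.lf 0))) (.nd (.nd (.nd (.lf 0) (.lf 0)) (.lf 0)) (.nd (.lf 0) (.lf 0))))) (.nd (.nd (.nd (.nd (.nd (.lf 0) (.lf 0)) (.lf 0)) (.nd (.nd (.lf 0) (.lf 0)) (.lf 0))) (.nd (.nd (.nd (.lf 0) (.lf 0)) (.lf 0)) (.nd (.lf 0) (.lf 0)))) (.nd (.nd (.nd (.nd (.lf 0) (.lf 0)) (.lf 0)) (.nd (.lf 0) (.lf 0))) (.nd (.nd (.nd (.lf 0) (.lf 0)) (.lf 0)) (.nd (.lf 0) (.lf 0)))))))))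 (.nd (.nd (.nd (.nd (.nd (.nd (.nd (.nd (.nd (.lf 0) (.lf 0)) (.lf 0)) (.nd (.nd (.lf 0) (.lf 0)) (.lf 0))) (.nd (.nd (.nd (.lf 0) (.lf 0)) (.lf 0)) (.nd (.lf 0) (.lf 0)))) (.nd (.nd (.nd (.nd (.lf 0) (.lf 0)) (.lf 0)) (.nd (.lf 0) (.lf 0))) (.nd (.nd (.nd (.lf 0) (.lf 0)) (.lf 0)) (.nd (.lf 0) (.lf 0))))) (.nd (.nd (.nd (.nd (.nd (.lf 0) (.lf 0)) (.lf 0)) (.nd (.nd (.lf 0) (.lf 0)) (.lf 0))) (.nd (.nd (.nd (.lf 0) (.lf 0)) (.lf 0)) (.nd (.lf 0) (.lf 0)))) (.nd (.nd (.nd (.nd (.lf 0) (.lf 0)) (.lf 0)) (.nd (.lf 0) (.lf 0))) (.nd (.nd (.nd (.lf 0) (.lf 0)) (.lf 0)) (.nd (.lf 0) (.lf 0)))))) (.nd (.nd (.nd (.nd (.nd (.nd (.lf 0) (.lf 0)) (.lf 0)) (.nd (.nd (.lf 0) (.lf 0)) (.lf 0))) (.nd (.nd (.nd (.lf 0) (.lf 0)) (.lf 0)) (.nd (.lf 0) (.lf 0)))) (.nd (.nd (.nd (.nd (.lf 0) (.lf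 0)) (.lf 0)) (.nd (.lf 0) (.lf 0))) (.nd (.nd (.nd (.lf 0) (.lf 0)) (.lf 0)) (.nd (.lf 0) (.lf 0))))) (.nd (.nd (.nd (.nd (.nd (.lf 0) (.lf 0)) (.lf 0)) (.nd (.nd (.lf 0) (.lf 0)) (.lf 0))) (.nd (.nd (.nd (.lf 0) (.lf 0)) (.lf 0)) (.nd (.lf 0) (.lf 0)))) (.nd (.nd (.nd (.nd (.lf 0) (.lf 0)) (.lf 0)) (.nd (.lf 0) (.lf 0))) (.nd (.nd (.nd (.lf 0) (.lf 0)) (.lf 0)) (.nd (.lf 0) (.lf 0))))))) (.nd (.nd (.nd (.nd (.nd (.nd (.nd (.lf 0) (.lf 0)) (.lf 0)) (.nd (.nd (.lf 0) (.lf 0)) (.lf 0))) (.nd (.nd (.nd (.lf 0) (.lf 0)) (.lf 0)) (.nd (.lf 0) (.lf 0)))) (.nd (.nd (.nd (.nd (.lf 0) (.lf 0)) (.lf 0)) (.nd (.lf 0) (.lf 0))) (.nd (.nd (.nd (.lf 0) (.lf 0)) (.lf 0)) (.nd (.lf 0) (.lf 0))))) (.nd (.nd (.nd (.nd (.nd (.lf 0) (.lf 0)) (.lf 0)) (.nd (.nd (.lf 0) (.lf 0)) (.lf 0))) (.nd (.nd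 (.nd (.lf 0) (.lf 0)) (.lf 0)) (.nd (.lf 0) (.lf 0)))) (.nd (.nd (.nd (.nd (.lf 0) (.lf 0)) (.lf 0)) (.nd (.lf 0) (.lf 0))) (.nd (.nd (.nd (.lf 0) (.lf 0)) (.lf 0)) (.nd (.lf 0) (.lf 0)))))) (.nd (.nd (.nd (.nd (.nd (.nd (.lf 0) (.lf 0)) (.lf 0)) (.nd (.nd (.lf 0) (.lf 0)) (.lf 0))) (.nd (.nd (.nd (.lf 0) (.lf 0)) (.lf 0)) (.nd (.lf 0) (.lf 0)))) (.nd (.nd (.nd (.nd (.lf 0) (.lf 0)) (.lf 0)) (.nd (.lf 0) (.lf 0))) (.nd (.nd (.nd (.lf 0) (.lf 0)) (.lf 0)) (.nd (.lf 0) (.lf 0))))) (.nd (.nd (.nd (.nd (.nd (.lf 0) (.lf 0)) (.lf 0)) (.nd (.nd (.lf 0) (.lf 0)) (.lf 0))) (.nd (.nd (.nd (.lf 0) (.lf 0)) (.lf 0)) (.nd (.lf 0) (.lf 0)))) (.nd (.nd (.nd (.nd (.lf 0) (.lf 0)) (.lf 0)) (.nd (.lf 0) (.lf 0))) (.nd (.nd (.nd (.lf 0) (.lf 0)) (.lf 0)) (.nd (.lf 0) (.lf 0)))))))) (.nd (.nd (.nd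 (.nd (.nd (.nd (.nd (.nd (.lf 0) (.lf 0)) (.lf 0)) (.nd (.nd (.lf 0) (.lf 0)) (.lf 0))) (.nd (.nd (.nd (.lf 0) (.lf 0)) (.lf 0)) (.nd (.lf 0) (.lf 0)))) (.nd (.nd (.nd (.nd (.lf 0) (.lf 0)) (.lf 0)) (.nd (.lf 0) (.lf 0))) (.nd (.nd (.nd (.lf 0) (.lf 0)) (.lf 0)) (.nd (.lf 0) (.lf 0))))) (.nd (.nd (.nd (.nd (.nd (.lf 0) (.lf 0)) (.lf 0)) (.nd (.nd (.lf 0) (.lf 0)) (.lf 0))) (.nd (.nd (.nd (.lf 0) (.lf 0)) (.lf 0)) (.nd (.lf 0) (.lf 0)))) (.nd (.nd (.nd (.nd (.lf 0) (.lf 0)) (.lf 0)) (.nd (.lf 0) (.lf 0))) (.nd (.nd (.nd (.lf 0) (.lf 0)) (.lf 0)) (.nd (.lf 0) (.lf 0)))))) (.nd (.nd (.nd (.nd (.nd (.nd (.lf 0) (.lf 0)) (.lf 0)) (.nd (.nd (.lf 0) (.lf 0)) (.lf 0))) (.nd (.nd (.nd (.lf 0) (.lf 0)) (.lf 0)) (.nd (.lf 0) (.lf 0)))) (.nd (.nd (.nd (.nd (.lf 0) (.lf 0)) (.lf 0)) (.nd (.lf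 0) (.lf 0))) (.nd (.nd (.nd (.lf 0) (.lf 0)) (.lf 0)) (.nd (.lf 0) (.lf 0))))) (.nd (.nd (.nd (.nd (.nd (.lf 0) (.lf 0)) (.lf 0)) (.nd (.nd (.lf 0) (.lf 0)) (.lf 0))) (.nd (.nd (.nd (.lf 0) (.lf 0)) (.lf 0)) (.nd (.lf 0) (.lf 0)))) (.nd (.nd (.nd (.nd (.lf 0) (.lf 0)) (.lf 0)) (.nd (.lf 0) (.lf 0))) (.nd (.nd (.nd (.lf 0) (.lf 0)) (.lf 0)) (.nd (.lf 0) (.lf 0))))))) (.nd (.nd (.nd (.nd (.nd (.nd (.nd (.lf 0) (.lf 0)) (.lf 0)) (.nd (.nd (.lf 0) (.lf 0)) (.lf 0))) (.nd (.nd (.nd (.lf 0) (.lf 0)) (.lf 0)) (.nd (.lf 0) (.lf 0)))) (.nd (.nd (.nd (.nd (.lf 0) (.lf 0)) (.lf 0)) (.nd (.lf 0) (.lf 0))) (.nd (.nd (.nd (.lf 0) (.lf 0)) (.lf 0)) (.nd (.lf 0) (.lf 0))))) (.nd (.nd (.nd (.nd (.nd (.lf 0) (.lf 0)) (.lf 0)) (.nd (.nd (.lf 0) (.lf 0)) (.lf 0))) (.nd (.nd (.nd (.lf 0) (.lf 0)) (.lf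 0)) (.nd (.lf 0) (.lf 0)))) (.nd (.nd (.nd (.nd (.lf 0) (.lf 0)) (.lf 0)) (.nd (.lf 0) (.lf 0))) (.nd (.nd (.nd (.lf 0) (.lf 0)) (.lf 0)) (.nd (.lf 0) (.lf 0)))))) (.nd (.nd (.nd (.nd (.nd (.nd (.lf 0) (.lf 0)) (.lf 0)) (.nd (.nd (.lf 0) (.lf 0)) (.lf 0))) (.nd (.nd (.nd (.lf 0) (.lf 0)) (.lf 0)) (.nd (.lf 0) (.lf 0)))) (.nd (.nd (.nd (.nd (.lf 0) (.lf 0)) (.lf 0)) (.nd (.lf 0) (.lf 0))) (.nd (.nd (.nd (.lf 0) (.lf 0)) (.lf 0)) (.nd (.lf 0) (.lf 0))))) (.nd (.nd (.nd (.nd (.nd (.lf 0) (.lf 0)) (.lf 0)) (.nd (.nd (.lf 0) (.lf 0)) (.lf 0))) (.nd (.nd (.nd (.lf 0) (.lf 0)) (.lf 0)) (.nd (.lf 0) (.lf 0)))) (.nd (.nd (.nd (.nd (.lf 0) (.lf 0)) (.lf 0)) (.nd (.lf 0) (.lf 0))) (.nd (.nd (.nd (.lf 0) (.lf 0)) (.lf 0)) (.nd (.lf 0) (.lf 0)))))))))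

/-- second permutation -/
def piT1 : Trie :=
  .nd (.nd (.nd (.nd (.nd (.nd (.nd (.nd (.nd (.nd (.lf 532) (.lf 670)) (.lf 247)) (.nd (.nd (.lf 193) (.lf 69)) (.lf 253))) (.nd (.nd (.nd (.lf 208) (.lf 59)) (.lf 189)) (.nd (.lf 512) (.lf 552)))) (.nd (.nd (.nd (.nd (.lf 226) (.lf 624)) (.lf 390)) (.nd (.lf 78) (.lf 345))) (.nd (.nd (.nd (.lf 18) (.lf 571)) (.lf 617)) (.nd (.lf 601) (.lf 342))))) (.nd (.nd (.nd (.nd (.nd (.lf 603) (.lf 508)) (.lf 476)) (.nd (.nd (.lf 518) (.lf 133)) (.lf 653))) (.nd (.nd (.nd (.lf 187) (.lf 348)) (.lf 509)) (.nd (.lf 393) (.lf 483)))) (.nd (.nd (.nd (.nd (.lf 88) (.lf 7)) (.lf 286)) (.nd (.lf 662) (.lf 122))) (.nd (.nd (.nd (.lf 590) (.lf 175)) (.lf 644)) (.nd (.lf 398) (.lf 317)))))) (.nd (.nd (.nd (.nd (.nd (.nd (.lf 573) (.lf 485)) (.lf 443))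 (.nd (.nd (.lf 487) (.lf 396)) (.lf 130))) (.nd (.nd (.nd (.lf 4) (.lf 77)) (.lf 569)) (.nd (.lf 96) (.lf 250)))) (.nd (.nd (.nd (.nd (.lf 126) (.lf 626)) (.lf 629)) (.nd (.lf 330) (.lf 246))) (.nd (.nd (.nd (.lf 74) (.lf 25)) (.lf 452)) (.nd (.lf 238) (.lf 453))))) (.nd (.nd (.nd (.nd (.nd (.lf 346) (.lf 578)) (.lf 502)) (.nd (.nd (.lf 435) (.lf 45)) (.lf 362))) (.nd (.nd (.nd (.lf 0) (.lf 147)) (.lf 389)) (.nd (.lf 149) (.lf 119)))) (.nd (.nd (.nd (.nd (.lf 469) (.lf 656)) (.lf 611)) (.nd (.lf 558) (.lf 322))) (.nd (.nd (.nd (.lf 641) (.lf 460)) (.lf 477)) (.nd (.lf 186) (.lf 321))))))) (.nd (.nd (.nd (.nd (.nd (.nd (.nd (.lf 82) (.lf 145)) (.lf 112)) (.nd (.nd (.lf 263) (.lf 357)) (.lf 169))) (.nd (.nd (.nd (.lf 406) (.lf 657)) (.lf 563)) (.nd (.lf 168) (.lf 591)))) (.nd (.nd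 (.nd (.nd (.lf 459) (.lf 627)) (.lf 307)) (.nd (.lf 34) (.lf 608))) (.nd (.nd (.nd (.lf 113) (.lf 257)) (.lf 248)) (.nd (.lf 185) (.lf 154))))) (.nd (.nd (.nd (.nd (.nd (.lf 312) (.lf 67)) (.lf 293)) (.nd (.nd (.lf 473) (.lf 504)) (.lf 60))) (.nd (.nd (.nd (.lf 251) (.lf 648)) (.lf 86)) (.nd (.lf 408) (.lf 49)))) (.nd (.nd (.nd (.nd (.lf 44) (.lf 329)) (.lf 623)) (.nd (.lf 182) (.lf 46))) (.nd (.nd (.nd (.lf 478) (.lf 153)) (.lf 642)) (.nd (.lf 667) (.lf 271)))))) (.nd (.nd (.nd (.nd (.nd (.nd (.lf 649) (.lf 511)) (.lf 465)) (.nd (.nd (.lf 654) (.lf 313)) (.lf 108))) (.nd (.nd (.nd (.lf 605) (.lf 136)) (.lf 261)) (.nd (.lf 410) (.lf 451)))) (.nd (.nd (.nd (.nd (.lf 222) (.lf 411)) (.lf 21)) (.nd (.lf 616) (.lf 38))) (.nd (.nd (.nd (.lf 254) (.lf 195)) (.lf 194)) (.nd (.lf 630)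 (.lf 400))))) (.nd (.nd (.nd (.nd (.nd (.lf 543) (.lf 414)) (.lf 354)) (.nd (.nd (.lf 506) (.lf 58)) (.lf 637))) (.nd (.nd (.nd (.lf 201) (.lf 560)) (.lf 294)) (.nd (.lf 282) (.lf 158)))) (.nd (.nd (.nd (.nd (.lf 647) (.lf 363)) (.lf 350)) (.nd (.lf 554) (.lf 132))) (.nd (.nd (.nd (.lf 355) (.lf 486)) (.lf 462)) (.nd (.lf 565) (.lf 438)))))))) (.nd (.nd (.nd (.nd (.nd (.nd (.nd (.nd (.lf 388) (.lf 386)) (.lf 531)) (.nd (.nd (.lf 55) (.lf 76)) (.lf 497))) (.nd (.nd (.nd (.lf 392) (.lf 66)) (.lf 568)) (.nd (.lf 97) (.lf 544)))) (.nd (.nd (.nd (.nd (.lf 210) (.lf 391)) (.lf 596)) (.nd (.lf 142) (.lf 2))) (.nd (.nd (.nd (.lf 295) (.lf 542)) (.lf 202)) (.nd (.lf 519) (.lf 157))))) (.nd (.nd (.nd (.nd (.nd (.lf 9) (.lf 424)) (.lf 384)) (.nd (.nd (.lf 214) (.lf 64)) (.lf 41))) (.nd (.nd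 (.nd (.lf 436) (.lf 655)) (.lf 467)) (.nd (.lf 526) (.lf 98)))) (.nd (.nd (.nd (.nd (.lf 191) (.lf 23)) (.lf 337)) (.nd (.lf 245) (.lf 574))) (.nd (.nd (.nd (.lf 374) (.lf 517)) (.lf 128)) (.nd (.lf 311) (.lf 129)))))) (.nd (.nd (.nd (.nd (.nd (.nd (.lf 298) (.lf 277)) (.lf 233)) (.nd (.nd (.lf 104) (.lf 602)) (.lf 349))) (.nd (.nd (.nd (.lf 83) (.lf 433)) (.lf 188)) (.nd (.lf 599) (.lf 123)))) (.nd (.nd (.nd (.nd (.lf 218) (.lf 190)) (.lf 328)) (.nd (.lf 598) (.lf 107))) (.nd (.nd (.nd (.lf 494) (.lf 150)) (.lf 530)) (.nd (.lf 585) (.lf 304))))) (.nd (.nd (.nd (.nd (.nd (.lf 256) (.lf 287)) (.lf 446)) (.nd (.nd (.lf 401) (.lf 280)) (.lf 499))) (.nd (.nd (.nd (.lf 156) (.lf 54)) (.lf 665)) (.nd (.lf 553) (.lf 252)))) (.nd (.nd (.nd (.nd (.lf 240) (.lf 285)) (.lf 336)) (.nd (.lf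 284) (.lf 20))) (.nd (.nd (.nd (.lf 146) (.lf 397)) (.lf 500)) (.nd (.lf 441) (.lf 35))))))) (.nd (.nd (.nd (.nd (.nd (.nd (.nd (.lf 131) (.lf 199)) (.lf 75)) (.nd (.nd (.lf 527) (.lf 604)) (.lf 211))) (.nd (.nd (.nd (.lf 32) (.lf 368)) (.lf 538)) (.nd (.lf 421) (.lf 353)))) (.nd (.nd (.nd (.nd (.lf 583) (.lf 418)) (.lf 412)) (.nd (.lf 267) (.lf 489))) (.nd (.nd (.nd (.lf 555) (.lf 338)) (.lf 343)) (.nd (.lf 440) (.lf 488))))) (.nd (.nd (.nd (.nd (.nd (.lf 99) (.lf 170)) (.lf 121)) (.nd (.nd (.lf 580) (.lf 448)) (.lf 652))) (.nd (.nd (.nd (.lf 327) (.lf 235)) (.lf 320)) (.nd (.lf 61) (.lf 454)))) (.nd (.nd (.nd (.nd (.lf 276) (.lf 474)) (.lf 597)) (.nd (.lf 434) (.lf 501))) (.nd (.nd (.nd (.lf 219) (.lf 234)) (.lf 165)) (.nd (.lf 471) (.lf 622)))))) (.nd (.nd (.nd (.nd (.nd (.nd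 (.lf 29) (.lf 524)) (.lf 291)) (.nd (.nd (.lf 161) (.lf 381)) (.lf 549))) (.nd (.nd (.nd (.lf 537) (.lf 559)) (.lf 299)) (.nd (.lf 620) (.lf 521)))) (.nd (.nd (.nd (.nd (.lf 507) (.lf 426)) (.lf 27)) (.nd (.lf 631) (.lf 270))) (.nd (.nd (.nd (.lf 514) (.lf 572)) (.lf 48)) (.nd (.lf 10) (.lf 606))))) (.nd (.nd (.nd (.nd (.nd (.lf 124) (.lf 94)) (.lf 236)) (.nd (.nd (.lf 491) (.lf 358)) (.lf 266))) (.nd (.nd (.nd (.lf 577) (.lf 535)) (.lf 375)) (.nd (.lf 56) (.lf 255)))) (.nd (.nd (.nd (.nd (.lf 619) (.lf 633)) (.lf 144)) (.nd (.lf 213) (.lf 177))) (.nd (.nd (.nd (.lf 95) (.lf 472)) (.lf 579)) (.nd (.lf 179) (.lf 84))))))))) (.nd (.nd (.nd (.nd (.nd (.nd (.nd (.nd (.nd (.lf 612) (.lf 534)) (.lf 81)) (.nd (.nd (.lf 480) (.lf 510)) (.lf 159))) (.nd (.nd (.nd (.lf 417) (.lf 242)) (.lf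 341)) (.nd (.lf 586) (.lf 576)))) (.nd (.nd (.nd (.nd (.lf 297) (.lf 19)) (.lf 135)) (.nd (.lf 528) (.lf 309))) (.nd (.nd (.nd (.lf 15) (.lf 296)) (.lf 413)) (.nd (.lf 92) (.lf 283))))) (.nd (.nd (.nd (.nd (.nd (.lf 640) (.lf 592)) (.lf 73)) (.nd (.nd (.lf 91) (.lf 533)) (.lf 203))) (.nd (.nd (.nd (.lf 118) (.lf 229)) (.lf 40)) (.nd (.lf 319) (.lf 466)))) (.nd (.nd (.nd (.nd (.lf 344) (.lf 415)) (.lf 33)) (.nd (.lf 378) (.lf 639))) (.nd (.nd (.nd (.lf 231) (.lf 232)) (.lf 273)) (.nd (.lf 227) (.lf 439)))))) (.nd (.nd (.nd (.nd (.nd (.nd (.lf 427) (.lf 224)) (.lf 173)) (.nd (.nd (.lf 493) (.lf 513)) (.lf 274))) (.nd (.nd (.nd (.lf 420) (.lf 490)) (.lf 85)) (.nd (.lf 614) (.lf 370)))) (.nd (.nd (.nd (.nd (.lf 669) (.lf 523)) (.lf 171)) (.nd (.lf 325) (.lf 315))) (.nd (.nd (.nd (.lf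 180) (.lf 613)) (.lf 262)) (.nd (.lf 140) (.lf 318))))) (.nd (.nd (.nd (.nd (.nd (.lf 57) (.lf 463)) (.lf 496)) (.nd (.nd (.lf 594) (.lf 520)) (.lf 651))) (.nd (.nd (.nd (.lf 618) (.lf 482)) (.lf 607)) (.nd (.lf 361) (.lf 205)))) (.nd (.nd (.nd (.nd (.lf 351) (.lf 625)) (.lf 3)) (.nd (.lf 556) (.lf 407))) (.nd (.nd (.nd (.lf 456) (.lf 399)) (.lf 479)) (.nd (.lf 164) (.lf 581))))))) (.nd (.nd (.nd (.nd (.nd (.nd (.nd (.lf 259) (.lf 221)) (.lf 383)) (.nd (.nd (.lf 151) (.lf 331)) (.lf 62))) (.nd (.nd (.nd (.lf 305) (.lf 106)) (.lf 63)) (.nd (.lf 484) (.lf 289)))) (.nd (.nd (.nd (.nd (.lf 152) (.lf 5)) (.lf 302)) (.nd (.lf 281) (.lf 14))) (.nd (.nd (.nd (.lf 664) (.lf 379)) (.lf 155)) (.nd (.lf 100) (.lf 503))))) (.nd (.nd (.nd (.nd (.nd (.lf 347) (.lf 243)) (.lf 432)) (.nd (.nd (.lf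 167) (.lf 110)) (.lf 546))) (.nd (.nd (.nd (.lf 138) (.lf 570)) (.lf 428)) (.nd (.lf 196) (.lf 143)))) (.nd (.nd (.nd (.nd (.lf 183) (.lf 671)) (.lf 30)) (.nd (.lf 430) (.lf 198))) (.nd (.nd (.nd (.lf 72) (.lf 615)) (.lf 551)) (.nd (.lf 68) (.lf 162)))))) (.nd (.nd (.nd (.nd (.nd (.nd (.lf 340) (.lf 646)) (.lf 93)) (.nd (.nd (.lf 51) (.lf 634)) (.lf 643))) (.nd (.nd (.nd (.lf 120) (.lf 437)) (.lf 366)) (.nd (.lf 310) (.lf 52)))) (.nd (.nd (.nd (.nd (.lf 42) (.lf 308)) (.lf 588)) (.nd (.lf 394) (.lf 11))) (.nd (.nd (.nd (.lf 636) (.lf 26)) (.lf 181)) (.nd (.lf 621) (.lf 541))))) (.nd (.nd (.nd (.nd (.nd (.lf 359) (.lf 53)) (.lf 148)) (.nd (.nd (.lf 380) (.lf 377)) (.lf 600))) (.nd (.nd (.nd (.lf 37) (.lf 557)) (.lf 316)) (.nd (.lf 176) (.lf 587)))) (.nd (.nd (.nd (.nd (.lf 522)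 (.lf 334)) (.lf 275)) (.nd (.lf 475) (.lf 303))) (.nd (.nd (.nd (.lf 445) (.lf 371)) (.lf 540)) (.nd (.lf 658) (.lf 364)))))))) (.nd (.nd (.nd (.nd (.nd (.nd (.nd (.nd (.lf 178) (.lf 115)) (.lf 668)) (.nd (.nd (.lf 360) (.lf 659)) (.lf 209))) (.nd (.nd (.nd (.lf 333) (.lf 525)) (.lf 28)) (.nd (.lf 228) (.lf 638)))) (.nd (.nd (.nd (.nd (.lf 449) (.lf 335)) (.lf 429)) (.nd (.lf 666) (.lf 610))) (.nd (.nd (.nd (.lf 431) (.lf 79)) (.lf 43)) (.nd (.lf 566) (.lf 548))))) (.nd (.nd (.nd (.nd (.nd (.lf 269) (.lf 217)) (.lf 114)) (.nd (.nd (.lf 239) (.lf 492)) (.lf 258))) (.nd (.nd (.nd (.lf 564) (.lf 516)) (.lf 468)) (.nd (.lf 628) (.lf 635)))) (.nd (.nd (.nd (.nd (.lf 160) (.lf 395)) (.lf 306)) (.nd (.lf 290) (.lf 545))) (.nd (.nd (.nd (.lf 174) (.lf 409)) (.lf 529)) (.nd (.lf 89) (.lf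 352)))))) (.nd (.nd (.nd (.nd (.nd (.nd (.lf 365) (.lf 101)) (.lf 373)) (.nd (.nd (.lf 464) (.lf 139)) (.lf 260))) (.nd (.nd (.nd (.lf 403) (.lf 184)) (.lf 385)) (.nd (.lf 39) (.lf 268)))) (.nd (.nd (.nd (.nd (.lf 65) (.lf 404)) (.lf 216)) (.nd (.lf 17) (.lf 279))) (.nd (.nd (.nd (.lf 376) (.lf 339)) (.lf 163)) (.nd (.lf 12) (.lf 405))))) (.nd (.nd (.nd (.nd (.nd (.lf 650) (.lf 200)) (.lf 116)) (.nd (.nd (.lf 244) (.lf 582)) (.lf 206))) (.nd (.nd (.nd (.lf 323) (.lf 192)) (.lf 13)) (.nd (.lf 447) (.lf 498)))) (.nd (.nd (.nd (.nd (.lf 90) (.lf 31)) (.lf 102)) (.nd (.lf 481) (.lf 593))) (.nd (.nd (.nd (.lf 237) (.lf 225)) (.lf 204)) (.nd (.lf 584) (.lf 117))))))) (.nd (.nd (.nd (.nd (.nd (.nd (.nd (.lf 382) (.lf 50)) (.lf 645)) (.nd (.nd (.lf 109) (.lf 425)) (.lf 272))) (.nd (.nd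 (.nd (.lf 422) (.lf 660)) (.lf 300)) (.nd (.lf 71) (.lf 70)))) (.nd (.nd (.nd (.nd (.lf 575) (.lf 332)) (.lf 36)) (.nd (.lf 8) (.lf 402))) (.nd (.nd (.nd (.lf 536) (.lf 387)) (.lf 589)) (.nd (.lf 264) (.lf 125))))) (.nd (.nd (.nd (.nd (.nd (.lf 442) (.lf 367)) (.lf 539)) (.nd (.nd (.lf 230) (.lf 567)) (.lf 127))) (.nd (.nd (.nd (.lf 423) (.lf 356)) (.lf 16)) (.nd (.lf 223) (.lf 212)))) (.nd (.nd (.nd (.nd (.lf 103) (.lf 215)) (.lf 419)) (.nd (.lf 134) (.lf 111))) (.nd (.nd (.nd (.lf 47) (.lf 326)) (.lf 265)) (.nd (.lf 458) (.lf 207)))))) (.nd (.nd (.nd (.nd (.nd (.nd (.lf 314) (.lf 137)) (.lf 220)) (.nd (.nd (.lf 461) (.lf 288)) (.lf 105))) (.nd (.nd (.nd (.lf 562) (.lf 561)) (.lf 172)) (.nd (.lf 24) (.lf 495)))) (.nd (.nd (.nd (.nd (.lf 632) (.lf 324)) (.lf 301)) (.nd (.lf 22)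 (.lf 450))) (.nd (.nd (.nd (.lf 661) (.lf 372)) (.lf 505)) (.nd (.lf 470) (.lf 141))))) (.nd (.nd (.nd (.nd (.nd (.lf 369) (.lf 595)) (.lf 515)) (.nd (.nd (.lf 444) (.lf 241)) (.lf 6))) (.nd (.nd (.nd (.lf 292) (.lf 663)) (.lf 547)) (.nd (.lf 416) (.lf 87)))) (.nd (.nd (.nd (.nd (.lf 550) (.lf 197)) (.lf 609)) (.nd (.lf 455) (.lf 1))) (.nd (.nd (.nd (.lf 278) (.lf 457)) (.lf 166)) (.nd (.lf 80) (.lf 249)))))))))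

/-- second shifts -/
def epT1 : Trie :=
  .nd (.nd (.nd (.nd (.nd (.nd (.nd (.nd (.nd (.nd (.lf 0) (.lf 2)) (.lf 2)) (.nd (.nd (.lf 1) (.lf 3)) (.lf 3))) (.nd (.nd (.nd (.lf 0) (.lf 2)) (.lf 3)) (.nd (.lf 3) (.lf 2)))) (.nd (.nd (.nd (.nd (.lf 3) (.lf 1)) (.lf 1)) (.nd (.lf 3) (.lf 2))) (.nd (.nd (.nd (.lf 0) (.lf 0)) (.lf 0)) (.nd (.lf 2) (.lf 3))))) (.nd (.nd (.nd (.nd (.nd (.lf 2) (.lf 3)) (.lf 2)) (.nd (.nd (.lf 3) (.lf 3)) (.lf 3))) (.nd (.nd (.nd (.lf 3) (.lf 3)) (.lf 0)) (.nd (.lf 2) (.lf 3)))) (.nd (.nd (.nd (.nd (.lf 0) (.lf 2)) (.lf 1)) (.nd (.lf 3) (.lf 2))) (.nd (.nd (.nd (.lf 0) (.lf 0)) (.lf 0)) (.nd (.lf 3) (.lf 1)))))) (.nd (.nd (.nd (.nd (.nd (.nd (.lf 3) (.lf 3)) (.lf 2)) (.nd (.nd (.lf 2) (.lf 0)) (.lf 3))) (.nd (.nd (.nd (.lf 2) (.lf 2)) (.lf 1)) (.nd (.lf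 1) (.lf 1)))) (.nd (.nd (.nd (.nd (.lf 1) (.lf 2)) (.lf 0)) (.nd (.lf 3) (.lf 3))) (.nd (.nd (.nd (.lf 2) (.lf 0)) (.lf 2)) (.nd (.lf 0) (.lf 2))))) (.nd (.nd (.nd (.nd (.nd (.lf 3) (.lf 1)) (.lf 1)) (.nd (.nd (.lf 3) (.lf 3)) (.lf 0))) (.nd (.nd (.nd (.lf 3) (.lf 0)) (.lf 3)) (.nd (.lf 1) (.lf 0)))) (.nd (.nd (.nd (.nd (.lf 3) (.lf 1)) (.lf 3)) (.nd (.lf 0) (.lf 2))) (.nd (.nd (.nd (.lf 3) (.lf 3)) (.lf 3)) (.nd (.lf 0) (.lf 1))))))) (.nd (.nd (.nd (.nd (.nd (.nd (.nd (.lf 1) (.lf 1)) (.lf 1)) (.nd (.nd (.lf 3) (.lf 0)) (.lf 2))) (.nd (.nd (.nd (.lf 3) (.lf 0)) (.lf 3)) (.nd (.lf 1) (.lf 0)))) (.nd (.nd (.nd (.nd (.lf 1) (.lf 0)) (.lf 2)) (.nd (.lf 2) (.lf 1))) (.nd (.nd (.nd (.lf 2) (.lf 1)) (.lf 1)) (.nd (.lf 3) (.lf 1))))) (.nd (.nd (.nd (.nd (.nd (.lf 0) (.lf 1)) (.lf 3))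 (.nd (.nd (.lf 2) (.lf 1)) (.lf 1))) (.nd (.nd (.nd (.lf 0) (.lf 3)) (.lf 1)) (.nd (.lf 0) (.lf 3)))) (.nd (.nd (.nd (.nd (.lf 2) (.lf 2)) (.lf 2)) (.nd (.lf 2) (.lf 2))) (.nd (.nd (.nd (.lf 2) (.lf 0)) (.lf 2)) (.nd (.lf 3) (.lf 3)))))) (.nd (.nd (.nd (.nd (.nd (.nd (.lf 3) (.lf 2)) (.lf 3)) (.nd (.nd (.lf 3) (.lf 1)) (.lf 3))) (.nd (.nd (.nd (.lf 2) (.lf 2)) (.lf 2)) (.nd (.lf 2) (.lf 3)))) (.nd (.nd (.nd (.nd (.lf 2) (.lf 1)) (.lf 1)) (.nd (.lf 2) (.lf 0))) (.nd (.nd (.nd (.lf 3) (.lf 0)) (.lf 0)) (.nd (.lf 0) (.lf 0))))) (.nd (.nd (.nd (.nd (.nd (.lf 0) (.lf 2)) (.lf 1)) (.nd (.nd (.lf 3) (.lf 3)) (.lf 1))) (.nd (.nd (.nd (.lf 0) (.lf 3)) (.lf 1)) (.nd (.lf 0) (.lf 0)))) (.nd (.nd (.nd (.nd (.lf 2) (.lf 2)) (.lf 3)) (.nd (.lf 2) (.lf 1))) (.nd (.nd (.nd (.lf 1) (.lf 3)) (.lf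 2)) (.nd (.lf 1) (.lf 3)))))))) (.nd (.nd (.nd (.nd (.nd (.nd (.nd (.nd (.lf 3) (.lf 3)) (.lf 3)) (.nd (.nd (.lf 1) (.lf 3)) (.lf 0))) (.nd (.nd (.nd (.lf 1) (.lf 0)) (.lf 2)) (.nd (.lf 1) (.lf 2)))) (.nd (.nd (.nd (.nd (.lf 2) (.lf 2)) (.lf 0)) (.nd (.lf 3) (.lf 3))) (.nd (.nd (.nd (.lf 1) (.lf 2)) (.lf 3)) (.nd (.lf 3) (.lf 0))))) (.nd (.nd (.nd (.nd (.nd (.lf 1) (.lf 2)) (.lf 0)) (.nd (.nd (.lf 3) (.lf 2)) (.lf 3))) (.nd (.nd (.nd (.lf 2) (.lf 0)) (.lf 2)) (.nd (.lf 2) (.lf 2)))) (.nd (.nd (.nd (.nd (.lf 1) (.lf 2)) (.lf 3)) (.nd (.lf 3) (.lf 0))) (.nd (.nd (.nd (.lf 2) (.lf 1)) (.lf 1)) (.nd (.lf 3) (.lf 0)))))) (.nd (.nd (.nd (.nd (.nd (.nd (.lf 1) (.lf 0)) (.lf 1)) (.nd (.nd (.lf 2) (.lf 2)) (.lf 0))) (.nd (.nd (.nd (.lf 0) (.lf 0)) (.lf 0)) (.nd (.lf 1) (.lf 2)))) (.nd (.nd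 (.nd (.nd (.lf 1) (.lf 0)) (.lf 2)) (.nd (.lf 2) (.lf 3))) (.nd (.nd (.nd (.lf 2) (.lf 3)) (.lf 2)) (.nd (.lf 3) (.lf 3))))) (.nd (.nd (.nd (.nd (.nd (.lf 3) (.lf 3)) (.lf 0)) (.nd (.nd (.lf 1) (.lf 2)) (.lf 3))) (.nd (.nd (.nd (.lf 0) (.lf 0)) (.lf 2)) (.nd (.lf 2) (.lf 3)))) (.nd (.nd (.nd (.nd (.lf 1) (.lf 0)) (.lf 2)) (.nd (.lf 3) (.lf 2))) (.nd (.nd (.nd (.lf 2) (.lf 1)) (.lf 3)) (.nd (.lf 2) (.lf 0))))))) (.nd (.nd (.nd (.nd (.nd (.nd (.nd (.lf 1) (.lf 0)) (.lf 3)) (.nd (.nd (.lf 2) (.lf 3)) (.lf 3))) (.nd (.nd (.nd (.lf 2) (.lf 0)) (.lf 1)) (.nd (.lf 2) (.lf 2)))) (.nd (.nd (.nd (.nd (.lf 0) (.lf 2)) (.lf 0)) (.nd (.lf 1) (.lf 3))) (.nd (.nd (.nd (.lf 0) (.lf 1)) (.lf 0)) (.nd (.lf 2) (.lf 0))))) (.nd (.nd (.nd (.nd (.nd (.lf 1) (.lf 1)) (.lf 2)) (.nd (.nd (.lf 3) (.lf 0))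 (.lf 3))) (.nd (.nd (.nd (.lf 0) (.lf 0)) (.lf 0)) (.nd (.lf 1) (.lf 1)))) (.nd (.nd (.nd (.nd (.lf 1) (.lf 3)) (.lf 2)) (.nd (.lf 1) (.lf 2))) (.nd (.nd (.nd (.lf 0) (.lf 2)) (.lf 1)) (.nd (.lf 3) (.lf 2)))))) (.nd (.nd (.nd (.nd (.nd (.nd (.lf 1) (.lf 2)) (.lf 1)) (.nd (.nd (.lf 3) (.lf 1)) (.lf 2))) (.nd (.nd (.nd (.lf 3) (.lf 1)) (.lf 3)) (.nd (.lf 0) (.lf 0)))) (.nd (.nd (.nd (.nd (.lf 1) (.lf 3)) (.lf 2)) (.nd (.lf 3) (.lf 1))) (.nd (.nd (.nd (.lf 1) (.lf 1)) (.lf 1)) (.nd (.lf 3) (.lf 2))))) (.nd (.nd (.nd (.nd (.nd (.lf 1) (.lf 1)) (.lf 3)) (.nd (.nd (.lf 2) (.lf 1)) (.lf 0))) (.nd (.nd (.nd (.lf 0) (.lf 2)) (.lf 0)) (.nd (.lf 0) (.lf 1)))) (.nd (.nd (.nd (.nd (.lf 2) (.lf 3)) (.lf 0)) (.nd (.lf 3) (.lf 0))) (.nd (.nd (.nd (.lf 0) (.lf 2)) (.lf 0)) (.nd (.lf 3) (.lf 1)))))))))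 (.nd (.nd (.nd (.nd (.nd (.nd (.nd (.nd (.nd (.lf 2) (.lf 0)) (.lf 3)) (.nd (.nd (.lf 2) (.lf 1)) (.lf 1))) (.nd (.nd (.nd (.lf 3) (.lf 2)) (.lf 1)) (.nd (.lf 0) (.lf 3)))) (.nd (.nd (.nd (.nd (.lf 3) (.lf 1)) (.lf 0)) (.nd (.lf 1) (.lf 2))) (.nd (.nd (.nd (.lf 0) (.lf 1)) (.lf 1)) (.nd (.lf 3) (.lf 3))))) (.nd (.nd (.nd (.nd (.nd (.lf 2) (.lf 3)) (.lf 1)) (.nd (.nd (.lf 0) (.lf 1)) (.lf 0))) (.nd (.nd (.nd (.lf 2) (.lf 3)) (.lf 0)) (.nd (.lf 2) (.lf 0)))) (.nd (.nd (.nd (.nd (.lf 0) (.lf 3)) (.lf 0)) (.nd (.lf 2) (.lf 0))) (.nd (.nd (.nd (.lf 0) (.lf 3)) (.lf 0)) (.nd (.lf 3) (.lf 1)))))) (.nd (.nd (.nd (.nd (.nd (.nd (.lf 0) (.lf 0)) (.lf 2)) (.nd (.nd (.lf 3) (.lf 0)) (.lf 3))) (.nd (.nd (.nd (.lf 1) (.lf 3)) (.lf 3)) (.nd (.lf 0) (.lf 0)))) (.nd (.nd (.nd (.nd (.lf 3) (.lf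 0)) (.lf 2)) (.nd (.lf 0) (.lf 3))) (.nd (.nd (.nd (.lf 2) (.lf 2)) (.lf 2)) (.nd (.lf 1) (.lf 1))))) (.nd (.nd (.nd (.nd (.nd (.lf 1) (.lf 1)) (.lf 3)) (.nd (.nd (.lf 3) (.lf 1)) (.lf 3))) (.nd (.nd (.nd (.lf 3) (.lf 2)) (.lf 2)) (.nd (.lf 3) (.lf 3)))) (.nd (.nd (.nd (.nd (.lf 0) (.lf 1)) (.lf 1)) (.nd (.lf 0) (.lf 2))) (.nd (.nd (.nd (.lf 2) (.lf 3)) (.lf 2)) (.nd (.lf 2) (.lf 2))))))) (.nd (.nd (.nd (.nd (.nd (.nd (.nd (.lf 3) (.lf 0)) (.lf 0)) (.nd (.nd (.lf 2) (.lf 1)) (.lf 2))) (.nd (.nd (.nd (.lf 0) (.lf 2)) (.lf 3)) (.nd (.lf 0) (.lf 1)))) (.nd (.nd (.nd (.nd (.lf 1) (.lf 1)) (.lf 3)) (.nd (.lf 3) (.lf 3))) (.nd (.nd (.nd (.lf 0) (.lf 0)) (.lf 1)) (.nd (.lf 2) (.lf 2))))) (.nd (.nd (.nd (.nd (.nd (.lf 0) (.lf 2)) (.lf 3)) (.nd (.nd (.lf 0) (.lf 3)) (.lf 0))) (.nd (.nd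 (.nd (.lf 1) (.lf 0)) (.lf 1)) (.nd (.lf 0) (.lf 3)))) (.nd (.nd (.nd (.nd (.lf 3) (.lf 3)) (.lf 3)) (.nd (.lf 2) (.lf 2))) (.nd (.nd (.nd (.lf 0) (.lf 0)) (.lf 2)) (.nd (.lf 2) (.lf 0)))))) (.nd (.nd (.nd (.nd (.nd (.nd (.lf 0) (.lf 2)) (.lf 0)) (.nd (.nd (.lf 3) (.lf 1)) (.lf 2))) (.nd (.nd (.nd (.lf 3) (.lf 2)) (.lf 0)) (.nd (.lf 0) (.lf 2)))) (.nd (.nd (.nd (.nd (.lf 2) (.lf 0)) (.lf 3)) (.nd (.lf 1) (.lf 0))) (.nd (.nd (.nd (.lf 0) (.lf 0)) (.lf 0)) (.nd (.lf 1) (.lf 0))))) (.nd (.nd (.nd (.nd (.nd (.lf 3) (.lf 1)) (.lf 0)) (.nd (.nd (.lf 1) (.lf 0)) (.lf 1))) (.nd (.nd (.nd (.lf 3) (.lf 3)) (.lf 0)) (.nd (.lf 1) (.lf 3)))) (.nd (.nd (.nd (.nd (.lf 2) (.lf 2)) (.lf 3)) (.nd (.lf 3) (.lf 0))) (.nd (.nd (.nd (.lf 3) (.lf 1)) (.lf 3)) (.nd (.lf 3) (.lf 3)))))))) (.nd (.nd (.nd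 (.nd (.nd (.nd (.nd (.nd (.lf 2) (.lf 1)) (.lf 2)) (.nd (.nd (.lf 2) (.lf 0)) (.lf 1))) (.nd (.nd (.nd (.lf 0) (.lf 2)) (.lf 0)) (.nd (.lf 3) (.lf 3)))) (.nd (.nd (.nd (.nd (.lf 2) (.lf 0)) (.lf 2)) (.nd (.lf 0) (.lf 0))) (.nd (.nd (.nd (.lf 1) (.lf 3)) (.lf 1)) (.nd (.lf 0) (.lf 3))))) (.nd (.nd (.nd (.nd (.nd (.lf 1) (.lf 1)) (.lf 2)) (.nd (.nd (.lf 3) (.lf 2)) (.lf 2))) (.nd (.nd (.nd (.lf 3) (.lf 1)) (.lf 2)) (.nd (.lf 1) (.lf 3)))) (.nd (.nd (.nd (.nd (.lf 2) (.lf 1)) (.lf 0)) (.nd (.lf 3) (.lf 2))) (.nd (.nd (.nd (.lf 0) (.lf 1)) (.lf 2)) (.nd (.lf 3) (.lf 3)))))) (.nd (.nd (.nd (.nd (.nd (.nd (.lf 3) (.lf 1)) (.lf 1)) (.nd (.nd (.lf 3) (.lf 2)) (.lf 1))) (.nd (.nd (.nd (.lf 1) (.lf 0)) (.lf 1)) (.nd (.lf 1) (.lf 3)))) (.nd (.nd (.nd (.nd (.lf 0) (.lf 3)) (.lf 0)) (.nd (.lf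 3) (.lf 3))) (.nd (.nd (.nd (.lf 3) (.lf 1)) (.lf 1)) (.nd (.lf 3) (.lf 0))))) (.nd (.nd (.nd (.nd (.nd (.lf 2) (.lf 0)) (.lf 2)) (.nd (.nd (.lf 0) (.lf 1)) (.lf 2))) (.nd (.nd (.nd (.lf 3) (.lf 0)) (.lf 1)) (.nd (.lf 3) (.lf 2)))) (.nd (.nd (.nd (.nd (.lf 3) (.lf 0)) (.lf 0)) (.nd (.lf 3) (.lf 1))) (.nd (.nd (.nd (.lf 1) (.lf 0)) (.lf 3)) (.nd (.lf 1) (.lf 1))))))) (.nd (.nd (.nd (.nd (.nd (.nd (.nd (.lf 1) (.lf 1)) (.lf 3)) (.nd (.nd (.lf 3) (.lf 0)) (.lf 1))) (.nd (.nd (.nd (.lf 3) (.lf 3)) (.lf 2)) (.nd (.lf 1) (.lf 3)))) (.nd (.nd (.nd (.nd (.lf 0) (.lf 2)) (.lf 1)) (.nd (.lf 0) (.lf 3))) (.nd (.nd (.nd (.lf 2) (.lf 3)) (.lf 0)) (.nd (.lf 3) (.lf 0))))) (.nd (.nd (.nd (.nd (.nd (.lf 3) (.lf 2)) (.lf 0)) (.nd (.nd (.lf 1) (.lf 3)) (.lf 3))) (.nd (.nd (.nd (.lf 1) (.lf 2)) (.lf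 1)) (.nd (.lf 0) (.lf 3)))) (.nd (.nd (.nd (.nd (.lf 3) (.lf 2)) (.lf 1)) (.nd (.lf 1) (.lf 0))) (.nd (.nd (.nd (.lf 3) (.lf 2)) (.lf 3)) (.nd (.lf 0) (.lf 3)))))) (.nd (.nd (.nd (.nd (.nd (.nd (.lf 3) (.lf 1)) (.lf 1)) (.nd (.nd (.lf 1) (.lf 3)) (.lf 2))) (.nd (.nd (.nd (.lf 0) (.lf 1)) (.lf 1)) (.nd (.lf 1) (.lf 1)))) (.nd (.nd (.nd (.nd (.lf 1) (.lf 0)) (.lf 3)) (.nd (.lf 1) (.lf 1))) (.nd (.nd (.nd (.lf 3) (.lf 1)) (.lf 3)) (.nd (.lf 3) (.lf 2))))) (.nd (.nd (.nd (.nd (.nd (.lf 2) (.lf 0)) (.lf 1)) (.nd (.nd (.lf 3) (.lf 2)) (.lf 0))) (.nd (.nd (.nd (.lf 3) (.lf 3)) (.lf 1)) (.nd (.lf 1) (.lf 3)))) (.nd (.nd (.nd (.nd (.lf 0) (.lf 2)) (.lf 2)) (.nd (.lf 2) (.lf 2))) (.nd (.nd (.nd (.lf 1) (.lf 3)) (.lf 1)) (.nd (.lf 1) (.lf 3)))))))))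

/-- inverse of the second permutation -/
def piT2 : Trie :=
  .nd (.nd (.nd (.nd (.nd (.nd (.nd (.nd (.nd (.nd (.lf 88) (.lf 192)) (.lf 26)) (.nd (.nd (.lf 370) (.lf 17)) (.lf 274))) (.nd (.nd (.nd (.lf 658) (.lf 449)) (.lf 342)) (.nd (.lf 603) (.lf 662)))) (.nd (.nd (.nd (.nd (.lf 70) (.lf 450)) (.lf 655)) (.nd (.lf 51) (.lf 223))) (.nd (.nd (.nd (.lf 200) (.lf 420)) (.lf 499)) (.nd (.lf 521) (.lf 129))))) (.nd (.nd (.nd (.nd (.nd (.lf 343) (.lf 161)) (.lf 391)) (.nd (.nd (.lf 318) (.lf 568)) (.lf 492))) (.nd (.nd (.nd (.lf 255) (.lf 529)) (.lf 314)) (.nd (.lf 64) (.lf 139)))) (.nd (.nd (.nd (.nd (.lf 366) (.lf 604)) (.lf 490)) (.nd (.lf 221) (.lf 277))) (.nd (.nd (.nd (.lf 260) (.lf 544)) (.lf 582)) (.nd (.lf 58) (.lf 281)))))) (.nd (.nd (.nd (.nd (.nd (.nd (.lf 167) (.lf 665))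 (.lf 231)) (.nd (.nd (.lf 588) (.lf 596)) (.lf 66))) (.nd (.nd (.nd (.lf 117) (.lf 251)) (.lf 298)) (.nd (.lf 539) (.lf 121)))) (.nd (.nd (.nd (.nd (.lf 337) (.lf 448)) (.lf 609)) (.nd (.lf 196) (.lf 530))) (.nd (.nd (.nd (.lf 138) (.lf 172)) (.lf 131)) (.nd (.lf 625) (.lf 486))))) (.nd (.nd (.nd (.nd (.nd (.lf 207) (.lf 103)) (.lf 666)) (.nd (.nd (.lf 37) (.lf 101)) (.lf 212))) (.nd (.nd (.nd (.lf 48) (.lf 413)) (.lf 49)) (.nd (.lf 299) (.lf 638)))) (.nd (.nd (.nd (.nd (.lf 222) (.lf 322)) (.lf 20)) (.nd (.lf 587) (.lf 230))) (.nd (.nd (.nd (.lf 77) (.lf 47)) (.lf 107)) (.nd (.lf 356) (.lf 660))))))) (.nd (.nd (.nd (.nd (.nd (.nd (.nd (.lf 72) (.lf 595)) (.lf 395)) (.nd (.nd (.lf 444) (.lf 368)) (.lf 2))) (.nd (.nd (.nd (.lf 245) (.lf 150)) (.lf 559)) (.nd (.lf 213) (.lf 360))))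 (.nd (.nd (.nd (.nd (.lf 295) (.lf 483)) (.lf 95)) (.nd (.lf 249) (.lf 73))) (.nd (.nd (.nd (.lf 229) (.lf 1)) (.lf 599)) (.nd (.lf 195) (.lf 197))))) (.nd (.nd (.nd (.nd (.nd (.lf 442) (.lf 0)) (.lf 54)) (.nd (.nd (.lf 285) (.lf 583)) (.lf 555))) (.nd (.nd (.nd (.lf 510) (.lf 290)) (.lf 13)) (.nd (.lf 471) (.lf 339)))) (.nd (.nd (.nd (.nd (.lf 461) (.lf 83)) (.lf 557)) (.nd (.lf 105) (.lf 82))) (.nd (.nd (.nd (.lf 283) (.lf 211)) (.lf 623)) (.nd (.lf 155) (.lf 378)))))) (.nd (.nd (.nd (.nd (.nd (.nd (.lf 235) (.lf 526)) (.lf 459)) (.nd (.nd (.lf 233) (.lf 406)) (.lf 648))) (.nd (.nd (.nd (.lf 642) (.lf 301)) (.lf 551)) (.nd (.lf 379) (.lf 632)))) (.nd (.nd (.nd (.nd (.lf 52) (.lf 185)) (.lf 327)) (.nd (.lf 335) (.lf 341))) (.nd (.nd (.nd (.lf 396) (.lf 206)) (.lf 509)) (.nd (.lf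 286) (.lf 659))))) (.nd (.nd (.nd (.nd (.nd (.lf 323) (.lf 381)) (.lf 186)) (.nd (.nd (.lf 90) (.lf 259)) (.lf 294))) (.nd (.nd (.nd (.lf 225) (.lf 646)) (.lf 592)) (.nd (.lf 271) (.lf 272)))) (.nd (.nd (.nd (.nd (.lf 404) (.lf 622)) (.lf 349)) (.nd (.lf 330) (.lf 159))) (.nd (.nd (.nd (.lf 30) (.lf 109)) (.lf 157)) (.nd (.lf 474) (.lf 528)))))))) (.nd (.nd (.nd (.nd (.nd (.nd (.nd (.nd (.lf 418) (.lf 110)) (.lf 403)) (.nd (.nd (.lf 392) (.lf 372)) (.lf 514))) (.nd (.nd (.nd (.lf 578) (.lf 536)) (.lf 440)) (.nd (.lf 364) (.lf 431)))) (.nd (.nd (.nd (.nd (.lf 164) (.lf 405)) (.lf 179)) (.nd (.lf 501) (.lf 550))) (.nd (.nd (.nd (.lf 466) (.lf 419)) (.lf 284)) (.nd (.lf 32) (.lf 601))))) (.nd (.nd (.nd (.nd (.nd (.lf 96) (.lf 362)) (.lf 393)) (.nd (.nd (.lf 122) (.lf 253)) (.lf 423)))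 (.nd (.nd (.nd (.lf 4) (.lf 153)) (.lf 614)) (.nd (.lf 34) (.lf 465)))) (.nd (.nd (.nd (.nd (.lf 519) (.lf 79)) (.lf 307)) (.nd (.lf 3) (.lf 182))) (.nd (.nd (.nd (.lf 275) (.lf 552)) (.lf 457)) (.nd (.lf 577) (.lf 475)))))) (.nd (.nd (.nd (.nd (.nd (.nd (.lf 238) (.lf 61)) (.lf 414)) (.nd (.nd (.lf 85) (.lf 27)) (.lf 173))) (.nd (.nd (.nd (.lf 104) (.lf 193)) (.lf 168)) (.nd (.lf 354) (.lf 247)))) (.nd (.nd (.nd (.nd (.lf 45) (.lf 188)) (.lf 10)) (.nd (.lf 534) (.lf 558))) (.nd (.nd (.nd (.lf 581) (.lf 89)) (.lf 408)) (.nd (.lf 630) (.lf 585))))) (.nd (.nd (.nd (.nd (.nd (.lf 621) (.lf 326)) (.lf 220)) (.nd (.nd (.lf 484) (.lf 163)) (.lf 204))) (.nd (.nd (.nd (.lf 59) (.lf 650)) (.lf 24)) (.nd (.lf 42) (.lf 566)))) (.nd (.nd (.nd (.nd (.lf 668) (.lf 597)) (.lf 15)) (.nd (.lf 248)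 (.lf 23))) (.nd (.nd (.nd (.lf 432) (.lf 653)) (.lf 177)) (.nd (.lf 456) (.lf 156))))))) (.nd (.nd (.nd (.nd (.nd (.nd (.nd (.lf 415) (.lf 144)) (.lf 361)) (.nd (.nd (.lf 183) (.lf 525)) (.lf 288))) (.nd (.nd (.nd (.lf 455) (.lf 667)) (.lf 631)) (.nd (.lf 437) (.lf 470)))) (.nd (.nd (.nd (.nd (.lf 428) (.lf 63)) (.lf 348)) (.nd (.lf 383) (.lf 71))) (.nd (.nd (.nd (.lf 315) (.lf 201)) (.lf 670)) (.nd (.lf 151) (.lf 636))))) (.nd (.nd (.nd (.nd (.nd (.lf 175) (.lf 513)) (.lf 127)) (.nd (.nd (.lf 618) (.lf 176)) (.lf 68))) (.nd (.nd (.nd (.lf 340) (.lf 170)) (.lf 480)) (.nd (.lf 146) (.lf 239)))) (.nd (.nd (.nd (.nd (.lf 602) (.lf 227)) (.lf 205)) (.nd (.lf 180) (.lf 508))) (.nd (.nd (.nd (.lf 81) (.lf 236)) (.lf 114)) (.nd (.lf 424) (.lf 280)))))) (.nd (.nd (.nd (.nd (.nd (.nd (.lf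 421) (.lf 210)) (.lf 430)) (.nd (.nd (.lf 162) (.lf 140)) (.lf 240))) (.nd (.nd (.nd (.lf 160) (.lf 112)) (.lf 573)) (.nd (.lf 411) (.lf 380)))) (.nd (.nd (.nd (.nd (.lf 436) (.lf 184)) (.lf 293)) (.nd (.lf 115) (.lf 181))) (.nd (.nd (.nd (.lf 661) (.lf 502)) (.lf 333)) (.nd (.lf 232) (.lf 106))))) (.nd (.nd (.nd (.nd (.nd (.lf 309) (.lf 610)) (.lf 304)) (.nd (.nd (.lf 476) (.lf 512)) (.lf 540))) (.nd (.nd (.nd (.lf 542) (.lf 494)) (.lf 316)) (.nd (.lf 44) (.lf 116)))) (.nd (.nd (.nd (.nd (.lf 389) (.lf 434)) (.lf 489)) (.nd (.lf 554) (.lf 282))) (.nd (.nd (.nd (.lf 40) (.lf 451)) (.lf 7)) (.nd (.lf 108) (.lf 641))))))))) (.nd (.nd (.nd (.nd (.nd (.nd (.nd (.nd (.nd (.lf 447) (.lf 649)) (.lf 612)) (.nd (.nd (.lf 498) (.lf 120)) (.lf 331))) (.nd (.nd (.nd (.lf 43) (.lf 94)) (.lf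 504)) (.nd (.lf 128) (.lf 35)))) (.nd (.nd (.nd (.nd (.lf 305) (.lf 435)) (.lf 453)) (.nd (.lf 142) (.lf 65))) (.nd (.nd (.nd (.lf 194) (.lf 319)) (.lf 454)) (.nd (.lf 635) (.lf 187))))) (.nd (.nd (.nd (.nd (.nd (.lf 171) (.lf 371)) (.lf 369)) (.nd (.nd (.lf 516) (.lf 580)) (.lf 154))) (.nd (.nd (.nd (.lf 257) (.lf 443)) (.lf 306)) (.nd (.lf 387) (.lf 268)))) (.nd (.nd (.nd (.nd (.lf 468) (.lf 591)) (.lf 69)) (.nd (.lf 446) (.lf 586))) (.nd (.nd (.nd (.lf 100) (.lf 569)) (.lf 31)) (.nd (.lf 671) (.lf 386)))))) (.nd (.nd (.nd (.nd (.nd (.nd (.lf 18) (.lf 462)) (.lf 375)) (.nd (.nd (.lf 527) (.lf 12)) (.lf 208))) (.nd (.nd (.nd (.lf 273) (.lf 234)) (.lf 564)) (.nd (.lf 92) (.lf 639)))) (.nd (.nd (.nd (.nd (.lf 402) (.lf 218)) (.lf 33)) (.nd (.lf 388) (.lf 647))) (.nd (.nd (.nd (.lf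 399) (.lf 352)) (.lf 217)) (.nd (.lf 266) (.lf 422))))) (.nd (.nd (.nd (.nd (.nd (.lf 616) (.lf 78)) (.lf 165)) (.nd (.nd (.lf 628) (.lf 346)) (.lf 627))) (.nd (.nd (.nd (.lf 243) (.lf 224)) (.lf 416)) (.nd (.lf 531) (.lf 148)))) (.nd (.nd (.nd (.nd (.lf 25) (.lf 328)) (.lf 652)) (.nd (.lf 228) (.lf 250))) (.nd (.nd (.nd (.lf 278) (.lf 574)) (.lf 669)) (.nd (.lf 511) (.lf 367))))))) (.nd (.nd (.nd (.nd (.nd (.nd (.nd (.lf 549) (.lf 626)) (.lf 332)) (.nd (.nd (.lf 656) (.lf 263)) (.lf 344))) (.nd (.nd (.nd (.lf 640) (.lf 505)) (.lf 169)) (.nd (.lf 575) (.lf 488)))) (.nd (.nd (.nd (.nd (.lf 93) (.lf 398)) (.lf 276)) (.nd (.lf 374) (.lf 198))) (.nd (.nd (.nd (.lf 523) (.lf 617)) (.lf 644)) (.nd (.lf 593) (.lf 520))))) (.nd (.nd (.nd (.nd (.nd (.lf 300) (.lf 657)) (.lf 522)) (.nd (.nd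 (.lf 216) (.lf 111)) (.lf 491))) (.nd (.nd (.nd (.lf 329) (.lf 310)) (.lf 321)) (.nd (.lf 190) (.lf 56)))) (.nd (.nd (.nd (.nd (.lf 541) (.lf 252)) (.lf 417)) (.nd (.lf 365) (.lf 589))) (.nd (.nd (.nd (.lf 507) (.lf 296)) (.lf 267)) (.nd (.lf 178) (.lf 438)))))) (.nd (.nd (.nd (.nd (.nd (.nd (.lf 347) (.lf 579)) (.lf 19)) (.nd (.nd (.lf 495) (.lf 400)) (.lf 634))) (.nd (.nd (.nd (.lf 584) (.lf 359)) (.lf 67)) (.nd (.lf 473) (.lf 143)))) (.nd (.nd (.nd (.nd (.lf 664) (.lf 605)) (.lf 303)) (.nd (.lf 265) (.lf 291))) (.nd (.nd (.nd (.lf 135) (.lf 237)) (.lf 11)) (.nd (.lf 123) (.lf 137))))) (.nd (.nd (.nd (.nd (.nd (.lf 14) (.lf 493)) (.lf 570)) (.nd (.nd (.lf 482) (.lf 41)) (.lf 353))) (.nd (.nd (.nd (.lf 269) (.lf 76)) (.lf 394)) (.nd (.lf 517) (.lf 376)))) (.nd (.nd (.nd (.nd (.lf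 214) (.lf 8)) (.lf 496)) (.nd (.lf 320) (.lf 125))) (.nd (.nd (.nd (.lf 487) (.lf 412)) (.lf 654)) (.nd (.lf 384) (.lf 336)))))))) (.nd (.nd (.nd (.nd (.nd (.nd (.nd (.nd (.lf 313) (.lf 287)) (.lf 5)) (.nd (.nd (.lf 6) (.lf 397)) (.lf 615))) (.nd (.nd (.nd (.lf 532) (.lf 382)) (.lf 91)) (.nd (.lf 620) (.lf 460)))) (.nd (.nd (.nd (.nd (.lf 506) (.lf 351)) (.lf 270)) (.nd (.lf 363) (.lf 311))) (.nd (.nd (.nd (.lf 22) (.lf 312)) (.lf 124)) (.nd (.lf 241) (.lf 464))))) (.nd (.nd (.nd (.nd (.nd (.lf 545) (.lf 258)) (.lf 317)) (.nd (.nd (.lf 600) (.lf 643)) (.lf 75))) (.nd (.nd (.nd (.lf 74) (.lf 543)) (.lf 619)) (.nd (.lf 390) (.lf 338)))) (.nd (.nd (.nd (.nd (.lf 141) (.lf 324)) (.lf 292)) (.nd (.lf 254) (.lf 152))) (.nd (.nd (.nd (.lf 515) (.lf 548)) (.lf 637)) (.nd (.lf 533) (.lf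 410)))))) (.nd (.nd (.nd (.nd (.nd (.nd (.lf 429) (.lf 553)) (.lf 166)) (.nd (.nd (.lf 651) (.lf 409)) (.lf 563))) (.nd (.nd (.nd (.lf 262) (.lf 477)) (.lf 645)) (.nd (.lf 401) (.lf 36)))) (.nd (.nd (.nd (.nd (.lf 355) (.lf 102)) (.lf 334)) (.nd (.lf 297) (.lf 9))) (.nd (.nd (.nd (.lf 426) (.lf 62)) (.lf 572)) (.nd (.lf 598) (.lf 158))))) (.nd (.nd (.nd (.nd (.nd (.lf 302) (.lf 279)) (.lf 481)) (.nd (.nd (.lf 357) (.lf 244)) (.lf 556))) (.nd (.nd (.nd (.lf 145) (.lf 16)) (.lf 21)) (.nd (.lf 118) (.lf 189)))) (.nd (.nd (.nd (.nd (.lf 576) (.lf 608)) (.lf 425)) (.nd (.lf 80) (.lf 264))) (.nd (.nd (.nd (.lf 458) (.lf 467)) (.lf 613)) (.nd (.lf 84) (.lf 46))))))) (.nd (.nd (.nd (.nd (.nd (.nd (.nd (.lf 560) (.lf 226)) (.lf 132)) (.nd (.nd (.lf 289) (.lf 60)) (.lf 546))) (.nd (.nd (.nd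 (.lf 199) (.lf 38)) (.lf 86)) (.nd (.lf 518) (.lf 191)))) (.nd (.nd (.nd (.nd (.lf 203) (.lf 373)) (.lf 98)) (.nd (.lf 149) (.lf 87))) (.nd (.nd (.nd (.lf 55) (.lf 629)) (.lf 29)) (.nd (.lf 113) (.lf 136))))) (.nd (.nd (.nd (.nd (.nd (.lf 562) (.lf 606)) (.lf 427)) (.nd (.nd (.lf 133) (.lf 607)) (.lf 441))) (.nd (.nd (.nd (.lf 479) (.lf 202)) (.lf 358)) (.nd (.lf 567) (.lf 246)))) (.nd (.nd (.nd (.nd (.lf 130) (.lf 663)) (.lf 242)) (.nd (.lf 53) (.lf 497))) (.nd (.nd (.nd (.lf 472) (.lf 174)) (.lf 350)) (.nd (.lf 256) (.lf 485)))))) (.nd (.nd (.nd (.nd (.nd (.nd (.lf 97) (.lf 134)) (.lf 500)) (.nd (.nd (.lf 469) (.lf 594)) (.lf 633))) (.nd (.nd (.nd (.lf 611) (.lf 452)) (.lf 547)) (.nd (.lf 503) (.lf 537)))) (.nd (.nd (.nd (.nd (.lf 119) (.lf 590)) (.lf 445)) (.nd (.lf 624) (.lf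 99))) (.nd (.nd (.nd (.lf 439) (.lf 308)) (.lf 535)) (.nd (.lf 147) (.lf 463))))) (.nd (.nd (.nd (.nd (.nd (.lf 571) (.lf 28)) (.lf 538)) (.nd (.nd (.lf 385) (.lf 565)) (.lf 561))) (.nd (.nd (.nd (.lf 126) (.lf 345)) (.lf 57)) (.nd (.lf 215) (.lf 377)))) (.nd (.nd (.nd (.nd (.lf 325) (.lf 39)) (.lf 209)) (.nd (.lf 50) (.lf 219))) (.nd (.nd (.nd (.lf 407) (.lf 433)) (.lf 261)) (.nd (.lf 478) (.lf 524)))))))))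

/-- its shifts -/
def epT2 : Trie :=
  .nd (.nd (.nd (.nd (.nd (.nd (.nd (.nd (.nd (.nd (.lf 3) (.lf 3)) (.lf 3)) (.nd (.nd (.lf 1) (.lf 2)) (.lf 0))) (.nd (.nd (.nd (.lf 2) (.lf 3)) (.lf 0)) (.nd (.lf 0) (.lf 0)))) (.nd (.nd (.nd (.nd (.lf 2) (.lf 2)) (.lf 3)) (.nd (.lf 2) (.lf 1))) (.nd (.nd (.nd (.lf 1) (.lf 1)) (.lf 3)) (.nd (.lf 0) (.lf 2))))) (.nd (.nd (.nd (.nd (.nd (.lf 1) (.lf 1)) (.lf 1)) (.nd (.nd (.lf 0) (.lf 1)) (.lf 0))) (.nd (.nd (.nd (.lf 1) (.lf 3)) (.lf 2)) (.nd (.lf 0) (.lf 3)))) (.nd (.nd (.nd (.nd (.lf 1) (.lf 3)) (.lf 3)) (.nd (.lf 1) (.lf 3))) (.nd (.nd (.nd (.lf 1) (.lf 1)) (.lf 0)) (.nd (.lf 1) (.lf 3)))))) (.nd (.nd (.nd (.nd (.nd (.nd (.lf 0) (.lf 1)) (.lf 3)) (.nd (.nd (.lf 2) (.lf 3)) (.lf 1))) (.nd (.nd (.nd (.lf 0) (.lf 1)) (.lf 2)) (.nd (.lf 0)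 (.lf 2)))) (.nd (.nd (.nd (.nd (.lf 0) (.lf 2)) (.lf 1)) (.nd (.lf 1) (.lf 2))) (.nd (.nd (.nd (.lf 2) (.lf 2)) (.lf 2)) (.nd (.lf 3) (.lf 0))))) (.nd (.nd (.nd (.nd (.nd (.lf 1) (.lf 2)) (.lf 2)) (.nd (.nd (.lf 1) (.lf 0)) (.lf 0))) (.nd (.nd (.nd (.lf 0) (.lf 1)) (.lf 0)) (.nd (.lf 0) (.lf 2)))) (.nd (.nd (.nd (.nd (.lf 0) (.lf 2)) (.lf 0)) (.nd (.lf 0) (.lf 2))) (.nd (.nd (.nd (.lf 3) (.lf 1)) (.lf 3)) (.nd (.lf 1) (.lf 1))))))) (.nd (.nd (.nd (.nd (.nd (.nd (.nd (.lf 2) (.lf 1)) (.lf 1)) (.nd (.nd (.lf 1) (.lf 0)) (.lf 3))) (.nd (.nd (.nd (.lf 2) (.lf 3)) (.lf 0)) (.nd (.lf 0) (.lf 2)))) (.nd (.nd (.nd (.nd (.lf 1) (.lf 3)) (.lf 3)) (.nd (.lf 2) (.lf 1))) (.nd (.nd (.nd (.lf 2) (.lf 2)) (.lf 2)) (.nd (.lf 3) (.lf 0))))) (.nd (.nd (.nd (.nd (.nd (.lf 2) (.lf 0)) (.lf 1)) (.nd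 (.nd (.lf 0) (.lf 3)) (.lf 3))) (.nd (.nd (.nd (.lf 1) (.lf 0)) (.lf 0)) (.nd (.lf 3) (.lf 2)))) (.nd (.nd (.nd (.nd (.lf 2) (.lf 3)) (.lf 0)) (.nd (.lf 2) (.lf 2))) (.nd (.nd (.nd (.lf 2) (.lf 1)) (.lf 1)) (.nd (.lf 0) (.lf 3)))))) (.nd (.nd (.nd (.nd (.nd (.nd (.lf 3) (.lf 2)) (.lf 3)) (.nd (.nd (.lf 1) (.lf 3)) (.lf 0))) (.nd (.nd (.nd (.lf 3) (.lf 3)) (.lf 2)) (.nd (.lf 3) (.lf 3)))) (.nd (.nd (.nd (.nd (.lf 2) (.lf 0)) (.lf 2)) (.nd (.lf 1) (.lf 1))) (.nd (.nd (.nd (.lf 3) (.lf 0)) (.lf 3)) (.nd (.lf 3) (.lf 2))))) (.nd (.nd (.nd (.nd (.nd (.lf 0) (.lf 3)) (.lf 3)) (.nd (.nd (.lf 0) (.lf 2)) (.lf 0))) (.nd (.nd (.nd (.lf 3) (.lf 3)) (.lf 3)) (.nd (.lf 1) (.lf 2)))) (.nd (.nd (.nd (.nd (.lf 1) (.lf 1)) (.lf 0)) (.nd (.lf 0) (.lf 3))) (.nd (.nd (.nd (.lf 1) (.lf 0)) (.lf 1))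 (.nd (.lf 3) (.lf 3)))))))) (.nd (.nd (.nd (.nd (.nd (.nd (.nd (.nd (.lf 3) (.lf 1)) (.lf 2)) (.nd (.nd (.lf 3) (.lf 2)) (.lf 3))) (.nd (.nd (.nd (.lf 0) (.lf 1)) (.lf 2)) (.nd (.lf 0) (.lf 1)))) (.nd (.nd (.nd (.nd (.lf 2) (.lf 0)) (.lf 3)) (.nd (.lf 0) (.lf 2))) (.nd (.nd (.nd (.lf 2) (.lf 0)) (.lf 1)) (.nd (.lf 3) (.lf 2))))) (.nd (.nd (.nd (.nd (.nd (.lf 0) (.lf 2)) (.lf 3)) (.nd (.nd (.lf 2) (.lf 3)) (.lf 3))) (.nd (.nd (.nd (.lf 1) (.lf 3)) (.lf 1)) (.nd (.lf 2) (.lf 0)))) (.nd (.nd (.nd (.nd (.lf 1) (.lf 0)) (.lf 0)) (.nd (.lf 2) (.lf 1))) (.nd (.nd (.nd (.lf 2) (.lf 2)) (.lf 0)) (.nd (.lf 2) (.lf 2)))))) (.nd (.nd (.nd (.nd (.nd (.nd (.lf 3) (.lf 2)) (.lf 0)) (.nd (.nd (.lf 1) (.lf 2)) (.lf 1))) (.nd (.nd (.nd (.lf 2) (.lf 0)) (.lf 3)) (.nd (.lf 3) (.lf 0)))) (.nd (.nd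 (.nd (.nd (.lf 2) (.lf 2)) (.lf 1)) (.nd (.lf 1) (.lf 3))) (.nd (.nd (.nd (.lf 2) (.lf 3)) (.lf 0)) (.nd (.lf 2) (.lf 3))))) (.nd (.nd (.nd (.nd (.nd (.lf 0) (.lf 1)) (.lf 0)) (.nd (.nd (.lf 1) (.lf 0)) (.lf 2))) (.nd (.nd (.nd (.lf 3) (.lf 2)) (.lf 3)) (.nd (.lf 1) (.lf 3)))) (.nd (.nd (.nd (.nd (.lf 3) (.lf 0)) (.lf 3)) (.nd (.lf 0) (.lf 3))) (.nd (.nd (.nd (.lf 2) (.lf 1)) (.lf 2)) (.nd (.lf 1) (.lf 3))))))) (.nd (.nd (.nd (.nd (.nd (.nd (.nd (.lf 0) (.lf 3)) (.lf 2)) (.nd (.nd (.lf 1) (.lf 2)) (.lf 1))) (.nd (.nd (.nd (.lf 3) (.lf 1)) (.lf 2)) (.nd (.lf 2) (.lf 1)))) (.nd (.nd (.nd (.nd (.lf 0) (.lf 0)) (.lf 1)) (.nd (.lf 1) (.lf 3))) (.nd (.nd (.nd (.lf 0) (.lf 0)) (.lf 1)) (.nd (.lf 1) (.lf 3))))) (.nd (.nd (.nd (.nd (.nd (.lf 1) (.lf 0)) (.lf 1)) (.nd (.nd (.lf 3) (.lf 3))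 (.lf 3))) (.nd (.nd (.nd (.lf 1) (.lf 2)) (.lf 3)) (.nd (.lf 3) (.lf 3)))) (.nd (.nd (.nd (.nd (.lf 0) (.lf 0)) (.lf 0)) (.nd (.lf 2) (.lf 3))) (.nd (.nd (.nd (.lf 2) (.lf 0)) (.lf 2)) (.nd (.lf 3) (.lf 1)))))) (.nd (.nd (.nd (.nd (.nd (.nd (.lf 3) (.lf 2)) (.lf 1)) (.nd (.nd (.lf 3) (.lf 3)) (.lf 3))) (.nd (.nd (.nd (.lf 3) (.lf 0)) (.lf 2)) (.nd (.lf 2) (.lf 2)))) (.nd (.nd (.nd (.nd (.lf 2) (.lf 0)) (.lf 3)) (.nd (.lf 0) (.lf 2))) (.nd (.nd (.nd (.lf 3) (.lf 2)) (.lf 0)) (.nd (.lf 0) (.lf 2))))) (.nd (.nd (.nd (.nd (.nd (.lf 3) (.lf 2)) (.lf 1)) (.nd (.nd (.lf 0) (.lf 2)) (.lf 2))) (.nd (.nd (.nd (.lf 1) (.lf 2)) (.lf 3)) (.nd (.lf 2) (.lf 2)))) (.nd (.nd (.nd (.nd (.lf 2) (.lf 0)) (.lf 1)) (.nd (.lf 0) (.lf 0))) (.nd (.nd (.nd (.lf 1) (.lf 3)) (.lf 1)) (.nd (.lf 3) (.lf 1)))))))))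 (.nd (.nd (.nd (.nd (.nd (.nd (.nd (.nd (.nd (.lf 2) (.lf 0)) (.lf 1)) (.nd (.nd (.lf 0) (.lf 3)) (.lf 1))) (.nd (.nd (.nd (.lf 0) (.lf 0)) (.lf 1)) (.nd (.lf 1) (.lf 2)))) (.nd (.nd (.nd (.nd (.lf 0) (.lf 2)) (.lf 1)) (.nd (.lf 3) (.lf 3))) (.nd (.nd (.nd (.lf 1) (.lf 2)) (.lf 2)) (.nd (.lf 0) (.lf 3))))) (.nd (.nd (.nd (.nd (.nd (.lf 3) (.lf 2)) (.lf 0)) (.nd (.nd (.lf 1) (.lf 0)) (.lf 1))) (.nd (.nd (.nd (.lf 3) (.lf 1)) (.lf 3)) (.nd (.lf 1) (.lf 3)))) (.nd (.nd (.nd (.nd (.lf 3) (.lf 1)) (.lf 0)) (.nd (.lf 0) (.lf 0))) (.nd (.nd (.nd (.lf 2) (.lf 1)) (.lf 2)) (.nd (.lf 2) (.lf 0)))))) (.nd (.nd (.nd (.nd (.nd (.nd (.lf 1) (.lf 0)) (.lf 3)) (.nd (.nd (.lf 1) (.lf 3)) (.lf 2))) (.nd (.nd (.nd (.lf 1) (.lf 3)) (.lf 2)) (.nd (.lf 0) (.lf 3)))) (.nd (.nd (.nd (.nd (.lf 3) (.lf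 2)) (.lf 3)) (.nd (.lf 2) (.lf 0))) (.nd (.nd (.nd (.lf 2) (.lf 0)) (.lf 3)) (.nd (.lf 1) (.lf 3))))) (.nd (.nd (.nd (.nd (.nd (.lf 0) (.lf 3)) (.lf 3)) (.nd (.nd (.lf 0) (.lf 2)) (.lf 1))) (.nd (.nd (.nd (.lf 3) (.lf 2)) (.lf 2)) (.nd (.lf 1) (.lf 2)))) (.nd (.nd (.nd (.nd (.lf 1) (.lf 1)) (.lf 1)) (.nd (.lf 3) (.lf 2))) (.nd (.nd (.nd (.lf 2) (.lf 3)) (.lf 0)) (.nd (.lf 3) (.lf 3))))))) (.nd (.nd (.nd (.nd (.nd (.nd (.nd (.lf 1) (.lf 1)) (.lf 2)) (.nd (.nd (.lf 3) (.lf 3)) (.lf 3))) (.nd (.nd (.nd (.lf 3) (.lf 2)) (.lf 0)) (.nd (.lf 2) (.lf 2)))) (.nd (.nd (.nd (.nd (.lf 3) (.lf 2)) (.lf 3)) (.nd (.lf 1) (.lf 2))) (.nd (.nd (.nd (.lf 1) (.lf 2)) (.lf 0)) (.nd (.lf 3) (.lf 3))))) (.nd (.nd (.nd (.nd (.nd (.lf 1) (.lf 1)) (.lf 0)) (.nd (.nd (.lf 1) (.lf 3)) (.lf 0))) (.nd (.nd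 (.nd (.lf 3) (.lf 2)) (.lf 1)) (.nd (.lf 3) (.lf 3)))) (.nd (.nd (.nd (.nd (.lf 1) (.lf 1)) (.lf 2)) (.nd (.lf 0) (.lf 2))) (.nd (.nd (.nd (.lf 1) (.lf 0)) (.lf 1)) (.nd (.lf 3) (.lf 2)))))) (.nd (.nd (.nd (.nd (.nd (.nd (.lf 1) (.lf 2)) (.lf 1)) (.nd (.nd (.lf 2) (.lf 3)) (.lf 1))) (.nd (.nd (.nd (.lf 2) (.lf 0)) (.lf 0)) (.nd (.lf 3) (.lf 1)))) (.nd (.nd (.nd (.nd (.lf 3) (.lf 3)) (.lf 3)) (.nd (.lf 2) (.lf 2))) (.nd (.nd (.nd (.lf 3) (.lf 1)) (.lf 3)) (.nd (.lf 1) (.lf 3))))) (.nd (.nd (.nd (.nd (.nd (.lf 1) (.lf 0)) (.lf 0)) (.nd (.nd (.lf 0) (.lf 3)) (.lf 1))) (.nd (.nd (.nd (.lf 0) (.lf 2)) (.lf 0)) (.nd (.lf 0) (.lf 3)))) (.nd (.nd (.nd (.nd (.lf 1) (.lf 3)) (.lf 1)) (.nd (.lf 3) (.lf 3))) (.nd (.nd (.nd (.lf 0) (.lf 1)) (.lf 1)) (.nd (.lf 3) (.lf 0)))))))) (.nd (.nd (.nd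 (.nd (.nd (.nd (.nd (.nd (.lf 1) (.lf 1)) (.lf 3)) (.nd (.nd (.lf 1) (.lf 2)) (.lf 3))) (.nd (.nd (.nd (.lf 1) (.lf 0)) (.lf 3)) (.nd (.lf 0) (.lf 3)))) (.nd (.nd (.nd (.nd (.lf 0) (.lf 1)) (.lf 1)) (.nd (.lf 1) (.lf 1))) (.nd (.nd (.nd (.lf 1) (.lf 3)) (.lf 1)) (.nd (.lf 3) (.lf 3))))) (.nd (.nd (.nd (.nd (.nd (.lf 1) (.lf 3)) (.lf 3)) (.nd (.nd (.lf 0) (.lf 0)) (.lf 1))) (.nd (.nd (.nd (.lf 0) (.lf 0)) (.lf 1)) (.nd (.lf 3) (.lf 2)))) (.nd (.nd (.nd (.nd (.lf 3) (.lf 3)) (.lf 2)) (.nd (.lf 3) (.lf 3))) (.nd (.nd (.nd (.lf 1) (.lf 0)) (.lf 1)) (.nd (.lf 2) (.lf 3)))))) (.nd (.nd (.nd (.nd (.nd (.nd (.lf 0) (.lf 0)) (.lf 1)) (.nd (.nd (.lf 2) (.lf 3)) (.lf 1))) (.nd (.nd (.nd (.lf 3) (.lf 3)) (.lf 1)) (.nd (.lf 0) (.lf 1)))) (.nd (.nd (.nd (.nd (.lf 1) (.lf 0)) (.lf 3)) (.nd (.lf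 2) (.lf 0))) (.nd (.nd (.nd (.lf 3) (.lf 2)) (.lf 2)) (.nd (.lf 0) (.lf 2))))) (.nd (.nd (.nd (.nd (.nd (.lf 2) (.lf 0)) (.lf 3)) (.nd (.nd (.lf 1) (.lf 3)) (.lf 1))) (.nd (.nd (.nd (.lf 0) (.lf 2)) (.lf 0)) (.nd (.lf 0) (.lf 3)))) (.nd (.nd (.nd (.nd (.lf 2) (.lf 0)) (.lf 3)) (.nd (.lf 3) (.lf 2))) (.nd (.nd (.nd (.lf 2) (.lf 3)) (.lf 0)) (.nd (.lf 0) (.lf 1))))))) (.nd (.nd (.nd (.nd (.nd (.nd (.nd (.lf 2) (.lf 3)) (.lf 3)) (.nd (.nd (.lf 0) (.lf 2)) (.lf 2))) (.nd (.nd (.nd (.lf 1) (.lf 0)) (.lf 0)) (.nd (.lf 0) (.lf 2)))) (.nd (.nd (.nd (.nd (.lf 1) (.lf 2)) (.lf 1)) (.nd (.lf 0) (.lf 1))) (.nd (.nd (.nd (.lf 3) (.lf 0)) (.lf 3)) (.nd (.lf 0) (.lf 2))))) (.nd (.nd (.nd (.nd (.nd (.lf 2) (.lf 2)) (.lf 3)) (.nd (.nd (.lf 2) (.lf 3)) (.lf 2))) (.nd (.nd (.nd (.lf 3) (.lf 1)) (.lf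 0)) (.nd (.lf 2) (.lf 3)))) (.nd (.nd (.nd (.nd (.lf 1) (.lf 3)) (.lf 3)) (.nd (.lf 3) (.lf 1))) (.nd (.nd (.nd (.lf 0) (.lf 3)) (.lf 0)) (.nd (.lf 2) (.lf 2)))))) (.nd (.nd (.nd (.nd (.nd (.nd (.lf 0) (.lf 2)) (.lf 3)) (.nd (.nd (.lf 3) (.lf 0)) (.lf 3))) (.nd (.nd (.nd (.lf 3) (.lf 0)) (.lf 0)) (.nd (.lf 3) (.lf 1)))) (.nd (.nd (.nd (.nd (.lf 3) (.lf 1)) (.lf 0)) (.nd (.lf 0) (.lf 1))) (.nd (.nd (.nd (.lf 0) (.lf 2)) (.lf 2)) (.nd (.lf 3) (.lf 1))))) (.nd (.nd (.nd (.nd (.nd (.lf 0) (.lf 0)) (.lf 3)) (.nd (.nd (.lf 1) (.lf 3)) (.lf 3))) (.nd (.nd (.nd (.lf 0) (.lf 2)) (.lf 0)) (.nd (.lf 0) (.lf 2)))) (.nd (.nd (.nd (.nd (.lf 3) (.lf 0)) (.lf 2)) (.nd (.lf 1) (.lf 3))) (.nd (.nd (.nd (.lf 3) (.lf 0)) (.lf 0)) (.nd (.lf 1) (.lf 2)))))))))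

/-- an orbit tree of singular points -/
def orbitData : List (Nat × Nat × Nat) :=
  [(3341, 5, 1), (1545, 3341, 0), (3617, 3341, 1), (3129, 1545, 1), (3620, 3617, 0), (2868, 3617, 1), (2093, 3129, 0), (825, 3129, 1), (2849, 3620, 1), (2865, 2868, 0), (1300, 2868, 1), (3636, 2093, 1), (557, 825, 0), (3076, 825, 1), (2852, 2849, 0), (285, 2849, 1), (2073, 2865, 1), (1297, 1300, 0), (3773, 1300, 1), (3633, 3636, 0), (549, 3636, 1), (2309, 557, 1), (3073, 3076, 0), (2985, 3076, 1), (3088, 2852, 1), (553, 285, 0), (2193, 285, 1), (1085, 2073, 0), (3673, 2073, 1), (3949, 1297, 1), (2009, 3773, 0), (3737, 3773, 1), (2580, 3633, 1), (157, 549, 1), (3908, 2309, 1), (1781, 3073, 1), (1629, 2985, 0), (36, 2985, 1), (3024, 3088, 1), (2025, 553, 1), (2196, 2193, 0), (1201, 2193, 1), (852,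 1085, 1), (2557, 3673, 0), (1453, 3673, 1), (1465, 3949, 0), (3837, 3949, 1), (916, 2009, 1), (2429, 3737, 0), (2577, 2580, 0), (2549, 2580, 1), (233, 157, 0), (2612, 157, 1), (3905, 3908, 0), (1556, 3908, 1), (3589, 1781, 1), (3345, 1629, 1), (33, 36, 0), (2473, 3024, 1), (3741, 2025, 0), (2704, 2025, 1), (2661, 2196, 1), (1204, 1201, 0), (849, 852, 0), (3524, 852, 1), (2397, 2557, 1), (2809, 1453, 0), (4013, 1465, 1), (1881, 3837, 0), (913, 916, 0), (3236, 2577, 1), (2356, 2549, 1), (533, 233, 1), (2609, 2612, 0), (2045, 2612, 1), (49, 3905, 1), (1553, 1556, 0), (1601, 1556, 1), (585, 3589, 1), (3348, 3345, 0), (217, 3345, 1), (1437, 33, 1), (1885, 2473, 0), (717, 2473, 1), (1949, 3741, 1), (2753, 2704, 1), (125, 2661, 1), (2225, 1204, 1), (1665, 849, 1), (3521, 3524, 0), (829,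 3524, 1), (3753, 2397, 0), (2049, 2397, 1), (297, 2809, 1), (1529, 4013, 0), (1025, 4013, 1), (2836, 1881, 1), (809, 913, 1), (3233, 3236, 0), (2317, 3236, 1), (2353, 2356, 0), (3541, 2356, 1), (2457, 533, 1), (3920, 2609, 1), (2393, 2045, 0), (2793, 2045, 1), (52, 49, 0), (657, 49, 1), (3460, 1553, 1), (1604, 1601, 0), (2228, 1601, 1), (461, 585, 0), (797, 585, 1), (2917, 3348, 1), (189, 217, 0), (2833, 217, 1), (541, 1437, 1), (2125, 1885, 1), (841, 717, 0), (3925, 717, 1), (2537, 1949, 0), (689, 1949, 1), (2756, 2753, 0), (2132, 2753, 1), (153, 125, 0), (1988, 125, 1), (3509, 2225, 1), (1668, 1665, 0), (1572, 1665, 1), (1069, 3521, 1), (281, 829, 0), (2681, 829, 1), (1801, 3753, 1), (2052, 2049, 0), (2369, 2049, 1), (3561, 297, 1), (2565, 1529, 1), (1028, 1025, 0), (813, 1025,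 1), (3364, 2836, 1), (1280, 809, 1), (1293, 3233, 1), (3593, 2317, 0), (3065, 2317, 1), (3513, 2353, 1), (1108, 3541, 1), (1917, 2457, 0), (3269, 2457, 1), (1645, 3920, 1), (1909, 52, 1), (660, 657, 0), (576, 657, 1), (3457, 3460, 0), (1685, 3460, 1), (3433, 2228, 1), (3445, 797, 1), (257, 2917, 1), (1805, 541, 1), (3209, 2125, 0), (372, 2125, 1), (500, 841, 1), (1893, 2537, 1), (692, 689, 0), (2692, 689, 1), (1369, 2756, 1), (2129, 2132, 0), (1093, 153, 1), (1985, 1988, 0), (17, 1668, 1), (1569, 1572, 0), (333, 1572, 1), (2105, 1069, 0), (3316, 1069, 1), (993, 281, 1), (1517, 2681, 0), (3709, 2681, 1), (3597, 1801, 0), (3792, 1801, 1), (453, 2052, 1), (2372, 2369, 0), (3049, 2369, 1), (2973, 3561, 0), (2257, 3561, 1), (2085, 2565, 1), (1053, 1028, 1), (313, 813, 0), (1137, 813,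 1), (3361, 3364, 0), (1389, 3364, 1), (1841, 1280, 1), (2569, 1293, 0), (1101, 1293, 1), (1621, 3593, 1), (1709, 3065, 0), (320, 3065, 1), (2925, 3513, 0), (2677, 3513, 1), (1105, 1108, 0), (1345, 1108, 1), (1809, 3269, 1), (3001, 1645, 0), (793, 1645, 1), (3169, 1909, 1), (3277, 660, 1), (1857, 576, 1), (2937, 3457, 1), (3037, 3433, 0), (2896, 3445, 1), (260, 257, 0), (2825, 257, 1), (2313, 1805, 0), (2321, 1805, 1), (3989, 3209, 1), (369, 372, 0), (3493, 372, 1), (497, 500, 0), (709, 692, 1), (2689, 2692, 0), (4005, 2692, 1), (4093, 1369, 0), (3045, 2129, 1), (1289, 1985, 1), (20, 17, 0), (2965, 17, 1), (3136, 1569, 1), (649, 333, 0), (2921, 333, 1), (2389, 2105, 1), (3313, 3316, 0), (996, 993, 0), (3801, 993, 1), (4077, 1517, 1), (1945, 3709, 0), (2669, 3597, 1), (221, 3792,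 1), (3972, 453, 1), (1653, 2372, 1), (1693, 3049, 0), (1897, 2973, 1), (2260, 2257, 0), (2409, 2085, 1), (2089, 1053, 0), (2640, 1053, 1), (2789, 313, 1), (1140, 1137, 0), (2189, 1137, 1), (2525, 3361, 1), (2745, 1389, 0), (185, 1389, 1), (1844, 1841, 0), (1965, 1841, 1), (909, 2569, 1), (2185, 1101, 0), (2292, 1101, 1), (3149, 1709, 1), (2069, 320, 1), (1169, 2925, 1), (3701, 2677, 1), (393, 1105, 1), (1348, 1345, 0), (1812, 1809, 0), (2469, 1809, 1), (3604, 3001, 1), (573, 793, 0), (772, 793, 1), (3172, 3169, 0), (2649, 3169, 1), (1097, 3277, 0), (2000, 3277, 1), (1860, 1857, 0), (2653, 1857, 1), (1773, 2937, 0), (3220, 2937, 1), (2109, 3037, 1), (1541, 260, 1), (1549, 2825, 0), (356, 2825, 1), (309, 2313, 1), (2324, 2321, 0), (2741, 2321, 1), (4073, 3989, 1), (3417, 369, 1),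 (516, 3493, 1), (2289, 497, 1), (3437, 709, 1), (340, 2689, 1), (481, 4005, 1), (1373, 4093, 1), (3069, 3045, 1), (3853, 1289, 0), (2905, 1289, 1), (121, 20, 1), (93, 2965, 1), (4036, 3136, 1), (1717, 649, 1), (1757, 2921, 0), (1424, 2921, 1), (2960, 2389, 1), (1961, 3313, 1), (980, 996, 1), (2493, 3801, 0), (1401, 4077, 0), (2901, 4077, 1), (1088, 1945, 1), (4025, 2669, 0), (2421, 2669, 1), (105, 221, 0), (4048, 221, 1), (3969, 3972, 0), (2989, 1653, 1), (581, 1693, 1), (3805, 1897, 0), (2596, 1897, 1), (1329, 2260, 1), (2013, 2409, 0), (3481, 2409, 1), (1429, 2640, 1), (1493, 2789, 1), (589, 1140, 1), (3273, 2189, 0), (3689, 2525, 0), (1877, 2525, 1), (3029, 2745, 1), (109, 185, 0), (1360, 1844, 1), (2553, 1965, 0), (2997, 1965, 1), (457, 909, 0), (1749, 909, 1), (1161, 3149,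 0), (1588, 3149, 1), (3685, 2069, 1), (1172, 1169, 0), (1049, 3701, 1), (845, 393, 0), (3601, 393, 1), (3097, 1348, 1), (3156, 1812, 1), (1236, 2469, 1), (3117, 3604, 1), (769, 772, 0), (2164, 772, 1), (1009, 3172, 1), (1533, 2649, 0), (117, 2649, 1), (2781, 1097, 1), (3185, 2000, 1), (1872, 1860, 1), (4009, 2653, 0), (2533, 1773, 1), (3217, 3220, 0), (9, 3220, 1), (1828, 2109, 1), (3581, 1541, 1), (4021, 1549, 1), (353, 356, 0), (2729, 356, 1), (1233, 2324, 1), (2717, 4073, 0), (1316, 4073, 1), (3109, 3417, 1), (513, 516, 0), (2077, 2289, 1), (1721, 3437, 0), (2773, 3437, 1), (337, 340, 0), (1185, 340, 1), (484, 481, 0), (1785, 481, 1), (1973, 1373, 1), (3889, 3069, 1), (1701, 3853, 1), (1789, 2905, 0), (237, 121, 0), (2485, 121, 1), (169, 93, 0), (132, 93, 1), (4033, 4036, 0),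 (468, 4036, 1), (2029, 1757, 1), (3677, 1961, 0), (1476, 1961, 1), (977, 980, 0), (3252, 980, 1), (929, 2493, 1), (249, 1401, 1), (3849, 2901, 1), (3876, 1088, 1), (3300, 4025, 1), (1252, 2421, 1), (1981, 105, 1), (965, 4048, 1), (1433, 3969, 1), (3577, 2989, 0), (3693, 2989, 1), (2245, 581, 1), (565, 3805, 1), (2593, 2596, 0), (3833, 2596, 1), (1332, 1329, 0), (2145, 1329, 1), (3557, 2013, 1), (2941, 3481, 0), (881, 3481, 1), (1680, 1493, 1), (905, 589, 0), (1449, 589, 1), (193, 3273, 1), (673, 3689, 1), (1381, 1877, 1), (1525, 3029, 1), (3652, 109, 1), (1225, 1360, 1), (1585, 1588, 0), (2121, 1588, 1), (4029, 1172, 1), (3133, 1049, 0), (2945, 1049, 1), (3113, 845, 1), (784, 3601, 1), (1077, 3097, 1), (3153, 3156, 0), (2805, 3156, 1), (1081, 3117, 0), (832, 3117, 1), (2161, 2164,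 0), (1941, 2164, 1), (1012, 1009, 0), (1769, 1533, 1), (253, 117, 1), (3945, 2781, 0), (3188, 3185, 0), (3413, 3185, 1), (2521, 1872, 1), (3984, 4009, 1), (2821, 3217, 1), (13, 9, 0), (4069, 9, 1), (1825, 1828, 0), (932, 1828, 1), (1625, 3581, 0), (3205, 3581, 1), (721, 2729, 1), (2933, 1233, 1), (1313, 1316, 0), (181, 1316, 1), (3249, 3109, 1), (1936, 513, 1), (1121, 1721, 1), (3281, 2773, 1), (2645, 337, 1), (1188, 1185, 0), (213, 1185, 1), (85, 484, 1), (3501, 1785, 0), (821, 1973, 1), (3892, 3889, 0), (3929, 1701, 1), (3817, 1789, 1), (3536, 2485, 1), (3393, 169, 1), (129, 132, 0), (3033, 132, 1), (3941, 4033, 1), (465, 468, 0), (2425, 2029, 0), (1249, 2029, 1), (2249, 3677, 1), (1473, 1476, 0), (1765, 1476, 1), (2517, 977, 1), (1797, 3252, 1), (1061, 929, 1), (173, 249, 0),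 (3101, 249, 1), (2573, 3849, 0), (3873, 3876, 0), (1924, 3876, 1), (3297, 3300, 0), (2541, 1252, 1), (1469, 1981, 1), (3965, 1433, 0), (1705, 1433, 1), (4061, 3577, 1), (1977, 3693, 0), (1729, 3693, 1), (713, 2245, 1), (3733, 565, 1), (2477, 3833, 0), (1265, 3833, 1), (2148, 2145, 0), (3408, 3557, 1), (2713, 2941, 1), (884, 881, 0), (2212, 905, 1), (3933, 1449, 0), (2209, 1449, 1), (196, 193, 0), (973, 193, 1), (676, 673, 0), (2884, 673, 1), (2436, 1381, 1), (3649, 3652, 0), (4053, 3652, 1), (3213, 1225, 0), (3957, 1225, 1), (1229, 2121, 0), (3845, 2121, 1), (1497, 4029, 0), (3012, 3133, 1), (2948, 2945, 0), (65, 2945, 1), (3377, 3113, 1), (4057, 1077, 1), (3517, 832, 1), (737, 2161, 1), (2768, 1012, 1), (3485, 1769, 0), (89, 253, 0), (948, 253, 1), (596, 3413, 1), (2413, 2521,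 1), (404, 13, 1), (3565, 3205, 1), (724, 721, 0), (1641, 1313, 1), (1365, 181, 1), (805, 1936, 1), (1124, 1121, 0), (3284, 3281, 0), (3757, 3281, 1), (417, 213, 1), (3829, 85, 1), (1661, 821, 1), (68, 3892, 1), (2813, 3929, 0), (2461, 3817, 0), (3573, 3817, 1), (3396, 3393, 0), (389, 3393, 1), (1637, 129, 1), (1725, 3033, 0), (3765, 3941, 1), (2709, 2425, 1), (1405, 1249, 1), (1165, 2249, 0), (2733, 2249, 1), (2969, 1473, 1), (2340, 2517, 1), (272, 173, 1), (1065, 3101, 0), (2628, 3101, 1), (1221, 3873, 1), (1921, 1924, 0), (420, 1924, 1), (165, 3297, 1), (3705, 2541, 0), (2777, 1469, 0), (3093, 1469, 1), (245, 3965, 1), (3421, 1705, 0), (3429, 1705, 1), (1385, 4061, 0), (593, 4061, 1), (1732, 1729, 0), (3728, 1729, 1), (397, 713, 0), (3145, 713, 1), (2725, 2477, 1), (1268, 1265,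 0), (625, 1265, 1), (3749, 3408, 1), (1501, 2713, 1), (1412, 884, 1), (865, 2212, 1), (2041, 3933, 1), (329, 973, 0), (2433, 973, 1), (3009, 676, 1), (2881, 2884, 0), (2276, 2884, 1), (2337, 2436, 1), (436, 3649, 1), (2625, 4053, 1), (2489, 3957, 1), (537, 3845, 1), (2512, 3012, 1), (3380, 3377, 0), (2005, 3377, 1), (2749, 4057, 0), (2064, 4057, 1), (1753, 3517, 0), (1657, 3517, 1), (740, 737, 0), (1040, 737, 1), (3769, 89, 1), (945, 948, 0), (2405, 596, 1), (401, 404, 0), (3061, 404, 1), (1409, 3565, 1), (3549, 1641, 0), (2253, 1641, 1), (2500, 1365, 1), (3141, 1124, 1), (2453, 3757, 1), (433, 3829, 1), (1045, 1661, 1), (293, 68, 1), (1157, 2813, 1), (3497, 2461, 1), (756, 3573, 1), (2497, 3396, 1), (208, 389, 1), (1445, 1637, 1), (3813, 3765, 1), (901, 2709, 1), (3664, 1165,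 1), (4089, 2733, 0), (3053, 272, 1), (645, 1065, 1), (3453, 1221, 1), (4085, 1921, 1), (2981, 3705, 1), (3005, 3093, 1), (3545, 3421, 1), (2037, 1385, 1), (2797, 1732, 1), (1397, 3728, 1), (3777, 397, 1), (2021, 1268, 1), (628, 625, 0), (1488, 625, 1), (2665, 1501, 0), (2273, 1501, 1), (868, 865, 0), (325, 329, 1), (277, 2433, 1), (1513, 2881, 1), (3125, 2276, 1), (753, 436, 1), (2304, 2625, 1), (1901, 2489, 0), (317, 537, 0), (229, 537, 1), (609, 3380, 1), (3993, 2005, 1), (301, 2749, 1), (149, 1753, 1), (653, 3549, 1), (2117, 3141, 1), (1957, 433, 1), (2909, 3497, 0), (3449, 3497, 1), (1744, 1445, 1), (569, 645, 1), (1689, 3453, 0), (837, 4085, 1), (3669, 2981, 1), (101, 3005, 1), (3961, 2797, 0), (3780, 3777, 0), (1913, 2665, 1), (3857, 2273, 1), (2112, 868, 1), (3472, 277,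 1), (3997, 1513, 0), (3337, 1513, 1), (1461, 3125, 1), (2181, 2304, 1), (612, 609, 0), (2685, 3993, 0), (969, 653, 0), (3477, 2909, 1), (1285, 1744, 1), (3821, 569, 1), (789, 3669, 1), (3716, 3961, 1), (528, 1913, 1), (3860, 3857, 0), (144, 2112, 1), (2829, 3472, 1), (3333, 3997, 1), (3713, 3337, 1), (2101, 2181, 1), (2384, 969, 1), (3328, 3477, 1), (1509, 528, 1), (1616, 144, 1), (80, 3333, 1), (2448, 3713, 1), (3797, 2448, 1)]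

/-- a word acting as a flip -/
def flipWord1 : List Nat :=
  [2, 2, 0, 1, 1, 1, 0, 1, 1, 1, 0, 1, 1, 1, 0, 1, 1, 1, 0, 1, 1, 1, 0, 1, 1, 1, 0, 2, 2, 1, 0, 1, 0, 1, 1, 0, 1, 0, 1, 0, 1, 1, 0, 1, 0, 1, 0, 1, 1, 0, 1, 0, 1, 0, 1, 1, 0, 1, 0, 1, 0, 1, 1, 0, 1, 0, 1, 0, 1, 1, 0, 1, 0, 1, 0, 1, 1, 0]

/-- its flip -/
def flip1 : Nat :=
  3

/-- a word acting as another flip -/
def flipWord2 : List Nat :=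
  [2, 2, 0, 1, 1, 1, 0, 1, 1, 1, 0, 1, 1, 1, 0, 1, 1, 1, 0, 1, 1, 1, 0, 1, 1, 1, 0, 2, 2, 0, 2, 0, 1, 1, 0, 1, 1, 1, 0, 2, 0, 1, 1, 0, 1, 1, 1, 0, 2, 0, 1, 1, 0, 1, 1, 1, 0, 2, 0, 1, 1, 0, 1, 1, 1, 0, 2, 0, 1, 1, 0, 1, 1, 1, 0, 2, 0, 1, 1, 0, 1, 1, 1, 0, 2, 0, 1, 1, 0, 1, 1, 1]

/-- its flip -/
def flip2 : Nat :=
  1

end CfsgLib.KnownB.U62Mult
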