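import Cfsg.Agent.Lib.KnownB.U62Mult.Trie

/-! The non-singular points. -/

set_option autoImplicit false
set_option maxRecDepth 100000

namespace CfsgLib.KnownB.U62Mult

/-- representatives of the non-singular points -/
def nvT : Trie :=
  .nd (.nd (.nd (.nd (.nd (.nd (.nd (.nd (.nd (.nd (.lf 1) (.lf 3105)) (.lf 1489)) (.nd (.nd (.lf 757) (.lf 3885)) (.lf 2293))) (.nd (.nd (.nd (.lf 400) (.lf 3469)) (.lf 1889)) (.nd (.lf 1125) (.lf 2676)))) (.nd (.nd (.nd (.nd (.lf 201) (.lf 3289)) (.lf 1684)) (.nd (.lf 941) (.lf 2481))) (.nd (.nd (.nd (.lf 580) (.lf 3665)) (.lf 2116)) (.nd (.lf 1296) (.lf 2885))))) (.nd (.nd (.nd (.nd (.nd (.lf 81) (.lf 3201)) (.lf 1593)) (.nd (.nd (.lf 857) (.lf 3981)) (.lf 2373))) (.nd (.nd (.nd (.lf 485) (.lf 3585)) (.lf 2001)) (.nd (.lf 1209)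 (.lf 2788)))) (.nd (.nd (.nd (.nd (.lf 305) (.lf 3373)) (.lf 1808)) (.nd (.lf 1024) (.lf 2589))) (.nd (.nd (.nd (.lf 669) (.lf 3785)) (.lf 2205)) (.nd (.lf 1377) (.lf 2993)))))) (.nd (.nd (.nd (.nd (.nd (.nd (.lf 45) (.lf 3161)) (.lf 1552)) (.nd (.nd (.lf 801) (.lf 3921)) (.lf 2333))) (.nd (.nd (.nd (.lf 441) (.lf 3529)) (.lf 1940)) (.nd (.lf 1168) (.lf 2737)))) (.nd (.nd (.nd (.nd (.lf 256) (.lf 3329)) (.lf 1745)) (.nd (.lf 985) (.lf 2532))) (.nd (.nd (.nd (.lf 629) (.lf 3725)) (.lf 2165)) (.nd (.lf 1337) (.lf 2932))))) (.nd (.nd (.nd (.nd (.nd (.lf 141) (.lf 3245)) (.lf 1633)) (.nd (.nd (.lf 897) (.lf 4041)) (.lf 2420))) (.nd (.nd (.nd (.lf 525) (.lf 3629)) (.lf 2061)) (.nd (.lf 1253) (.lf 2845)))) (.nd (.nd (.nd (.nd (.lf 357) (.lf 3409)) (.lf 1849)) (.nd (.lf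 1073) (.lf 2629))) (.nd (.nd (.nd (.lf 708) (.lf 3841)) (.lf 2244)) (.nd (.lf 1428) (.lf 3044))))))) (.nd (.nd (.nd (.nd (.nd (.nd (.nd (.lf 25) (.lf 3137)) (.lf 1521)) (.nd (.nd (.lf 777) (.lf 3904)) (.lf 2308))) (.nd (.nd (.nd (.lf 421) (.lf 3492)) (.lf 1925)) (.nd (.lf 1145) (.lf 2705)))) (.nd (.nd (.nd (.nd (.lf 225) (.lf 3309)) (.lf 1716)) (.nd (.lf 961) (.lf 2509))) (.nd (.nd (.nd (.lf 605) (.lf 3697)) (.lf 2141)) (.nd (.lf 1317) (.lf 2900))))) (.nd (.nd (.nd (.nd (.nd (.lf 113) (.lf 3225)) (.lf 1609)) (.nd (.nd (.lf 877) (.lf 4004)) (.lf 2388))) (.nd (.nd (.nd (.lf 505) (.lf 3609)) (.lf 2033)) (.nd (.lf 1232) (.lf 2820)))) (.nd (.nd (.nd (.nd (.lf 336) (.lf 3392)) (.lf 1829)) (.nd (.lf 1041) (.lf 2613))) (.nd (.nd (.nd (.lf 693) (.lf 3809)) (.lf 2229)) (.nd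 (.lf 1413) (.lf 3021)))))) (.nd (.nd (.nd (.nd (.nd (.nd (.lf 64) (.lf 3181)) (.lf 1573)) (.nd (.nd (.lf 833) (.lf 3953)) (.lf 2357))) (.nd (.nd (.nd (.lf 464) (.lf 3553)) (.lf 1972)) (.nd (.lf 1189) (.lf 2765)))) (.nd (.nd (.nd (.nd (.lf 273) (.lf 3353)) (.lf 1777)) (.nd (.lf 1005) (.lf 2564))) (.nd (.nd (.nd (.lf 644) (.lf 3748)) (.lf 2180)) (.nd (.lf 1353) (.lf 2961))))) (.nd (.nd (.nd (.nd (.nd (.lf 164) (.lf 3265)) (.lf 1669)) (.nd (.nd (.lf 921) (.lf 4065)) (.lf 2449))) (.nd (.nd (.nd (.lf 548) (.lf 3648)) (.lf 2084)) (.nd (.lf 1273) (.lf 2869)))) (.nd (.nd (.nd (.nd (.lf 377) (.lf 3441)) (.lf 1865)) (.nd (.lf 1104) (.lf 2644))) (.nd (.nd (.nd (.lf 733) (.lf 3865)) (.lf 2269)) (.nd (.lf 1460) (.lf 3081)))))))) (.nd (.nd (.nd (.nd (.nd (.nd (.nd (.nd (.lf 16)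 (.lf 3121)) (.lf 1505)) (.nd (.nd (.lf 765) (.lf 3897)) (.lf 2301))) (.nd (.nd (.nd (.lf 409) (.lf 3476)) (.lf 1905)) (.nd (.lf 1133) (.lf 2697)))) (.nd (.nd (.nd (.nd (.lf 209) (.lf 3301)) (.lf 1700)) (.nd (.lf 953) (.lf 2501))) (.nd (.nd (.nd (.lf 597) (.lf 3681)) (.lf 2133)) (.nd (.lf 1305) (.lf 2893))))) (.nd (.nd (.nd (.nd (.nd (.lf 97) (.lf 3216)) (.lf 1600)) (.nd (.nd (.lf 869) (.lf 3988)) (.lf 2381))) (.nd (.nd (.nd (.lf 493) (.lf 3600)) (.lf 2017)) (.nd (.lf 1217) (.lf 2804)))) (.nd (.nd (.nd (.nd (.lf 321) (.lf 3385)) (.lf 1817)) (.nd (.lf 1033) (.lf 2601))) (.nd (.nd (.nd (.lf 681) (.lf 3793)) (.lf 2217)) (.nd (.lf 1393) (.lf 3013)))))) (.nd (.nd (.nd (.nd (.nd (.nd (.lf 57) (.lf 3173)) (.lf 1561)) (.nd (.nd (.lf 817) (.lf 3937)) (.lf 2345))) (.nd (.nd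 (.nd (.lf 449) (.lf 3537)) (.lf 1956)) (.nd (.lf 1177) (.lf 2757)))) (.nd (.nd (.nd (.nd (.lf 265) (.lf 3344)) (.lf 1761)) (.nd (.lf 997) (.lf 2548))) (.nd (.nd (.nd (.lf 637) (.lf 3732)) (.lf 2173)) (.nd (.lf 1344) (.lf 2953))))) (.nd (.nd (.nd (.nd (.nd (.lf 148) (.lf 3257)) (.lf 1649)) (.nd (.nd (.lf 912) (.lf 4049)) (.lf 2441))) (.nd (.nd (.nd (.lf 532) (.lf 3641)) (.lf 2068)) (.nd (.lf 1261) (.lf 2857)))) (.nd (.nd (.nd (.nd (.lf 365) (.lf 3425)) (.lf 1856)) (.nd (.lf 1089) (.lf 2637))) (.nd (.nd (.nd (.lf 725) (.lf 3856)) (.lf 2261)) (.nd (.lf 1444) (.lf 3060))))))) (.nd (.nd (.nd (.nd (.nd (.nd (.nd (.lf 37) (.lf 3152)) (.lf 1537)) (.nd (.nd (.lf 785) (.lf 3913)) (.lf 2325))) (.nd (.nd (.nd (.lf 429) (.lf 3508)) (.lf 1933)) (.nd (.lf 1153) (.lf 2721)))) (.nd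 (.nd (.nd (.nd (.lf 241) (.lf 3321)) (.lf 1737)) (.nd (.lf 976) (.lf 2516))) (.nd (.nd (.nd (.lf 617) (.lf 3717)) (.lf 2153)) (.nd (.lf 1325) (.lf 2916))))) (.nd (.nd (.nd (.nd (.nd (.lf 133) (.lf 3237)) (.lf 1617)) (.nd (.nd (.lf 889) (.lf 4020)) (.lf 2404))) (.nd (.nd (.nd (.lf 517) (.lf 3621)) (.lf 2053)) (.nd (.lf 1241) (.lf 2837)))) (.nd (.nd (.nd (.nd (.lf 345) (.lf 3401)) (.lf 1837)) (.nd (.lf 1057) (.lf 2621))) (.nd (.nd (.nd (.lf 701) (.lf 3825)) (.lf 2237)) (.nd (.lf 1421) (.lf 3028)))))) (.nd (.nd (.nd (.nd (.nd (.nd (.lf 73) (.lf 3193)) (.lf 1581)) (.nd (.nd (.lf 848) (.lf 3973)) (.lf 2365))) (.nd (.nd (.nd (.lf 473) (.lf 3569)) (.lf 1993)) (.nd (.lf 1197) (.lf 2772)))) (.nd (.nd (.nd (.nd (.lf 289) (.lf 3365)) (.lf 1793)) (.nd (.lf 1017) (.lf 2581)))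 (.nd (.nd (.nd (.lf 661) (.lf 3764)) (.lf 2197)) (.nd (.lf 1361) (.lf 2977))))) (.nd (.nd (.nd (.nd (.nd (.lf 180) (.lf 3280)) (.lf 1677)) (.nd (.nd (.lf 933) (.lf 4081)) (.lf 2465))) (.nd (.nd (.nd (.lf 564) (.lf 3657)) (.lf 2100)) (.nd (.lf 1281) (.lf 2877)))) (.nd (.nd (.nd (.nd (.lf 385) (.lf 3461)) (.lf 1873)) (.nd (.lf 1113) (.lf 2660))) (.nd (.nd (.nd (.lf 745) (.lf 3877)) (.lf 2281)) (.nd (.lf 1481) (.lf 3089))))))))) (.nd (.nd (.nd (.nd (.nd (.nd (.nd (.nd (.nd (.lf 4) (.lf 3108)) (.lf 1492)) (.nd (.nd (.lf 761) (.lf 3893)) (.lf 2297))) (.nd (.nd (.nd (.lf 405) (.lf 3473)) (.lf 1892)) (.nd (.lf 1129) (.lf 2693)))) (.nd (.nd (.nd (.nd (.lf 205) (.lf 3293)) (.lf 1697)) (.nd (.lf 949) (.lf 2484))) (.nd (.nd (.nd (.lf 592) (.lf 3668)) (.lf 2128)) (.nd (.lf 1301)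 (.lf 2889))))) (.nd (.nd (.nd (.nd (.nd (.lf 84) (.lf 3204)) (.lf 1597)) (.nd (.nd (.lf 861) (.lf 3985)) (.lf 2377))) (.nd (.nd (.nd (.lf 489) (.lf 3588)) (.lf 2004)) (.nd (.lf 1213) (.lf 2801)))) (.nd (.nd (.nd (.nd (.lf 308) (.lf 3381)) (.lf 1813)) (.nd (.lf 1029) (.lf 2597))) (.nd (.nd (.nd (.lf 677) (.lf 3789)) (.lf 2213)) (.nd (.lf 1380) (.lf 2996)))))) (.nd (.nd (.nd (.nd (.nd (.nd (.lf 53) (.lf 3165)) (.lf 1557)) (.nd (.nd (.lf 804) (.lf 3924)) (.lf 2341))) (.nd (.nd (.nd (.lf 445) (.lf 3533)) (.lf 1953)) (.nd (.lf 1173) (.lf 2740)))) (.nd (.nd (.nd (.nd (.lf 261) (.lf 3332)) (.lf 1748)) (.nd (.lf 989) (.lf 2545))) (.nd (.nd (.nd (.lf 633) (.lf 3729)) (.lf 2169)) (.nd (.lf 1341) (.lf 2949))))) (.nd (.nd (.nd (.nd (.nd (.lf 145) (.lf 3253)) (.lf 1636)) (.nd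 (.nd (.lf 900) (.lf 4045)) (.lf 2437))) (.nd (.nd (.nd (.lf 529) (.lf 3637)) (.lf 2065)) (.nd (.lf 1257) (.lf 2853)))) (.nd (.nd (.nd (.nd (.lf 361) (.lf 3412)) (.lf 1853)) (.nd (.lf 1076) (.lf 2633))) (.nd (.nd (.nd (.lf 720) (.lf 3844)) (.lf 2256)) (.nd (.lf 1441) (.lf 3057))))))) (.nd (.nd (.nd (.nd (.nd (.nd (.nd (.lf 29) (.lf 3140)) (.lf 1524)) (.nd (.nd (.lf 781) (.lf 3909)) (.lf 2320))) (.nd (.nd (.nd (.lf 425) (.lf 3505)) (.lf 1929)) (.nd (.lf 1149) (.lf 2708)))) (.nd (.nd (.nd (.nd (.lf 228) (.lf 3317)) (.lf 1733)) (.nd (.lf 964) (.lf 2513))) (.nd (.nd (.nd (.lf 613) (.lf 3700)) (.lf 2149)) (.nd (.lf 1321) (.lf 2913))))) (.nd (.nd (.nd (.nd (.nd (.lf 116) (.lf 3229)) (.lf 1613)) (.nd (.nd (.lf 885) (.lf 4017)) (.lf 2401))) (.nd (.nd (.nd (.lf 509) (.lf 3613))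 (.lf 2036)) (.nd (.lf 1237) (.lf 2832)))) (.nd (.nd (.nd (.nd (.lf 341) (.lf 3397)) (.lf 1833)) (.nd (.lf 1044) (.lf 2617))) (.nd (.nd (.nd (.lf 697) (.lf 3812)) (.lf 2233)) (.nd (.lf 1417) (.lf 3025)))))) (.nd (.nd (.nd (.nd (.nd (.nd (.lf 69) (.lf 3189)) (.lf 1577)) (.nd (.nd (.lf 836) (.lf 3956)) (.lf 2361))) (.nd (.nd (.nd (.lf 469) (.lf 3556)) (.lf 1989)) (.nd (.lf 1193) (.lf 2769)))) (.nd (.nd (.nd (.nd (.lf 276) (.lf 3357)) (.lf 1780)) (.nd (.lf 1013) (.lf 2576))) (.nd (.nd (.nd (.lf 656) (.lf 3761)) (.lf 2192)) (.nd (.lf 1357) (.lf 2964))))) (.nd (.nd (.nd (.nd (.nd (.lf 177) (.lf 3268)) (.lf 1673)) (.nd (.nd (.lf 925) (.lf 4068)) (.lf 2452))) (.nd (.nd (.nd (.lf 561) (.lf 3653)) (.lf 2097)) (.nd (.lf 1277) (.lf 2873)))) (.nd (.nd (.nd (.nd (.lf 381) (.lf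 3444)) (.lf 1869)) (.nd (.lf 1109) (.lf 2657))) (.nd (.nd (.nd (.lf 741) (.lf 3869)) (.lf 2277)) (.nd (.lf 1477) (.lf 3085)))))))) (.nd (.nd (.nd (.nd (.nd (.nd (.nd (.nd (.lf 21) (.lf 3124)) (.lf 1508)) (.nd (.nd (.lf 773) (.lf 3901)) (.lf 2305))) (.nd (.nd (.nd (.lf 413) (.lf 3489)) (.lf 1908)) (.nd (.lf 1141) (.lf 2701)))) (.nd (.nd (.nd (.nd (.lf 212) (.lf 3305)) (.lf 1713)) (.nd (.lf 957) (.lf 2505))) (.nd (.nd (.nd (.lf 601) (.lf 3684)) (.lf 2137)) (.nd (.lf 1309) (.lf 2897))))) (.nd (.nd (.nd (.nd (.nd (.lf 100) (.lf 3221)) (.lf 1605)) (.nd (.nd (.lf 873) (.lf 4001)) (.lf 2385))) (.nd (.nd (.nd (.lf 501) (.lf 3605)) (.lf 2020)) (.nd (.lf 1220) (.lf 2817)))) (.nd (.nd (.nd (.nd (.lf 324) (.lf 3389)) (.lf 1821)) (.nd (.lf 1037) (.lf 2605))) (.nd (.nd (.nd (.lf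 685) (.lf 3796)) (.lf 2221)) (.nd (.lf 1396) (.lf 3017)))))) (.nd (.nd (.nd (.nd (.nd (.nd (.lf 61) (.lf 3177)) (.lf 1565)) (.nd (.nd (.lf 820) (.lf 3940)) (.lf 2349))) (.nd (.nd (.nd (.lf 452) (.lf 3540)) (.lf 1969)) (.nd (.lf 1181) (.lf 2761)))) (.nd (.nd (.nd (.nd (.lf 269) (.lf 3349)) (.lf 1764)) (.nd (.lf 1001) (.lf 2561))) (.nd (.nd (.nd (.lf 641) (.lf 3745)) (.lf 2177)) (.nd (.lf 1349) (.lf 2957))))) (.nd (.nd (.nd (.nd (.nd (.lf 161) (.lf 3261)) (.lf 1652)) (.nd (.nd (.lf 917) (.lf 4052)) (.lf 2445))) (.nd (.nd (.nd (.lf 545) (.lf 3645)) (.lf 2081)) (.nd (.lf 1269) (.lf 2861)))) (.nd (.nd (.nd (.nd (.lf 373) (.lf 3428)) (.lf 1861)) (.nd (.lf 1092) (.lf 2641))) (.nd (.nd (.nd (.lf 729) (.lf 3861)) (.lf 2265)) (.nd (.lf 1457) (.lf 3077))))))) (.nd (.nd (.nd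 (.nd (.nd (.nd (.nd (.lf 41) (.lf 3157)) (.lf 1540)) (.nd (.nd (.lf 788) (.lf 3917)) (.lf 2329))) (.nd (.nd (.nd (.lf 437) (.lf 3525)) (.lf 1937)) (.nd (.lf 1156) (.lf 2724)))) (.nd (.nd (.nd (.nd (.lf 244) (.lf 3325)) (.lf 1741)) (.nd (.lf 981) (.lf 2529))) (.nd (.nd (.nd (.lf 621) (.lf 3721)) (.lf 2157)) (.nd (.lf 1333) (.lf 2929))))) (.nd (.nd (.nd (.nd (.nd (.lf 137) (.lf 3241)) (.lf 1620)) (.nd (.nd (.lf 893) (.lf 4037)) (.lf 2417))) (.nd (.nd (.nd (.lf 521) (.lf 3625)) (.lf 2057)) (.nd (.lf 1245) (.lf 2841)))) (.nd (.nd (.nd (.nd (.lf 349) (.lf 3405)) (.lf 1845)) (.nd (.lf 1060) (.lf 2624))) (.nd (.nd (.nd (.lf 705) (.lf 3828)) (.lf 2241)) (.nd (.lf 1425) (.lf 3041)))))) (.nd (.nd (.nd (.nd (.nd (.nd (.lf 77) (.lf 3197)) (.lf 1589)) (.nd (.nd (.lf 853) (.lf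 3977)) (.lf 2368))) (.nd (.nd (.nd (.lf 477) (.lf 3572)) (.lf 1997)) (.nd (.lf 1205) (.lf 2785)))) (.nd (.nd (.nd (.nd (.lf 292) (.lf 3369)) (.lf 1796)) (.nd (.lf 1021) (.lf 2585))) (.nd (.nd (.nd (.lf 665) (.lf 3781)) (.lf 2201)) (.nd (.lf 1364) (.lf 2980))))) (.nd (.nd (.nd (.nd (.nd (.lf 197) (.lf 3285)) (.lf 1681)) (.nd (.nd (.lf 937) (.lf 4084)) (.lf 2468))) (.nd (.nd (.nd (.lf 577) (.lf 3661)) (.lf 2113)) (.nd (.lf 1284) (.lf 2880)))) (.nd (.nd (.nd (.nd (.lf 388) (.lf 3465)) (.lf 1876)) (.nd (.lf 1117) (.lf 2673))) (.nd (.nd (.nd (.lf 749) (.lf 3881)) (.lf 2285)) (.nd (.lf 1485) (.lf 3092)))))))))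

/-- parents in a spanning tree -/
def parT : Trie :=
  .nd (.nd (.nd (.nd (.nd (.nd (.nd (.nd (.nd (.nd (.lf 0) (.lf 1)) (.lf 1)) (.nd (.nd (.lf 19) (.lf 12)) (.lf 19))) (.nd (.nd (.nd (.lf 0) (.lf 2)) (.lf 1)) (.nd (.lf 26) (.lf 0)))) (.nd (.nd (.nd (.nd (.lf 2) (.lf 17)) (.lf 0)) (.nd (.lf 19) (.lf 1))) (.nd (.nd (.nd (.lf 0) (.lf 1)) (.lf 0)) (.nd (.lf 0) (.lf 2))))) (.nd (.nd (.nd (.nd (.nd (.lf 1) (.lf 1)) (.lf 12)) (.nd (.nd (.lf 19) (.lf 2)) (.lf 2))) (.nd (.nd (.nd (.lf 17) (.lf 1)) (.lf 1)) (.nd (.lf 26) (.lf 0)))) (.nd (.nd (.nd (.nd (.lf 1) (.lf 12)) (.lf 0)) (.nd (.lf 0) (.lf 12))) (.nd (.nd (.nd (.lf 17) (.lf 2)) (.lf 17)) (.nd (.lf 1) (.lf 1)))))) (.nd (.nd (.nd (.nd (.nd (.nd (.lf 12) (.lf 19)) (.lf 0)) (.nd (.nd (.lf 1) (.lf 1)) (.lf 12))) (.nd (.nd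 (.nd (.lf 26) (.lf 2)) (.lf 0)) (.nd (.lf 0) (.lf 1)))) (.nd (.nd (.nd (.nd (.lf 0) (.lf 1)) (.lf 1)) (.nd (.lf 17) (.lf 0))) (.nd (.nd (.nd (.lf 28) (.lf 2)) (.lf 28)) (.nd (.lf 12) (.lf 0))))) (.nd (.nd (.nd (.nd (.nd (.lf 2) (.lf 19)) (.lf 1)) (.nd (.nd (.lf 1) (.lf 2)) (.lf 0))) (.nd (.nd (.nd (.lf 2) (.lf 12)) (.lf 2)) (.nd (.lf 17) (.lf 12)))) (.nd (.nd (.nd (.nd (.lf 26) (.lf 1)) (.lf 12)) (.nd (.lf 1) (.lf 2))) (.nd (.nd (.nd (.lf 0) (.lf 1)) (.lf 0)) (.nd (.lf 0) (.lf 0))))))) (.nd (.nd (.nd (.nd (.nd (.nd (.nd (.lf 12) (.lf 1)) (.lf 1)) (.nd (.nd (.lf 2) (.lf 0)) (.lf 0))) (.nd (.nd (.nd (.lf 21) (.lf 0)) (.lf 2)) (.nd (.lf 17) (.lf 1)))) (.nd (.nd (.nd (.nd (.lf 1) (.lf 28)) (.lf 0)) (.nd (.lf 1) (.lf 2))) (.nd (.nd (.nd (.lf 21) (.lf 1)) (.lf 21)) (.nd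 (.lf 12) (.lf 0))))) (.nd (.nd (.nd (.nd (.nd (.lf 1) (.lf 28)) (.lf 2)) (.nd (.nd (.lf 17) (.lf 0)) (.lf 0))) (.nd (.nd (.nd (.lf 21) (.lf 12)) (.lf 1)) (.nd (.lf 0) (.lf 0)))) (.nd (.nd (.nd (.nd (.lf 0) (.lf 0)) (.lf 12)) (.nd (.lf 1) (.lf 12))) (.nd (.nd (.nd (.lf 17) (.lf 1)) (.lf 17)) (.nd (.lf 2) (.lf 2)))))) (.nd (.nd (.nd (.nd (.nd (.nd (.lf 0) (.lf 17)) (.lf 12)) (.nd (.nd (.lf 1) (.lf 1)) (.lf 12))) (.nd (.nd (.nd (.lf 0) (.lf 1)) (.lf 0)) (.nd (.lf 21) (.lf 2)))) (.nd (.nd (.nd (.nd (.lf 1) (.lf 12)) (.lf 1)) (.nd (.lf 28) (.lf 0))) (.nd (.nd (.nd (.lf 0) (.lf 0)) (.lf 0)) (.nd (.lf 2) (.lf 1))))) (.nd (.nd (.nd (.nd (.nd (.lf 0) (.lf 1)) (.lf 2)) (.nd (.nd (.lf 28) (.lf 1)) (.lf 1))) (.nd (.nd (.nd (.lf 0) (.lf 0)) (.lf 0)) (.nd (.lf 21) (.lf 12)))) (.nd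 (.nd (.nd (.nd (.lf 17) (.lf 1)) (.lf 2)) (.nd (.lf 0) (.lf 0))) (.nd (.nd (.nd (.lf 26) (.lf 12)) (.lf 26)) (.nd (.lf 0) (.lf 2)))))))) (.nd (.nd (.nd (.nd (.nd (.nd (.nd (.nd (.lf 0) (.lf 1)) (.lf 1)) (.nd (.nd (.lf 30) (.lf 12)) (.lf 30))) (.nd (.nd (.nd (.lf 28) (.lf 0)) (.lf 1)) (.nd (.lf 17) (.lf 2)))) (.nd (.nd (.nd (.nd (.lf 1) (.lf 17)) (.lf 0)) (.nd (.lf 26) (.lf 2))) (.nd (.nd (.nd (.lf 30) (.lf 1)) (.lf 30)) (.nd (.lf 12) (.lf 2))))) (.nd (.nd (.nd (.nd (.nd (.lf 1) (.lf 0)) (.lf 0)) (.nd (.nd (.lf 26) (.lf 0)) (.lf 2))) (.nd (.nd (.nd (.lf 28) (.lf 0)) (.lf 1)) (.nd (.lf 1) (.lf 0)))) (.nd (.nd (.nd (.nd (.lf 1) (.lf 12)) (.lf 12)) (.nd (.lf 2) (.lf 12))) (.nd (.nd (.nd (.lf 30) (.lf 1)) (.lf 30)) (.nd (.lf 1) (.lf 2)))))) (.nd (.nd (.nd (.nd (.nd (.nd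 (.lf 12) (.lf 26)) (.lf 12)) (.nd (.nd (.lf 1) (.lf 1)) (.lf 12))) (.nd (.nd (.nd (.lf 1) (.lf 1)) (.lf 0)) (.nd (.lf 28) (.lf 2)))) (.nd (.nd (.nd (.nd (.lf 2) (.lf 0)) (.lf 1)) (.nd (.lf 17) (.lf 0))) (.nd (.nd (.nd (.lf 19) (.lf 0)) (.lf 19)) (.nd (.lf 0) (.lf 2))))) (.nd (.nd (.nd (.nd (.nd (.lf 0) (.lf 26)) (.lf 1)) (.nd (.nd (.lf 0) (.lf 1)) (.lf 2))) (.nd (.nd (.nd (.lf 0) (.lf 12)) (.lf 0)) (.nd (.lf 28) (.lf 12)))) (.nd (.nd (.nd (.nd (.lf 17) (.lf 1)) (.lf 0)) (.nd (.lf 1) (.lf 2))) (.nd (.nd (.nd (.lf 21) (.lf 0)) (.lf 21)) (.nd (.lf 0) (.lf 0))))))) (.nd (.nd (.nd (.nd (.nd (.nd (.nd (.lf 12) (.lf 0)) (.lf 1)) (.nd (.nd (.lf 1) (.lf 2)) (.lf 12))) (.nd (.nd (.nd (.lf 19) (.lf 0)) (.lf 2)) (.nd (.lf 1) (.lf 1)))) (.nd (.nd (.nd (.nd (.lf 1) (.lf 21)) (.lf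 2)) (.nd (.lf 0) (.lf 0))) (.nd (.nd (.nd (.lf 21) (.lf 2)) (.lf 21)) (.nd (.lf 12) (.lf 0))))) (.nd (.nd (.nd (.nd (.nd (.lf 2) (.lf 21)) (.lf 1)) (.nd (.nd (.lf 17) (.lf 0)) (.lf 0))) (.nd (.nd (.nd (.lf 2) (.lf 12)) (.lf 2)) (.nd (.lf 17) (.lf 12)))) (.nd (.nd (.nd (.nd (.lf 19) (.lf 2)) (.lf 12)) (.nd (.lf 1) (.lf 12))) (.nd (.nd (.nd (.lf 21) (.lf 1)) (.lf 21)) (.nd (.lf 2) (.lf 0)))))) (.nd (.nd (.nd (.nd (.nd (.nd (.lf 2) (.lf 17)) (.lf 12)) (.nd (.nd (.lf 0) (.lf 2)) (.lf 12))) (.nd (.nd (.nd (.lf 17) (.lf 1)) (.lf 2)) (.nd (.lf 19) (.lf 0)))) (.nd (.nd (.nd (.nd (.lf 1) (.lf 12)) (.lf 1)) (.nd (.lf 21) (.lf 12))) (.nd (.nd (.nd (.lf 19) (.lf 0)) (.lf 19)) (.nd (.lf 1) (.lf 1))))) (.nd (.nd (.nd (.nd (.nd (.lf 0) (.lf 0)) (.lf 2)) (.nd (.nd (.lf 21) (.lf 1))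 (.lf 1))) (.nd (.nd (.nd (.lf 0) (.lf 2)) (.lf 0)) (.nd (.lf 1) (.lf 12)))) (.nd (.nd (.nd (.nd (.lf 1) (.lf 2)) (.lf 1)) (.nd (.lf 19) (.lf 0))) (.nd (.nd (.nd (.lf 19) (.lf 12)) (.lf 19)) (.nd (.lf 2) (.lf 1))))))))) (.nd (.nd (.nd (.nd (.nd (.nd (.nd (.nd (.nd (.lf 0) (.lf 0)) (.lf 0)) (.nd (.nd (.lf 21) (.lf 12)) (.lf 21))) (.nd (.nd (.nd (.lf 19) (.lf 1)) (.lf 0)) (.nd (.lf 21) (.lf 2)))) (.nd (.nd (.nd (.nd (.lf 2) (.lf 26)) (.lf 1)) (.nd (.lf 17) (.lf 0))) (.nd (.nd (.nd (.lf 0) (.lf 0)) (.lf 0)) (.nd (.lf 12) (.lf 2))))) (.nd (.nd (.nd (.nd (.nd (.lf 0) (.lf 0)) (.lf 12)) (.nd (.nd (.lf 21) (.lf 1)) (.lf 2))) (.nd (.nd (.nd (.lf 19) (.lf 0)) (.lf 0)) (.nd (.lf 21) (.lf 1)))) (.nd (.nd (.nd (.nd (.lf 0) (.lf 12)) (.lf 12)) (.nd (.lf 2) (.lf 12))) (.nd (.nd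 (.nd (.lf 21) (.lf 2)) (.lf 21)) (.nd (.lf 0) (.lf 0)))))) (.nd (.nd (.nd (.nd (.nd (.nd (.lf 12) (.lf 21)) (.lf 12)) (.nd (.nd (.lf 0) (.lf 0)) (.lf 12))) (.nd (.nd (.nd (.lf 21) (.lf 2)) (.lf 1)) (.nd (.lf 19) (.lf 0)))) (.nd (.nd (.nd (.nd (.lf 2) (.lf 0)) (.lf 0)) (.nd (.lf 26) (.lf 1))) (.nd (.nd (.nd (.lf 17) (.lf 1)) (.lf 17)) (.nd (.lf 12) (.lf 2))))) (.nd (.nd (.nd (.nd (.nd (.lf 1) (.lf 17)) (.lf 0)) (.nd (.nd (.lf 0) (.lf 2)) (.lf 2))) (.nd (.nd (.nd (.lf 1) (.lf 12)) (.lf 1)) (.nd (.lf 19) (.lf 12)))) (.nd (.nd (.nd (.nd (.lf 21) (.lf 0)) (.lf 12)) (.nd (.lf 0) (.lf 2))) (.nd (.nd (.nd (.lf 0) (.lf 0)) (.lf 0)) (.nd (.lf 1) (.lf 1))))))) (.nd (.nd (.nd (.nd (.nd (.nd (.nd (.lf 12) (.lf 0)) (.lf 0)) (.nd (.nd (.lf 2) (.lf 2)) (.lf 0))) (.nd (.nd (.nd (.lf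 30) (.lf 1)) (.lf 2)) (.nd (.lf 19) (.lf 0)))) (.nd (.nd (.nd (.nd (.lf 0) (.lf 19)) (.lf 2)) (.nd (.lf 0) (.lf 1))) (.nd (.nd (.nd (.lf 26) (.lf 0)) (.lf 26)) (.nd (.lf 12) (.lf 1))))) (.nd (.nd (.nd (.nd (.nd (.lf 0) (.lf 17)) (.lf 2)) (.nd (.nd (.lf 28) (.lf 1)) (.lf 1))) (.nd (.nd (.nd (.lf 30) (.lf 12)) (.lf 0)) (.nd (.lf 21) (.lf 0)))) (.nd (.nd (.nd (.nd (.lf 30) (.lf 2)) (.lf 12)) (.nd (.lf 0) (.lf 12))) (.nd (.nd (.nd (.lf 26) (.lf 0)) (.lf 26)) (.nd (.lf 2) (.lf 1)))))) (.nd (.nd (.nd (.nd (.nd (.nd (.lf 2) (.lf 28)) (.lf 12)) (.nd (.nd (.lf 0) (.lf 0)) (.lf 12))) (.nd (.nd (.nd (.lf 21) (.lf 0)) (.lf 2)) (.nd (.lf 30) (.lf 1)))) (.nd (.nd (.nd (.nd (.lf 0) (.lf 12)) (.lf 0)) (.nd (.lf 19) (.lf 0))) (.nd (.nd (.nd (.lf 0) (.lf 1)) (.lf 0)) (.nd (.lf 2) (.lf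 0))))) (.nd (.nd (.nd (.nd (.nd (.lf 1) (.lf 0)) (.lf 2)) (.nd (.nd (.lf 17) (.lf 0)) (.lf 0))) (.nd (.nd (.nd (.lf 1) (.lf 2)) (.lf 1)) (.nd (.lf 30) (.lf 12)))) (.nd (.nd (.nd (.nd (.lf 19) (.lf 0)) (.lf 2)) (.nd (.lf 30) (.lf 1))) (.nd (.nd (.nd (.lf 17) (.lf 12)) (.lf 17)) (.nd (.lf 2) (.lf 2)))))))) (.nd (.nd (.nd (.nd (.nd (.nd (.nd (.nd (.lf 12) (.lf 0)) (.lf 0)) (.nd (.nd (.lf 2) (.lf 12)) (.lf 1))) (.nd (.nd (.nd (.lf 17) (.lf 1)) (.lf 0)) (.nd (.lf 28) (.lf 2)))) (.nd (.nd (.nd (.nd (.lf 0) (.lf 19)) (.lf 1)) (.nd (.lf 21) (.lf 2))) (.nd (.nd (.nd (.lf 19) (.lf 0)) (.lf 19)) (.nd (.lf 12) (.lf 1))))) (.nd (.nd (.nd (.nd (.nd (.lf 0) (.lf 19)) (.lf 2)) (.nd (.nd (.lf 21) (.lf 1)) (.lf 1))) (.nd (.nd (.nd (.lf 19) (.lf 12)) (.lf 0)) (.nd (.lf 0) (.lf 1))))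 (.nd (.nd (.nd (.nd (.lf 0) (.lf 12)) (.lf 12)) (.nd (.lf 2) (.lf 12))) (.nd (.nd (.nd (.lf 19) (.lf 0)) (.lf 19)) (.nd (.lf 0) (.lf 2)))))) (.nd (.nd (.nd (.nd (.nd (.nd (.lf 12) (.lf 21)) (.lf 12)) (.nd (.nd (.lf 0) (.lf 0)) (.lf 12))) (.nd (.nd (.nd (.lf 0) (.lf 0)) (.lf 1)) (.nd (.lf 17) (.lf 2)))) (.nd (.nd (.nd (.nd (.lf 2) (.lf 12)) (.lf 0)) (.nd (.lf 19) (.lf 1))) (.nd (.nd (.nd (.lf 1) (.lf 1)) (.lf 1)) (.nd (.lf 2) (.lf 2))))) (.nd (.nd (.nd (.nd (.nd (.lf 1) (.lf 21)) (.lf 0)) (.nd (.nd (.lf 19) (.lf 0)) (.lf 2))) (.nd (.nd (.nd (.lf 1) (.lf 12)) (.lf 1)) (.nd (.lf 19) (.lf 12)))) (.nd (.nd (.nd (.nd (.lf 28) (.lf 0)) (.lf 2)) (.nd (.lf 0) (.lf 1))) (.nd (.nd (.nd (.lf 17) (.lf 12)) (.lf 17)) (.nd (.lf 1) (.lf 2))))))) (.nd (.nd (.nd (.nd (.nd (.nd (.nd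 (.lf 12) (.lf 30)) (.lf 0)) (.nd (.nd (.lf 0) (.lf 2)) (.lf 12))) (.nd (.nd (.nd (.lf 17) (.lf 2)) (.lf 1)) (.nd (.lf 0) (.lf 0)))) (.nd (.nd (.nd (.nd (.lf 0) (.lf 30)) (.lf 2)) (.nd (.lf 21) (.lf 1))) (.nd (.nd (.nd (.lf 17) (.lf 2)) (.lf 17)) (.nd (.lf 12) (.lf 1))))) (.nd (.nd (.nd (.nd (.nd (.lf 2) (.lf 30)) (.lf 0)) (.nd (.nd (.lf 19) (.lf 2)) (.lf 1))) (.nd (.nd (.nd (.lf 2) (.lf 12)) (.lf 2)) (.nd (.lf 26) (.lf 12)))) (.nd (.nd (.nd (.nd (.lf 21) (.lf 2)) (.lf 12)) (.nd (.lf 0) (.lf 0))) (.nd (.nd (.nd (.lf 1) (.lf 0)) (.lf 1)) (.nd (.lf 1) (.lf 1)))))) (.nd (.nd (.nd (.nd (.nd (.nd (.lf 2) (.lf 19)) (.lf 12)) (.nd (.nd (.lf 30) (.lf 2)) (.lf 0))) (.nd (.nd (.nd (.lf 26) (.lf 0)) (.lf 2)) (.nd (.lf 17) (.lf 1)))) (.nd (.nd (.nd (.nd (.lf 0) (.lf 12)) (.lf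 0)) (.nd (.lf 30) (.lf 12))) (.nd (.nd (.nd (.lf 28) (.lf 2)) (.lf 28)) (.nd (.lf 0) (.lf 0))))) (.nd (.nd (.nd (.nd (.nd (.lf 2) (.lf 21)) (.lf 1)) (.nd (.nd (.lf 30) (.lf 0)) (.lf 0))) (.nd (.nd (.nd (.lf 1) (.lf 2)) (.lf 1)) (.nd (.lf 0) (.lf 0)))) (.nd (.nd (.nd (.nd (.lf 0) (.lf 2)) (.lf 0)) (.nd (.lf 21) (.lf 1))) (.nd (.nd (.nd (.lf 28) (.lf 12)) (.lf 28)) (.nd (.lf 2) (.lf 0)))))))))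

end CfsgLib.KnownB.U62Mult
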