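import Cfsg.Agent.Lib.KnownB.U62Mult.Basics
import Cfsg.Agent.Lib.KnownB.U62Mult.GraphPts
import Cfsg.Agent.Lib.KnownB.U62Mult.GraphRows
import Cfsg.Agent.Lib.KnownB.U62Mult.GraphSigns
import Cfsg.Agent.Lib.KnownB.U62Mult.GenData

/-!
Computable checks for the four-fold cover of the orthogonality graph of the non-singular points.
-/

set_option autoImplicit false

noncomputable section

namespace CfsgLib.KnownB.U62Mult

/-- a point -/
def nv (i : ℕ) : ℕ := nvT.get i

/-- the representative with first nonzero coordinate one -/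
def canonC (z : ℕ) : ℕ :=
  let w := z % 4096
  let c := if dig w 0 != 0 then dig w 0 else if dig w 1 != 0 then dig w 1 else if dig w 2 != 0 then dig w 2
    else if dig w 3 != 0 then dig w 3 else if dig w 4 != 0 then dig w 4 else dig w 5
  smulC (qc c) w

/-- a later neighbour -/
def upA (i j : ℕ) : Bool := (mkT.get i).testBit j

/-- neighbours -/
def adjA (i j : ℕ) : Bool := upA i j || upA j i

/-- two bits from two numbers -/
def twoBits (u v j : ℕ) : ℕ := cond (u.testBit j) 1 0 + cond (v.testBit j) 2 0

/-- the sign of an edge to a later neighbour -/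
def upS (i j : ℕ) : ℕ := twoBits (s1T.get i) (s2T.get i) j

/-- the sign of an edge -/
def edgeS (i j : ℕ) : ℕ := cond (upA i j) (upS i j) (upS j i)

/-- unpack -/
def unpackN (k : ℕ) : ℕ → List ℕ :=
  Nat.rec (motive := fun _ => ℕ → List ℕ) (fun _ => [])
    (fun _ rest x => cond (Nat.beq (x % 1024) 0) []
      (forceN (x % 1024 - 1) fun a => a :: forceN (x / 1024) rest)) k

/-- later neighbours as a list -/
def upList (i : ℕ) : List ℕ := unpackN 200 (nbT.get i)

/-- bits of a list -/
def bitsOf : List ℕ → ℕ
  | [] => 0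
  | a :: r => (1 <<< a) ||| bitsOf r

/-- the list and the bits agree -/
def rowOK (i : ℕ) : Bool :=
  Nat.beq (bitsOf (upList i)) (mkT.get i) && (upList i).all fun j => Nat.blt i j && Nat.blt j 672

/-- the signed edge from `a` to `b`, the row of `a` given, has the sign `t` -/
def edgeOK (ma ua va a b t : ℕ) : Bool :=
  cond (ma.testBit b) (Nat.beq (twoBits ua va b) t) ((mkT.get b).testBit a && Nat.beq (upS b a) t)

/-- a generator preserves the signed edges -/
def keepOK (pi ep : Trie) (i : ℕ) : Bool :=
  forceN (pi.get i) fun a => forceN (ep.get i) fun f => forceN (mkT.get a) fun ma =>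
    forceN (s1T.get a) fun ua => forceN (s2T.get a) fun va => forceN (s1T.get i) fun ui =>
      forceN (s2T.get i) fun vi => (upList i).all fun j =>
        forceN (pi.get j) fun b => edgeOK ma ua va a b (twoBits ui vi j ^^^ (f ^^^ ep.get j))

/-- a generator moves the points -/
def actOK (w : List ℕ) (pi ep : Trie) (i : ℕ) : Bool :=
  Nat.blt (pi.get i) 672 && Nat.blt (ep.get i) 4 && moves w (nv i) (nv (pi.get i))

/-- the point is normalised -/
def ptOK (i : ℕ) : Bool :=
  Nat.blt (nv i) 4096 && Nat.beq (canonC (smulC 1 (nv i))) (nv i) &&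
    Nat.beq (canonC (smulC 2 (nv i))) (nv i) && Nat.beq (canonC (smulC 3 (nv i))) (nv i) &&
    (Nat.beq (i + 1) 672 || Nat.blt (nv i) (nv (i + 1)))

/-- the point is joined to the first one -/
def joinOK (i : ℕ) : Bool :=
  Nat.beq i 0 || adjA 0 i || (Nat.blt (parT.get i) 672 && adjA 0 (parT.get i) && adjA (parT.get i) i)

/-- letters: the first generator, the second, and its inverse -/
def letterPi : ℕ → Trie
  | 0 => piT0
  | 1 => piT1
  | _ => piT2

/-- shifts of the letters -/
def letterEp : ℕ → Trie
  | 0 => epT0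
  | 1 => epT1
  | _ => epT2

/-- a point of the cover under a word -/
def evalW : List ℕ → ℕ × ℕ → ℕ × ℕ
  | [], p => p
  | k :: r, p =>
    ((letterPi k).get (evalW r p).1, (letterEp k).get (evalW r p).1 ^^^ (evalW r p).2)

/-- a point of the cover under the letters applied in the order listed -/
def runW : List ℕ → ℕ → ℕ → ℕ × ℕ
  | [], i, b => (i, b)
  | k :: r, i, b => forceN ((letterPi k).get i) fun j => forceN ((letterEp k).get i ^^^ b) fun c => runW r j c

/-- a word acts as a flip at a point -/
def flipOK (w : List ℕ) (d i : ℕ) : Bool :=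
  Nat.beq (runW w.reverse i 0).1 i && Nat.beq (runW w.reverse i 0).2 d

/-- the sums of the exponents -/
def sumsOK (w : List ℕ) : Bool :=
  Nat.beq (w.count 0 % 2) 0 && Nat.beq ((w.count 1 + (gOrd - 1) * w.count 2) % gOrd) 0 &&
    w.all fun k => Nat.blt k 3

/-- all multiples of a code -/
def multBits (x : ℕ) : ℕ :=
  (1 <<< (smulC 1 x % 4096)) ||| ((1 <<< (smulC 2 x % 4096)) ||| (1 <<< (smulC 3 x % 4096)))

/-- the orbit tree -/
def orbitOK : ℕ → List (ℕ × ℕ × ℕ) → Bool
  | acc, [] => (List.range 4096).all fun x => !Nat.beq (hm x x) 0 || Nat.beq x 0 || acc.testBit x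
  | acc, (y, x, k) :: r =>
    acc.testBit x && Nat.blt k 2 && moves (if k = 0 then [5] else gWord) x y && Nat.beq (hm y y) 0 &&
      Nat.beq (hm x x) 0 && orbitOK (acc ||| multBits y) r

end CfsgLib.KnownB.U62Mult
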