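import Cfsg.Agent.Lib.KnownB.U62Mult.Cover

/-!
The flips lie in the derived group of the cover.
-/

set_option autoImplicit false
set_option maxRecDepth 100000

noncomputable section

namespace CfsgLib.KnownB.U62Mult

open Matrix CfsgLib.Classical CfsgLib.Classical.Unitary CfsgLib.Spor
open scoped commutatorElement

universe u

variable {F : Type u} [Field F] (e : QField →+* F) {σ : F →+* F} [Finite F] (hF : Nat.card F = 2 ^ 2)
  (h : UFrob σ 2)

/-- the letters in the cover -/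
def letEl {G : Type*} [Group G] (a b : G) (k : ℕ) : G := if k = 0 then a else if k = 1 then b else b⁻¹

theorem runW_spec {a b : CovGrp e} (hab : ∀ k < 3, ∀ p : Pt,
      (((letEl a b k).1.2 p).1 : ℕ) = (letterPi k).get p.1 ∧
      (((letEl a b k).1.2 p).2 : ℕ) = (letterEp k).get p.1 ^^^ p.2.val) :
    ∀ w : List ℕ, (∀ k ∈ w, k < 3) → ∀ p : Pt,
      runW w p.1 p.2 = ((((w.reverse.map (letEl a b)).prod).1.2 p).1.val, (((w.reverse.map (letEl a b)).prod).1.2 p).2.val)
  | [], _, p => by simp [runW]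
  | k :: r, hk, p => by
    obtain ⟨h1, h2⟩ := hab k (hk k List.mem_cons_self) p
    have ih := runW_spec hab r (fun j hj => hk j (List.mem_cons_of_mem _ hj)) ((letEl a b k).1.2 p)
    rw [runW, forceN_eq, forceN_eq, ← h1, ← h2, ih, List.reverse_cons, List.map_append, List.prod_append]
    simp

theorem mul_letters {a b : CovGrp e} {A : Type*} [CommGroup A] (φ : CovGrp e →* A) :
    ∀ w : List ℕ, (∀ k ∈ w, k < 3) → φ (w.map (letEl a b)).prod =
      φ a ^ (w.count 0) * φ b ^ (w.count 1) * (φ b)⁻¹ ^ (w.count 2)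
  | [], _ => by simp
  | k :: r, hk => by
    have hk3 := hk k List.mem_cons_self
    rw [List.map_cons, List.prod_cons, map_mul, mul_letters φ r fun j hj => hk j (List.mem_cons_of_mem _ hj)]
    interval_cases k
    · simp [letEl, pow_succ]; ac_rfl
    · simp [letEl, pow_succ]; ac_rfl
    · simp [letEl, pow_succ]; ac_rfl

include hF h in
theorem flip_mem_commutator {w : List ℕ} {d : ℕ} (hs : sumsOK w = true) (hd : d < 4)
    (hflip : ∀ i < 672, flipOK w d i = true) :
    covFlip e ⟨d, hd⟩ ∈ commutator (CovGrp e) := by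
  obtain ⟨a, b, -, -, ha2, hab⟩ := exists_gens e hF h
  have hab' : ∀ k < 3, ∀ p : Pt, (((letEl a b k).1.2 p).1 : ℕ) = (letterPi k).get p.1 ∧
      (((letEl a b k).1.2 p).2 : ℕ) = (letterEp k).get p.1 ^^^ p.2.val := hab
  simp only [sumsOK, Bool.and_eq_true, Nat.beq_eq, List.all_eq_true] at hs
  obtain ⟨⟨h0, h12⟩, hk⟩ := hs
  have hk3 : ∀ k ∈ w, k < 3 := fun k hkw => Nat.le_of_ble_eq_true (hk k hkw)
  -- what a word does on the points
  have hact : ∀ (v : List ℕ) (t : ℕ) (ht : t < 4), (∀ k ∈ v, k < 3) → (∀ i < 672, flipOK v t i = true) →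
      (((v.map (letEl a b)).prod) ^ 3 : CovGrp e) = covFlip e ⟨t, ht⟩ := by
    intro v t ht hv hfl
    obtain ⟨x, hx⟩ : ∃ x, x = (v.map (letEl a b)).prod := ⟨_, rfl⟩
    rw [← hx]
    have hperm : ∀ p : Pt, x.1.2 p = flipP ⟨t, ht⟩ p := by
      intro p
      have h1 := hfl p.1 p.1.2
      simp only [flipOK, Bool.and_eq_true, Nat.beq_eq] at h1
      have h2 := runW_spec e hab' v.reverse (fun k hk => hv k (List.mem_reverse.1 hk)) (p.1, ⟨0, by omega⟩)
      rw [List.reverse_reverse, ← hx] at h2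
      rw [h2] at h1
      have e0 : x.1.2 (p.1, ⟨0, by omega⟩) = (p.1, ⟨t, ht⟩) := Prod.ext (Fin.ext h1.1) (Fin.ext h1.2)
      have h3 := x.2.2.1 p.2 (p.1, ⟨0, by omega⟩)
      have hp : flipP p.2 (p.1, ⟨0, by omega⟩) = p := Prod.ext rfl (by
        show xb _ p.2 = p.2
        rw [(xb_facts _ p.2 p.2).2.2.1, (xb_facts p.2 p.2 p.2).2.2.2.1])
      rw [hp, e0] at h3
      rw [h3]
      exact Prod.ext rfl (xb_facts ⟨t, ht⟩ p.2 p.2).2.2.1
    refine Subtype.ext (Prod.ext ?_ (Equiv.ext fun p => ?_))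
    · show (x.1.1) ^ 3 = 1
      refine Subtype.ext (Subtype.ext (vec_bas_ext e fun c hc => ?_))
      obtain ⟨i, hi, he⟩ := List.any_eq_true.1 (List.all_eq_true.1 sums_ok.2.2 c hc)
      rw [Nat.beq_eq] at he
      subst he
      obtain ⟨s, hs0, es⟩ := x.2.1 (⟨i, List.mem_range.1 hi⟩, ⟨0, by omega⟩)
      rw [hperm] at es
      change x.1.1.1.1 *ᵥ vec e (nv i) = s • vec e (nv i) at es
      show (x.1.1 ^ 3).1.1 *ᵥ _ = (1 : Cfsg.SU 6 F 2).1.1 *ᵥ _
      rw [pow_succ, pow_succ, pow_one, su_mul_mulVec, su_mul_mulVec, es, mulVec_smul, es, mulVec_smul,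
        mulVec_smul, es, su_one_mulVec, smul_smul, smul_smul]
      have := Fintype.ofFinite F
      have h3 := FiniteField.pow_card_sub_one_eq_one s hs0
      rw [← Nat.card_eq_fintype_card, hF] at h3
      rw [show s * s * s = s ^ (2 ^ 2 - 1) by norm_num; ring, h3, one_smul]
    · show (x.1.2 ^ 3) p = flipP ⟨t, ht⟩ p
      rw [pow_succ, pow_succ, pow_one, Equiv.Perm.mul_apply, Equiv.Perm.mul_apply, hperm, hperm, hperm,
        flipP_flipP]
  -- the exponent sums
  have hpos : 0 < gOrd := by decide +kernel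
  have hn := hact (List.replicate gOrd 1) 0 (by omega) (fun k hk => by rw [List.eq_of_mem_replicate hk]; norm_num)
    fun i hi => by
      have := List.all_eq_true.1 flip_ok i (List.mem_range.2 hi)
      simp only [Bool.and_eq_true] at this
      exact this.2
  rw [covFlip_zero, List.map_replicate, List.prod_replicate, show letEl a b 1 = b from rfl] at hn
  rw [← hact w d hd hk3 hflip, ← Abelianization.ker_of, MonoidHom.mem_ker, map_pow,
    mul_letters e Abelianization.of w hk3]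
  obtain ⟨A, hA⟩ : ∃ A, A = Abelianization.of a := ⟨_, rfl⟩
  obtain ⟨B, hB⟩ : ∃ B, B = Abelianization.of b := ⟨_, rfl⟩
  have hA2 : A ^ 2 = 1 := by rw [hA, pow_two, ← map_mul, ha2, map_one]
  have hB3 : B ^ (gOrd * 3) = 1 := by rw [hB, pow_mul, ← map_pow, ← map_pow, hn, map_one]
  rw [← hA, ← hB]
  obtain ⟨j, hj⟩ := Nat.dvd_of_mod_eq_zero h0
  obtain ⟨m, hm'⟩ := Nat.dvd_of_mod_eq_zero h12
  rw [hj, pow_mul, hA2, one_pow, one_mul]
  have hinv : B⁻¹ ^ 3 = (B ^ 3) ^ (gOrd - 1) := by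
    rw [inv_pow, inv_eq_iff_mul_eq_one, ← pow_succ', Nat.sub_add_cancel hpos, ← pow_mul, mul_comm 3]
    exact hB3
  rw [mul_pow, ← pow_mul, ← pow_mul, mul_comm (w.count 2) 3, pow_mul, pow_mul B⁻¹, hinv, ← pow_mul,
    mul_comm (w.count 1) 3, pow_mul, ← pow_mul (B ^ 3), ← pow_add, hm', ← pow_mul, ← mul_assoc,
    mul_comm 3 gOrd, pow_mul, hB3, one_pow]

include hF h in
/-- The kernel of the projection lies in the derived group. -/
theorem ker_le_commutator : (covProj e).ker ≤ commutator (CovGrp e) := by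
  have hf := fun i (hi : i < 672) => List.all_eq_true.1 flip_ok i (List.mem_range.2 hi)
  simp only [Bool.and_eq_true] at hf
  have h1 : flip1 < 4 ∧ flip2 < 4 := by decide +kernel
  have m1 := flip_mem_commutator e hF h sums_ok.1 h1.1 fun i hi => (hf i hi).1.1
  have m2 := flip_mem_commutator e hF h sums_ok.2.1 h1.2 fun i hi => (hf i hi).1.2
  intro x hx
  obtain ⟨d, rfl⟩ := (ker_covProj e hF).1 hx
  have key : ∀ d : Fin 4, d.val = 0 ∨ d.val = flip1 ∨ d.val = flip2 ∨ d.val = flip2 ^^^ flip1 := by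
    decide +kernel
  rcases key d with he | he | he | he
  · rw [show d = ⟨0, by omega⟩ from Fin.ext he, covFlip_zero]; exact one_mem _
  · rw [show d = ⟨flip1, h1.1⟩ from Fin.ext he]; exact m1
  · rw [show d = ⟨flip2, h1.2⟩ from Fin.ext he]; exact m2
  · rw [show d = xb ⟨flip2, h1.2⟩ ⟨flip1, h1.1⟩ from Fin.ext (he.trans (xb_facts ⟨flip2, h1.2⟩ ⟨flip1, h1.1⟩ d).1.symm), ← covFlip_mul]
    exact mul_mem m1 m2

end CfsgLib.KnownB.U62Mult
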