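import Cfsg.Agent.Lib.KnownB.U62Mult.TwoLifts

/-!
In a central extension of `SU₆(2)` with kernel a two-group at most four elements of the kernel lie in
the derived group.
-/

set_option autoImplicit false
set_option maxRecDepth 20000

namespace CfsgLib.KnownB.U62Mult

open Matrix CfsgLib.Classical CfsgLib.Classical.Unitary CfsgLib.Spor CfsgLib.MultSU
open scoped commutatorElement

universe u

/-- one closure step -/
def stepOK (known : List ℕ) (q : List ℕ × List ℕ) : Bool :=
  isoW q.2 && Nat.beq q.1.length 5 && ((q.1.all fun p => plane0.any (Nat.beq p)) &&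
    ((q.1.take 4).all fun p => known.any (Nat.beq p)) &&
    (List.range 5).all fun i => moves q.2 (line0.getD i 0) (q.1.getD i 0))

/-- the closure steps -/
def stepsOK : List ℕ → List (List ℕ × List ℕ) → Bool
  | known, [] => plane0.all fun p => known.any (Nat.beq p)
  | known, q :: r => stepOK known q && stepsOK (q.1.getD 4 0 :: known) r

/-- a word carries one list to another pointwise -/
def carriesTo (w l l' : List ℕ) : Bool :=
  Nat.beq l.length l'.length && (List.range l.length).all fun i => moves w (l.getD i 0) (l'.getD i 0)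

theorem steps_ok : stepsOK spanPts lineSteps = true ∧ (spanPts.all fun p => plane0.any (Nat.beq p)) = true ∧
    spanPts.length = 11 ∧ basPts.length = 9 := by
  refine ⟨?_, ?_, ?_, ?_⟩ <;> decide +kernel

theorem toPlane_ok : isoW toPlane1 = true ∧ carriesTo toPlane1 plane0 plane1 = true ∧
    isoW toPlane2 = true ∧ carriesTo toPlane2 plane0 plane2 = true := by
  refine ⟨?_, ?_, ?_, ?_⟩ <;> decide +kernel

theorem root_split : ((List.range 64).all fun j =>
    !Nat.beq (yKey (rootSel (rootWords.take 4) (j % 16) ++ rootSel (rootWords.drop 4) (j / 16))) (yKey []) ||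
      Nat.beq j 0) = true ∧ rootWords.length = 6 := by
  refine ⟨?_, ?_⟩ <;> decide +kernel

variable {F : Type u} [Field F] (e : QField →+* F) {σ : F →+* F} [Finite F] (hF : Nat.card F = 2 ^ 2)
  (h : UFrob σ 2)
variable {Γ : Type u} [Group Γ] [Finite Γ] {π : Γ →* Cfsg.SU 6 F 2} (hπ : IsCE π)
  {L : Cfsg.SU 6 F 2 → Γ} (hL : Lifts e hF h (π := π) L)

/-- the lift of a point -/
noncomputable def lp (L : Cfsg.SU 6 F 2 → Γ) (p : ℕ) : Γ := L (tv e hF h p)

/-- the lift of a word -/
noncomputable def lw (L : Cfsg.SU 6 F 2 → Γ) (w : List ℕ) : Γ := (w.map (lp e hF h L)).prod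

/-- the lift of a plane -/
def liftGrp (L : Cfsg.SU 6 F 2 → Γ) (l : List ℕ) : Subgroup Γ := Subgroup.closure {a | a ∈ l.map (lp e hF h L)}

theorem lw_mem {l w : List ℕ} (hw : ∀ p ∈ w, p ∈ l) : lw e hF h L w ∈ liftGrp e hF h L l :=
  list_prod_mem fun x hx => by
    obtain ⟨p, hp, rfl⟩ := List.mem_map.1 hx
    exact Subgroup.subset_closure (List.mem_map_of_mem (hw p hp))

include hL in
theorem map_lw {w : List ℕ} (hw : ∀ p ∈ w, IsTv e hF h (tv e hF h p)) :
    π (lw e hF h L w) = gW e hF h w := by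
  rw [lw, map_list_prod, List.map_map]
  exact congrArg List.prod (List.map_congr_left fun p hp => hL.map _ (hw p hp))

include hπ hL in
/-- An element carrying a plane onto another carries the lifts along. -/
theorem plane_image {w l l' : List ℕ} (hw : isoW w = true) (hl : isoSpan l = true) (hl' : isoSpan l' = true)
    (hT : ∀ p ∈ l, IsTv e hF h (tv e hF h p)) (hc : carriesTo w l l' = true) :
    (∀ p ∈ l', IsTv e hF h (tv e hF h p)) ∧
      ∃ K : Γ, π K = gW e hF h w ∧
        (liftGrp e hF h L l).map (MulAut.conj K).toMonoidHom = liftGrp e hF h L l' := by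
  simp only [carriesTo, Bool.and_eq_true, Nat.beq_eq, List.all_eq_true, List.mem_range] at hc
  obtain ⟨hlen, hmv⟩ := hc
  obtain ⟨K, hK⟩ := hπ.surj (gW e hF h w)
  have key : ∀ i (hi : i < l.length),
      gW e hF h w * tv e hF h l[i] * (gW e hF h w)⁻¹ = tv e hF h (l'[i]'(hlen ▸ hi)) := by
    intro i hi
    have h1 := hmv i hi
    rw [List.getD_eq_getElem _ _ hi, List.getD_eq_getElem _ _ (hlen ▸ hi)] at h1
    obtain ⟨c, hc0, e1⟩ := moves_spec e hF h hw h1
    exact conj_tv e hF h (isoSpan_spec hl (List.getElem_mem hi)).1 (isoSpan_spec hl' (List.getElem_mem _)).1 hc0 e1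
  refine ⟨fun q hq => ?_, K, hK, ?_⟩
  · obtain ⟨i, hi, rfl⟩ := List.getElem_of_mem hq
    rw [← key i (hlen.symm ▸ hi)]
    exact (hT _ (List.getElem_mem _)).conj e hF h _
  · rw [liftGrp, liftGrp, MonoidHom.map_closure]
    congr 1
    ext x
    simp only [Set.mem_image, Set.mem_setOf_eq, List.mem_map]
    constructor
    · rintro ⟨_, ⟨p, hp, rfl⟩, rfl⟩
      obtain ⟨i, hi, rfl⟩ := List.getElem_of_mem hp
      refine ⟨_, List.getElem_mem (hlen ▸ hi), ?_⟩
      show L _ = K * L _ * K⁻¹
      rw [hL.conj K _ (hT _ hp), hK, key i hi]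
    · rintro ⟨q, hq, rfl⟩
      obtain ⟨i, hi, rfl⟩ := List.getElem_of_mem hq
      have hi' : i < l.length := hlen.symm ▸ hi
      refine ⟨_, ⟨_, List.getElem_mem hi', rfl⟩, ?_⟩
      show K * L _ * K⁻¹ = L _
      rw [hL.conj K _ (hT _ (List.getElem_mem hi')), hK, key i hi']

include hL in
theorem invComm_lifts : InvComm (plane0.map (lp e hF h L)) := by
  refine ⟨fun a ha => ?_, fun a ha b hb => ?_⟩
  · obtain ⟨p, hp, rfl⟩ := List.mem_map.1 ha
    exact hL.sq _ (isTv_plane0 e hF h hp)
  · obtain ⟨p, hp, rfl⟩ := List.mem_map.1 ha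
    obtain ⟨q, hq, rfl⟩ := List.mem_map.1 hb
    exact hL.comm p hp q hq

include hπ hL in
theorem steps_spec : ∀ (ls : List (List ℕ × List ℕ)) (known : List ℕ), stepsOK known ls = true →
    ∀ K : Subgroup Γ, (∀ p ∈ known, lp e hF h L p ∈ K) → ∀ p ∈ plane0, lp e hF h L p ∈ K
  | [], known, hok, K, hK, p, hp => by
    obtain ⟨q, hq, he⟩ := List.any_eq_true.1 (List.all_eq_true.1 hok p hp)
    rw [Nat.eq_of_beq_eq_true he]
    exact hK q hq
  | (l, w) :: r, known, hok, K, hK, p, hp => by
    simp only [stepsOK, stepOK, Bool.and_eq_true, List.all_eq_true, List.any_eq_true, Nat.beq_eq,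
      List.mem_range] at hok
    obtain ⟨⟨⟨hw, hlen⟩, ⟨hpl, hkn⟩, hmv⟩, hrest⟩ := hok
    refine steps_spec r _ hrest K (fun q hq => ?_) p hp
    rcases List.mem_cons.1 hq with rfl | hq
    · obtain ⟨a, b, c, d, f, rfl⟩ : ∃ a b c d f, l = [a, b, c, d, f] := by
        match l, hlen with
        | [a, b, c, d, f], _ => exact ⟨a, b, c, d, f, rfl⟩
      have hpl' : ∀ x ∈ [a, b, c, d, f], x ∈ plane0 := fun x hx => by
        obtain ⟨y, hy, rfl⟩ := hpl x hx
        exact hy
      have hkn' : ∀ x ∈ [a, b, c, d], x ∈ known := fun x hx => by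
        obtain ⟨y, hy, rfl⟩ := hkn x (by simpa using hx)
        exact hy
      obtain ⟨J, hJ⟩ := hπ.surj (gW e hF h w)
      have himg : ∀ i < 5, J * L (tv e hF h (line0.getD i 0)) * J⁻¹ = L (tv e hF h ([a, b, c, d, f].getD i 0)) := by
        intro i hi
        have hl5 := line0_ok.2.1
        have hm0 : line0.getD i 0 ∈ plane0 := (mem_line0 (by
          rw [List.getD_eq_getElem _ _ (hl5.symm ▸ hi)]; exact List.getElem_mem _)).1
        have hm1 : [a, b, c, d, f].getD i 0 ∈ plane0 := hpl' _ (by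
          rw [List.getD_eq_getElem _ _ (by simpa using hi)]; exact List.getElem_mem _)
        obtain ⟨s, hs, e1⟩ := moves_spec e hF h hw (hmv i hi)
        rw [hL.conj J _ (isTv_plane0 e hF h hm0), hJ,
          conj_tv e hF h (isoSpan_spec planes_ok.1 hm0).1 (isoSpan_spec planes_ok.1 hm1).1 hs e1]
      have hprod : lp e hF h L a * (lp e hF h L b * (lp e hF h L c * (lp e hF h L d * lp e hF h L f))) = 1 := by
        have h0 := hL.line
        have hl : line0 = [line0.getD 0 0, line0.getD 1 0, line0.getD 2 0, line0.getD 3 0, line0.getD 4 0] := by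
          decide +kernel
        rw [hl] at h0
        simp only [List.map_cons, List.map_nil, List.prod_cons, List.prod_nil, mul_one] at h0
        have h1 := congrArg (fun x => J * x * J⁻¹) h0
        simp only [mul_one, mul_inv_cancel] at h1
        have e0 := himg 0 (by norm_num)
        have e1 := himg 1 (by norm_num)
        have e2 := himg 2 (by norm_num)
        have e3 := himg 3 (by norm_num)
        have e4 := himg 4 (by norm_num)
        simp only [List.getD_cons_zero, List.getD_cons_succ] at e0 e1 e2 e3 e4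
        rw [lp, lp, lp, lp, lp, ← e0, ← e1, ← e2, ← e3, ← e4, ← h1]
        group
      have ha := hK a (hkn' a (by simp))
      have hb := hK b (hkn' b (by simp))
      have hc := hK c (hkn' c (by simp))
      have hd := hK d (hkn' d (by simp))
      show lp e hF h L ([a, b, c, d, f].getD 4 0) ∈ K
      simp only [List.getD_cons_zero, List.getD_cons_succ]
      rw [← mul_assoc, ← mul_assoc, ← mul_assoc] at hprod
      rw [eq_inv_of_mul_eq_one_right hprod]
      exact inv_mem (mul_mem (mul_mem (mul_mem ha hb) hc) hd)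
    · exact hK q hq

include hπ hL in
/-- At most four elements of the kernel lie in the lift of the plane. -/
theorem natCard_liftGrp_inf : Nat.card (liftGrp e hF h L plane0 ⊓ π.ker : Subgroup Γ) ≤ 4 := by
  have hsp : ∀ p ∈ spanPts, p ∈ plane0 := fun p hp => by
    obtain ⟨q, hq, he⟩ := List.any_eq_true.1 (List.all_eq_true.1 steps_ok.2.1 p hp)
    rwa [Nat.eq_of_beq_eq_true he]
  have hbp : ∀ p ∈ basPts, p ∈ plane0 := fun p hp => by
    obtain ⟨q, hq, he⟩ := List.any_eq_true.1 (List.all_eq_true.1 bas_ok.1 p hp)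
    rwa [Nat.eq_of_beq_eq_true he]
  have hic := invComm_lifts e hF h hL
  have hic' : InvComm (spanPts.map (lp e hF h L)) := by
    refine ⟨fun a ha => hic.1 a ?_, fun a ha b hb => hic.2 a ?_ b ?_⟩
    all_goals
      first
      | (obtain ⟨p, hp, rfl⟩ := List.mem_map.1 ha; exact List.mem_map_of_mem (hsp p hp))
      | (obtain ⟨p, hp, rfl⟩ := List.mem_map.1 hb; exact List.mem_map_of_mem (hsp p hp))
  have hle : liftGrp e hF h L plane0 ≤ Subgroup.closure {a | a ∈ spanPts.map (lp e hF h L)} := by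
    refine (Subgroup.closure_le _).2 fun a ha => ?_
    obtain ⟨p, hp, rfl⟩ := List.mem_map.1 ha
    exact steps_spec e hF h hπ hL _ _ steps_ok.1 _
      (fun q hq => Subgroup.subset_closure (List.mem_map_of_mem hq)) p hp
  have hU : Nat.card (liftGrp e hF h L plane0) ≤ 2 ^ 11 := by
    refine (Subgroup.card_le_of_le hle).trans ((natCard_closure_le hic').trans (le_of_eq ?_))
    rw [List.length_map, steps_ok.2.2.1]
  let g : liftGrp e hF h L plane0 →* Cfsg.SU 6 F 2 := π.comp (liftGrp e hF h L plane0).subtype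
  have himg : 512 ≤ Nat.card g.range := by
    let f : Fin 512 → g.range := fun i => ⟨gW e hF h (sel basPts i),
      ⟨⟨lw e hF h L (sel basPts i), lw_mem e hF h fun p hp => hbp p (sel_subset _ _ p hp)⟩,
        map_lw e hF h hL fun p hp => isTv_plane0 e hF h (hbp p (sel_subset _ _ p hp))⟩⟩
    have hf : Function.Injective f := fun i j he => by
      have hiso : ∀ k : ℕ, isoW (sel basPts k) = true := fun k =>
        isoW_of_mem planes_ok.1 fun p hp => hbp p (sel_subset _ _ p hp)
      have hk := (gW_key_u e hF h (hiso i) (hiso j) (congrArg Subtype.val he)).1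
      have hc : ∀ k : Fin 512, uCoord (uKey (sel basPts k)) = k.1 := fun k =>
        Nat.eq_of_beq_eq_true (List.all_eq_true.1 bas_ok.2 k.1 (List.mem_range.2 k.2))
      exact Fin.ext (by rw [← hc i, ← hc j, hk])
    simpa using Nat.card_le_card_of_injective f hf
  have hker : Nat.card g.ker = Nat.card (liftGrp e hF h L plane0 ⊓ π.ker : Subgroup Γ) :=
    Nat.card_congr
      { toFun := fun x => ⟨x.1.1, x.1.2, x.2⟩
        invFun := fun x => ⟨⟨x.1, x.2.1⟩, x.2.2⟩
        left_inv := fun _ => rfl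
        right_inv := fun _ => rfl }
  have h1 := g.ker.card_mul_index
  rw [Subgroup.index_ker] at h1
  rw [← hker]
  by_contra hlt
  push Not at hlt
  have := Nat.mul_le_mul hlt himg
  omega

include hπ hL in
/-- The kernel in a lifted Sylow subgroup. -/
theorem exists_syl_lift : ∃ S : Subgroup Γ, (∀ x ∈ S, π x = 1 → x ∈ liftGrp e hF h L plane0) ∧
    sylGrp e hF h ≤ S.map π := by
  have hT0 : ∀ p ∈ plane0, IsTv e hF h (tv e hF h p) := fun p hp => isTv_plane0 e hF h hp
  obtain ⟨hT1, K1, hK1, hmap1⟩ :=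
    plane_image e hF h hπ hL toPlane_ok.1 planes_ok.1 planes_ok.2.1 hT0 toPlane_ok.2.1
  obtain ⟨hT2, K2, hK2, hmap2⟩ :=
    plane_image e hF h hπ hL toPlane_ok.2.2.1 planes_ok.1 planes_ok.2.2 hT0 toPlane_ok.2.2.2
  -- the kernel in the other planes
  have hcap : ∀ {K : Γ} {l : List ℕ}, (liftGrp e hF h L plane0).map (MulAut.conj K).toMonoidHom = liftGrp e hF h L l →
      ∀ z ∈ liftGrp e hF h L l, π z = 1 → z ∈ liftGrp e hF h L plane0 := by
    intro K l hm z hz hz1
    rw [← hm] at hz
    obtain ⟨y, hy, rfl⟩ := hz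
    have hy1 : π y = 1 := by
      simpa [MulAut.conj_apply] using hz1
    show K * y * K⁻¹ ∈ _
    rwa [hπ.ker_comm hy1 K, mul_inv_cancel_right]
  obtain ⟨U, hUd⟩ : ∃ U, U = liftGrp e hF h L plane0 := ⟨_, rfl⟩
  rw [← hUd]
  obtain ⟨P1, hP1⟩ : ∃ P1, P1 = Subgroup.closure {a | a ∈ (rootWords.take 4).map (lw e hF h L)} := ⟨_, rfl⟩
  obtain ⟨P2, hP2⟩ : ∃ P2, P2 = Subgroup.closure {a | a ∈ (rootWords.drop 4).map (lw e hF h L)} := ⟨_, rfl⟩
  have hlet1 : ∀ w ∈ rootWords.take 4, ∀ p ∈ w, p ∈ plane1 := fun w hw p hp => by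
    obtain ⟨q, hq, he⟩ := List.any_eq_true.1
      (List.all_eq_true.1 (List.all_eq_true.1 root_ok.2.2.1 w hw) p hp)
    rwa [Nat.eq_of_beq_eq_true he]
  have hlet2 : ∀ w ∈ rootWords.drop 4, ∀ p ∈ w, p ∈ plane2 := fun w hw p hp => by
    obtain ⟨q, hq, he⟩ := List.any_eq_true.1 (List.all_eq_true.1 (List.all_eq_true.1 root_ok.2.2.2.1 w (by
      rw [show rootWords.drop 4 = (rootWords.drop 2).drop 2 by rw [List.drop_drop]] at hw
      exact List.mem_of_mem_drop hw)) p hp)
    rwa [Nat.eq_of_beq_eq_true he]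
  have hP1U : P1 ≤ liftGrp e hF h L plane1 := by
    rw [hP1]
    refine (Subgroup.closure_le _).2 fun a ha => ?_
    obtain ⟨w, hw, rfl⟩ := List.mem_map.1 ha
    exact lw_mem e hF h (hlet1 w hw)
  have hP2U : P2 ≤ liftGrp e hF h L plane2 := by
    rw [hP2]
    refine (Subgroup.closure_le _).2 fun a ha => ?_
    obtain ⟨w, hw, rfl⟩ := List.mem_map.1 ha
    exact lw_mem e hF h (hlet2 w hw)
  have hin1 : ∀ a ∈ (rootWords.take 4).map (lw e hF h L), a ∈ P1 := fun a ha => by
    rw [hP1]; exact Subgroup.subset_closure ha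
  have hin2 : ∀ a ∈ (rootWords.drop 4).map (lw e hF h L), a ∈ P2 := fun a ha => by
    rw [hP2]; exact Subgroup.subset_closure ha
  have hic1 : InvComm ((rootWords.take 4).map (lw e hF h L)) := by
    have hc : InvComm (plane1.map (lp e hF h L)) := by
      refine ⟨fun a ha => ?_, fun a ha b hb => ?_⟩
      · obtain ⟨p, hp, rfl⟩ := List.mem_map.1 ha
        exact hL.sq _ (hT1 p hp)
      · have hsub : ∀ x ∈ plane1.map (lp e hF h L), x ∈ liftGrp e hF h L plane1 := fun x hx =>
          Subgroup.subset_closure hx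
        have ha' := hsub a ha
        have hb' := hsub b hb
        rw [← hmap1] at ha' hb'
        obtain ⟨a0, ha0, rfl⟩ := ha'
        obtain ⟨b0, hb0, rfl⟩ := hb'
        obtain ⟨i, -, rfl⟩ := mem_closure_list (invComm_lifts e hF h hL) ha0
        obtain ⟨j, -, rfl⟩ := mem_closure_list (invComm_lifts e hF h hL) hb0
        refine (Commute.list_prod_right _ _ fun y hy => Commute.list_prod_left _ _ fun x hx => ?_).map _
        exact (invComm_lifts e hF h hL).2 x (sel_subset _ _ x hx) y (sel_subset _ _ y hy)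
    refine ⟨fun a ha => ?_, fun a ha b hb => ?_⟩
    · obtain ⟨i, -, hi⟩ := mem_closure_list hc (hP1U (hin1 a ha))
      rw [hi, sel_sq hc]
    · obtain ⟨i, -, hi⟩ := mem_closure_list hc (hP1U (hin1 a ha))
      obtain ⟨j, -, hj⟩ := mem_closure_list hc (hP1U (hin1 b hb))
      rw [hi, hj]
      refine Commute.list_prod_right _ _ fun y hy => Commute.list_prod_left _ _ fun x hx => ?_
      exact hc.2 x (sel_subset _ _ x hx) y (sel_subset _ _ y hy)
  have hic2 : InvComm ((rootWords.drop 4).map (lw e hF h L)) := by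
    have hc : InvComm (plane2.map (lp e hF h L)) := by
      refine ⟨fun a ha => ?_, fun a ha b hb => ?_⟩
      · obtain ⟨p, hp, rfl⟩ := List.mem_map.1 ha
        exact hL.sq _ (hT2 p hp)
      · have hsub : ∀ x ∈ plane2.map (lp e hF h L), x ∈ liftGrp e hF h L plane2 := fun x hx =>
          Subgroup.subset_closure hx
        have ha' := hsub a ha
        have hb' := hsub b hb
        rw [← hmap2] at ha' hb'
        obtain ⟨a0, ha0, rfl⟩ := ha'
        obtain ⟨b0, hb0, rfl⟩ := hb'
        obtain ⟨i, -, rfl⟩ := mem_closure_list (invComm_lifts e hF h hL) ha0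
        obtain ⟨j, -, rfl⟩ := mem_closure_list (invComm_lifts e hF h hL) hb0
        refine (Commute.list_prod_right _ _ fun y hy => Commute.list_prod_left _ _ fun x hx => ?_).map _
        exact (invComm_lifts e hF h hL).2 x (sel_subset _ _ x hx) y (sel_subset _ _ y hy)
    refine ⟨fun a ha => ?_, fun a ha b hb => ?_⟩
    · obtain ⟨i, -, hi⟩ := mem_closure_list hc (hP2U (hin2 a ha))
      rw [hi, sel_sq hc]
    · obtain ⟨i, -, hi⟩ := mem_closure_list hc (hP2U (hin2 a ha))
      obtain ⟨j, -, hj⟩ := mem_closure_list hc (hP2U (hin2 b hb))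
      rw [hi, hj]
      refine Commute.list_prod_right _ _ fun y hy => Commute.list_prod_left _ _ fun x hx => ?_
      exact hc.2 x (sel_subset _ _ x hx) y (sel_subset _ _ y hy)
  have hroot : ∀ w ∈ rootWords, π (lw e hF h L w) = gW e hF h w := fun w hw => by
    refine map_lw e hF h hL fun p hp => ?_
    rw [← List.take_append_drop 4 rootWords] at hw
    rcases List.mem_append.1 hw with hw | hw
    · exact hT1 p (hlet1 w hw p hp)
    · exact hT2 p (hlet2 w hw p hp)
  -- conjugation inside the planes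
  have hstab : ∀ {l : List ℕ}, isoSpan l = true → (∀ p ∈ l, IsTv e hF h (tv e hF h p)) →
      ∀ w ∈ rootWords, carries w l l = true → ∀ a ∈ liftGrp e hF h L l,
        lw e hF h L w * a * (lw e hF h L w)⁻¹ ∈ liftGrp e hF h L l := by
    intro l hl hT w hw hc a ha
    have hle : liftGrp e hF h L l ≤ (liftGrp e hF h L l).comap (MulAut.conj (lw e hF h L w)).toMonoidHom := by
      refine (Subgroup.closure_le _).2 fun b hb => ?_
      obtain ⟨p, hp, rfl⟩ := List.mem_map.1 hb
      obtain ⟨q, hq, e1⟩ := conj_of_carries e hF h (List.all_eq_true.1 root_ok.1 w hw) hl hl hc hp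
      show lw e hF h L w * L (tv e hF h p) * (lw e hF h L w)⁻¹ ∈ liftGrp e hF h L l
      rw [hL.conj _ _ (hT p hp), hroot w hw, e1]
      exact Subgroup.subset_closure (List.mem_map_of_mem (f := lp e hF h L) hq)
    exact hle ha
  have hN1 : P1 ≤ Subgroup.normalizer (U : Set Γ) := by
    rw [hP1]
    refine (Subgroup.closure_le _).2 fun a ha => ?_
    obtain ⟨w, hw, rfl⟩ := List.mem_map.1 ha
    refine Subgroup.mem_normalizer_fintype fun b hb => ?_
    rw [hUd] at hb ⊢
    exact hstab planes_ok.1 hT0 w (List.mem_of_mem_take hw)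
      (List.all_eq_true.1 root_ok.2.1 w (List.mem_of_mem_take hw)) b hb
  have hN2 : P2 ≤ Subgroup.normalizer ((U ⊔ P1 : Subgroup Γ) : Set Γ) := by
    rw [hP2]
    refine (Subgroup.closure_le _).2 fun a ha => ?_
    obtain ⟨x, hx, rfl⟩ := List.mem_map.1 ha
    have hle : U ⊔ P1 ≤ (U ⊔ P1).comap (MulAut.conj (lw e hF h L x)).toMonoidHom := by
      refine sup_le (fun b hb => Subgroup.mem_sup_left ?_) ?_
      · rw [hUd] at hb ⊢
        exact hstab planes_ok.1 hT0 x (List.mem_of_mem_drop hx)
          (List.all_eq_true.1 root_ok.2.1 x (List.mem_of_mem_drop hx)) b hb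
      · rw [hP1]
        refine (Subgroup.closure_le _).2 fun b hb => ?_
        obtain ⟨y, hy, rfl⟩ := List.mem_map.1 hb
        show lw e hF h L x * lw e hF h L y * (lw e hF h L x)⁻¹ ∈ U ⊔ Subgroup.closure _
        obtain ⟨m, hm'⟩ := root_conj_root e hF h hx hy
        obtain ⟨v, hv⟩ : ∃ v, v = (sel ((rootWords.take 4).map (lw e hF h L)) m).prod := ⟨_, rfl⟩
        have hv1 : v ∈ P1 := hv ▸ hP1 ▸ sel_prod_mem m
        obtain ⟨u, hu⟩ : ∃ u, u = lw e hF h L x * lw e hF h L y * (lw e hF h L x)⁻¹ := ⟨_, rfl⟩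
        have hu1 : u ∈ liftGrp e hF h L plane1 := hu ▸ hstab planes_ok.2.1 hT1 x (List.mem_of_mem_drop hx)
          (List.all_eq_true.1 root_ok.2.2.2.2 x hx) _ (lw_mem e hF h (hlet1 y hy))
        have hπv : π v = gW e hF h (rootSel (rootWords.take 4) m) := by
          rw [hv, map_list_prod, ← sel_map, List.map_map, gW_rootSel]
          refine congrArg (fun l => (sel l m).prod) (List.map_congr_left fun w hw => ?_)
          exact hroot w (List.mem_of_mem_take hw)
        have hπu : π u = π v := by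
          rw [hπv, hu, map_mul, map_mul, map_inv, hroot _ (List.mem_of_mem_drop hx),
            hroot _ (List.mem_of_mem_take hy), hm']
        have hd : u * v⁻¹ ∈ U := hUd ▸ hcap hmap1 _ (mul_mem hu1 (inv_mem (hP1U hv1)))
          (by rw [map_mul, map_inv, hπu, mul_inv_cancel])
        rw [← hu, ← hP1, show u = u * v⁻¹ * v by rw [inv_mul_cancel_right]]
        exact mul_mem (Subgroup.mem_sup_left hd) (Subgroup.mem_sup_right hv1)
    exact Subgroup.mem_normalizer_fintype fun b hb => hle hb
  refine ⟨U ⊔ P1 ⊔ P2, fun x hx hx1 => ?_, ?_⟩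
  · rw [← SetLike.mem_coe, Subgroup.coe_mul_of_right_le_normalizer_left _ _ hN2] at hx
    obtain ⟨y, hy, z, hz, rfl⟩ := Set.mem_mul.1 hx
    rw [Subgroup.coe_mul_of_right_le_normalizer_left _ _ hN1] at hy
    obtain ⟨a, ha, b, hb, rfl⟩ := Set.mem_mul.1 hy
    rw [SetLike.mem_coe, hP1] at hb
    rw [SetLike.mem_coe, hP2] at hz
    obtain ⟨i, hi, rfl⟩ := mem_closure_list hic1 hb
    obtain ⟨j, hj, rfl⟩ := mem_closure_list hic2 hz
    rw [List.length_map, List.length_take, root_split.2] at hi
    rw [List.length_map, List.length_drop, root_split.2] at hj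
    norm_num at hi hj
    have hy1 : ∀ ws : List (List ℕ), (∀ w ∈ ws, w ∈ rootWords) → ∀ k,
        π (sel (ws.map (lw e hF h L)) k).prod = gW e hF h (rootSel ws k) := fun ws hws k => by
      rw [map_list_prod, ← sel_map, List.map_map, gW_rootSel]
      exact congrArg (fun l => (sel l k).prod) (List.map_congr_left fun w hw => hroot w (hws w hw))
    have haU : π a ∈ planeGrp e hF h plane0 := by
      have hle : (liftGrp e hF h L plane0).map π ≤ planeGrp e hF h plane0 := by
        rw [liftGrp, MonoidHom.map_closure]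
        refine (Subgroup.closure_le _).2 ?_
        rintro _ ⟨_, hm, rfl⟩
        obtain ⟨p, hp, rfl⟩ := List.mem_map.1 hm
        show π (L (tv e hF h p)) ∈ planeGrp e hF h plane0
        rw [hL.map _ (hT0 p hp)]
        exact Subgroup.subset_closure (List.mem_map_of_mem hp)
      exact hle ⟨a, hUd ▸ ha, rfl⟩
    rw [map_mul, map_mul, hy1 _ (fun w hw => List.mem_of_mem_take hw),
      hy1 _ (fun w hw => List.mem_of_mem_drop hw), mul_assoc, ← gW_append] at hx1
    have hji : i + 16 * j < 64 := by omega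
    have hk := List.all_eq_true.1 root_split.1 (i + 16 * j) (List.mem_range.2 hji)
    rw [show (i + 16 * j) % 16 = i by omega, show (i + 16 * j) / 16 = j by omega, Bool.or_eq_true,
      Bool.not_eq_true', Nat.beq_eq] at hk
    obtain ⟨yw, hyw⟩ : ∃ yw, yw = rootSel (rootWords.take 4) i ++ rootSel (rootWords.drop 4) j := ⟨_, rfl⟩
    rw [← hyw] at hx1 hk
    have hyi : isoW yw = true := by
      have hr := root_ok.1
      simp only [hyw, isoW, List.all_append, rootSel, List.all_flatten, Bool.and_eq_true]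
      simp only [List.all_eq_true, isoW] at hr ⊢
      exact ⟨fun w hw => hr w (List.mem_of_mem_take (sel_subset _ _ w hw)),
        fun w hw => hr w (List.mem_of_mem_drop (sel_subset _ _ w hw))⟩
    have key : yKey yw = yKey [] := by
      have hinv : gW e hF h yw = (π a)⁻¹ := eq_inv_of_mul_eq_one_right hx1
      have k3 : ∀ b ∈ [5, 80, 1280], appW yw b % 4096 = appW [] b % 4096 := fun b hb => by
        rw [← vec_inj e, ← gW_vec e hF h hyi, hinv]
        exact plane_fix e hF h (inv_mem haU) hb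
      simp only [yKey]
      rw [k3 5 (by simp), k3 80 (by simp), k3 1280 (by simp)]
    have h0 : i + 16 * j = 0 := by
      rcases hk with hk | hk
      · rw [← Bool.not_eq_true, Nat.beq_eq] at hk
        exact absurd key hk
      · exact hk
    rw [show i = 0 by omega, show j = 0 by omega, sel_zero, sel_zero, List.prod_nil, mul_one, mul_one]
    exact ha
  · refine sup_le (sup_le ?_ ?_) ?_
    · refine (Subgroup.closure_le _).2 fun a ha => ?_
      obtain ⟨p, hp, rfl⟩ := List.mem_map.1 ha
      exact ⟨lp e hF h L p, Subgroup.mem_sup_left (Subgroup.mem_sup_left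
        (hUd ▸ Subgroup.subset_closure (List.mem_map_of_mem hp))), hL.map _ (hT0 p hp)⟩
    · refine (Subgroup.closure_le _).2 fun a ha => ?_
      obtain ⟨w, hw, rfl⟩ := List.mem_map.1 ha
      exact ⟨lw e hF h L w, Subgroup.mem_sup_left (Subgroup.mem_sup_right
        (hP1 ▸ Subgroup.subset_closure (List.mem_map_of_mem hw))), hroot w (List.mem_of_mem_take hw)⟩
    · refine (Subgroup.closure_le _).2 fun a ha => ?_
      obtain ⟨w, hw, rfl⟩ := List.mem_map.1 ha
      exact ⟨lw e hF h L w, Subgroup.mem_sup_right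
        (hP2 ▸ Subgroup.subset_closure (List.mem_map_of_mem hw)), hroot w (List.mem_of_mem_drop hw)⟩

omit hπ hL in
include e hF h in
/-- The two-part of the multiplier has order at most four. -/
theorem two_bound {Δ : Type u} [Group Δ] [Finite Δ] {θ : Δ →* Cfsg.SU 6 F 2} (hθ : IsCE θ)
    (hpr : IsPGroup 2 θ.ker) : ∃ H : Subgroup Δ, Nat.card H ≤ 4 ∧ commutator Δ ⊓ θ.ker ≤ H := by
  obtain ⟨L, hL⟩ := exists_lifts e hF h hθ hpr
  obtain ⟨S, hS, hmap⟩ := exists_syl_lift e hF h hθ hL
  refine ⟨_, natCard_liftGrp_inf e hF h hθ hL, ?_⟩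
  rintro k ⟨hk, hk1⟩
  refine ⟨?_, hk1⟩
  obtain ⟨W, hW⟩ : ∃ W, W = (sylGrp e hF h).comap θ := ⟨_, rfl⟩
  have hWS : ⁅W, W⁆ ≤ S := Subgroup.commutator_le.2 fun a ha b hb => by
    rw [hW, Subgroup.mem_comap] at ha hb
    obtain ⟨c, hc, hca⟩ := hmap ha
    obtain ⟨d, hd, hdb⟩ := hmap hb
    rw [bracket_congr hθ hca.symm hdb.symm, commutatorElement_def]
    exact mul_mem (mul_mem (mul_mem hc hd) (inv_mem hc)) (inv_mem hd)
  have hkU : k ∈ W := by rw [hW, Subgroup.mem_comap, MonoidHom.mem_ker.1 hk1]; exact one_mem _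
  have h1 : MonoidHom.transfer (Abelianization.of : W →* _) k = 1 :=
    Abelianization.commutator_subset_ker _ hk
  have hkc : ∀ y, y * k = k * y := hθ.ker_comm hk1
  rw [MonoidHom.transfer_eq_pow _ k (fun n y _ => by
    rw [mul_assoc, ← (Commute.pow_right (hkc y) n).eq, inv_mul_cancel_left])] at h1
  have h2 : k ^ W.index ∈ ⁅W, W⁆ := by
    rw [← Subgroup.map_subtype_commutator]
    exact ⟨_, by rw [← Abelianization.ker_of]; exact h1, rfl⟩
  have h3 : k ^ W.index ∈ liftGrp e hF h L plane0 := hS _ (hWS h2) (by rw [map_pow, MonoidHom.mem_ker.1 hk1, one_pow])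
  rw [hW, Subgroup.index_comap_of_surjective _ hθ.surj] at h3
  have hodd := sylGrp_index_odd e hF h
  have hco : Nat.Coprime 2 (sylGrp e hF h).index := (Nat.prime_two.coprime_iff_not_dvd).2 hodd
  obtain ⟨n, hn⟩ := hpr ⟨k, hk1⟩
  have hn' : k ^ 2 ^ n = 1 := congrArg Subtype.val hn
  obtain ⟨m, hm'⟩ : ∃ m : ℕ, k = (k ^ (sylGrp e hF h).index) ^ m := by
    obtain ⟨m, hm⟩ := exists_pow_eq_self_of_coprime (x := k) (n := (sylGrp e hF h).index)
      ((Nat.Coprime.pow_left n hco).symm.coprime_dvd_right (orderOf_dvd_of_pow_eq_one hn'))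
    exact ⟨m, hm.symm⟩
  rw [hm']
  exact pow_mem h3 m

end CfsgLib.KnownB.U62Mult
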