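import Cfsg.Agent.Lib.KnownB.U62Mult.CoverStem
import Cfsg.Agent.Lib.KnownB.U62Mult.TwoBound
import Cfsg.Agent.Lib.Schur.Lift

/-!
The Schur multiplier of `PSU₆(2)` is `3 × 2 × 2`.
-/

set_option autoImplicit false
set_option maxRecDepth 100000

namespace CfsgLib.KnownB.U62Mult

open Matrix CfsgLib.Classical CfsgLib.Classical.Unitary CfsgLib.Spor CfsgLib.MultSU
open scoped commutatorElement

universe u

/-- Dividing the kernel by its part prime to `r`. -/
theorem exists_quot_part {Q Δ : Type u} [Group Q] [Group Δ] [Finite Δ] {θ : Δ →* Q} (hθ : IsCE θ) (r : ℕ)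
    [hr : Fact r.Prime] :
    ∃ R : Subgroup Δ, R ≤ θ.ker ∧ ¬ r ∣ Nat.card R ∧
      ∀ (P : ∀ (X : Type u) [Group X] [Finite X] (τ : X →* Q), Prop),
        (∀ (X : Type u) [Group X] [Finite X] (τ : X →* Q), IsCE τ → IsPGroup r τ.ker → P X τ) →
          ∃ (_ : R.Normal) (τ : Δ ⧸ R →* Q), (∀ g : Δ, τ g = θ g) ∧ P (Δ ⧸ R) τ := by
  obtain ⟨k, m, hm, hcard⟩ :=
    Nat.exists_eq_pow_mul_and_not_dvd (Nat.card_pos (α := θ.ker)).ne' r hr.out.ne_one
  have hcomm : ∀ a b : θ.ker, Commute a b := fun a b =>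
    Subtype.ext (hθ.ker_comm b.2 a.1)
  let f : θ.ker →* Δ :=
    { toFun := fun w => (w : Δ) ^ r ^ k
      map_one' := by simp
      map_mul' := fun a b => by
        rw [Subgroup.coe_mul, (show Commute (a : Δ) b from congrArg Subtype.val (hcomm a b)).mul_pow] }
  obtain ⟨R, hR⟩ : ∃ R, R = f.range := ⟨_, rfl⟩
  have hRk : R ≤ θ.ker := by
    rw [hR]
    rintro _ ⟨w, rfl⟩
    exact Subgroup.pow_mem _ w.2 _
  refine ⟨R, hRk, fun hd => ?_, fun P hP => ?_⟩
  · obtain ⟨x, hx⟩ := exists_prime_orderOf_dvd_card' r hd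
    have hx1 : (x : Δ) ∈ f.range := hR ▸ x.2
    obtain ⟨w, hw⟩ := hx1
    have h2 : (x : Δ) ^ m = 1 := by
      rw [← hw]
      show ((w : Δ) ^ r ^ k) ^ m = 1
      rw [← pow_mul, ← hcard]
      exact congrArg Subtype.val (pow_card_eq_one' (x := w))
    rw [← Subgroup.orderOf_coe] at hx
    exact hm (hx ▸ orderOf_dvd_of_pow_eq_one h2)
  · haveI : R.Normal := ⟨fun a ha g => by rwa [hθ.ker_comm (hRk ha) g, mul_inv_cancel_right]⟩
    obtain ⟨τ, hτ⟩ : ∃ τ : Δ ⧸ R →* Q, τ = QuotientGroup.lift R θ hRk := ⟨_, rfl⟩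
    have hτm : ∀ g : Δ, τ g = θ g := fun g => by rw [hτ]; rfl
    refine ⟨this, τ, hτm, hP _ τ ⟨fun g => ?_, fun g hg => ?_⟩ fun g => ?_⟩
    · obtain ⟨a, rfl⟩ := hθ.surj g
      exact ⟨a, hτm a⟩
    · obtain ⟨a, rfl⟩ := QuotientGroup.mk_surjective g
      rw [MonoidHom.mem_ker, hτm] at hg
      refine Subgroup.mem_center_iff.2 fun b => ?_
      obtain ⟨b, rfl⟩ := QuotientGroup.mk_surjective b
      rw [← QuotientGroup.mk_mul, ← QuotientGroup.mk_mul, hθ.ker_comm hg b]
    · obtain ⟨a, ha⟩ := QuotientGroup.mk_surjective g.1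
      have hak : a ∈ θ.ker := by
        have := g.2
        rw [MonoidHom.mem_ker, ← ha, hτm] at this
        exact this
      refine ⟨k, Subtype.ext ?_⟩
      rw [Subgroup.coe_pow, ← ha, ← QuotientGroup.mk_pow, OneMemClass.coe_one, QuotientGroup.eq_one_iff, hR]
      exact ⟨⟨a, hak⟩, rfl⟩

variable {F : Type u} [Field F] (e : QField →+* F) {σ : F →+* F} [Finite F] (hF : Nat.card F = 2 ^ 2)
  (h : UFrob σ 2)

include e hF h in
/-- At most four elements of the kernel of a central extension of `SU₆(2)` lie in the derived group. -/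
theorem natCard_comm_inf_le {Δ : Type u} [Group Δ] [Finite Δ] {θ : Δ →* Cfsg.SU 6 F 2} (hθ : IsCE θ) :
    Nat.card (commutator Δ ⊓ θ.ker : Subgroup Δ) ≤ 4 := by
  obtain ⟨K, hK⟩ : ∃ K, K = (commutator Δ ⊓ θ.ker : Subgroup Δ) := ⟨_, rfl⟩
  rw [← hK]
  have himg : ∀ (R : Subgroup Δ) [R.Normal] (τ : Δ ⧸ R →* Cfsg.SU 6 F 2), (∀ g : Δ, τ g = θ g) →
      ∀ x ∈ K, (x : Δ ⧸ R) ∈ commutator (Δ ⧸ R) ⊓ τ.ker := by
    intro R _ τ hτ x hx
    rw [hK] at hx
    refine ⟨?_, show τ (x : Δ ⧸ R) = 1 by rw [hτ]; exact hx.2⟩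
    have := Subgroup.mem_map_of_mem (QuotientGroup.mk' R) hx.1
    rw [commutator_def, Subgroup.map_commutator] at this
    exact Subgroup.commutator_mono le_top le_top this
  -- the odd primes do not divide the order
  have hodd : ∀ r, r.Prime → r ≠ 2 → ¬ r ∣ Nat.card K := by
    intro r hr h2 hd
    haveI := Fact.mk hr
    obtain ⟨R, hRk, hR, hq⟩ := exists_quot_part hθ r
    have hNM : NoMult r (Cfsg.SU 6 F 2) := by
      rcases eq_or_ne r 3 with rfl | h3
      · exact noMult_six_three hF h rfl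
      · exact noMult_six_big hF rfl h2 h3
    obtain ⟨_, τ, hτ, hP⟩ := hq (fun X _ _ τ => ∀ x ∈ commutator X, τ x = 1 → x = 1)
      (fun X _ _ τ hτ hp => hNM X τ hτ hp)
    have hle : K ≤ R := fun x hx => by
      have h1 := himg R τ hτ x hx
      exact (QuotientGroup.eq_one_iff x).1 (hP _ h1.1 h1.2)
    exact hR (hd.trans (Subgroup.card_dvd_of_le hle))
  haveI := Fact.mk Nat.prime_two
  obtain ⟨R, hRk, hR, hq⟩ := exists_quot_part hθ 2
  obtain ⟨_, τ, hτ, H, hH, hle⟩ := hq (fun X _ _ τ => ∃ H : Subgroup X, Nat.card H ≤ 4 ∧ commutator X ⊓ τ.ker ≤ H)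
    (fun X _ _ τ hτ hp => two_bound e hF h hτ hp)
  obtain ⟨f, hf⟩ : ∃ f : K →* Δ ⧸ R, f = (QuotientGroup.mk' R).comp K.subtype := ⟨_, rfl⟩
  have hr : f.range ≤ H := by
    rintro _ ⟨x, rfl⟩
    rw [hf]
    exact hle (himg R τ hτ x.1 x.2)
  have hinj : f.ker = ⊥ := by
    refine (Subgroup.eq_bot_iff_forall _).2 fun x hx => ?_
    have hxR : (x : Δ) ∈ R := by
      rw [hf] at hx
      exact (QuotientGroup.eq_one_iff (x : Δ)).1 hx
    by_contra hx1
    obtain ⟨p, hp, hpd⟩ := Nat.exists_prime_and_dvd (fun e1 => hx1 (orderOf_eq_one_iff.1 e1) : orderOf x ≠ 1)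
    rcases eq_or_ne p 2 with rfl | h2
    · refine hR (hpd.trans ?_)
      rw [← Subgroup.orderOf_coe, show orderOf (x : Δ) = orderOf (⟨(x : Δ), hxR⟩ : R) from
        (Subgroup.orderOf_coe (⟨(x : Δ), hxR⟩ : R))]
      exact orderOf_dvd_natCard _
    · exact hodd p hp h2 (hpd.trans (orderOf_dvd_natCard x))
  have hcard : Nat.card K = Nat.card f.range := by
    have := f.ker.card_mul_index
    rw [hinj, Subgroup.card_bot, one_mul, ← hinj, Subgroup.index_ker] at this
    exact this.symm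
  rw [hcard]
  exact (Subgroup.card_le_of_le hr).trans hH

include e hF h in
/-- A stem extension of `PSU₆(2)` has kernel of order at most twelve. -/
theorem natCard_stem_ker_le {Δ : Type u} [Group Δ] [Finite Δ] {τ : Δ →* Cfsg.PSU 6 F 2}
    (hs : Cfsg.IsStemExtension τ) : Nat.card τ.ker ≤ 12 := by
  obtain ⟨mk, hmk⟩ : ∃ mk, mk = QuotientGroup.mk' (Subgroup.center (Cfsg.SU 6 F 2)) := ⟨_, rfl⟩
  obtain ⟨P, hP⟩ : ∃ P : Subgroup (Δ × Cfsg.SU 6 F 2),
      P = (τ.comp (MonoidHom.fst _ _)).eqLocus (mk.comp (MonoidHom.snd _ _)) := ⟨_, rfl⟩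
  have hPm : ∀ x, x ∈ P ↔ τ x.1 = mk x.2 := fun x => by rw [hP]; rfl
  let pr : P →* Cfsg.SU 6 F 2 := (MonoidHom.snd _ _).comp P.subtype
  let pl : P →* Δ := (MonoidHom.fst _ _).comp P.subtype
  have hpr : IsCE pr := by
    refine ⟨fun g => ?_, fun x hx => Subgroup.mem_center_iff.2 fun y => ?_⟩
    · obtain ⟨a, ha⟩ := hs.1 (mk g)
      exact ⟨⟨(a, g), (hPm _).2 ha⟩, rfl⟩
    · have h2 : x.1.2 = 1 := hx
      have h1 : x.1.1 ∈ τ.ker := by
        rw [MonoidHom.mem_ker, (hPm _).1 x.2, h2, map_one]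
      refine Subtype.ext (Prod.ext (Subgroup.mem_center_iff.1 (hs.2.1 h1) y.1.1) ?_)
      show y.1.2 * x.1.2 = x.1.2 * y.1.2
      rw [h2, mul_one, one_mul]
  have hpl : Function.Surjective pl := fun a => by
    obtain ⟨g, hg⟩ := QuotientGroup.mk'_surjective (Subgroup.center (Cfsg.SU 6 F 2)) (τ a)
    exact ⟨⟨(a, g), (hPm _).2 (by rw [hmk]; exact hg.symm)⟩, rfl⟩
  obtain ⟨Y, hY⟩ : ∃ Y : Subgroup P, Y = commutator P ⊓ τ.ker.comap pl := ⟨_, rfl⟩
  have hcov : τ.ker ≤ Y.map pl := by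
    intro z hz
    have hzc : z ∈ (commutator P).map pl := by
      rw [commutator_def, Subgroup.map_commutator, Subgroup.map_top_of_surjective _ hpl, ← commutator_def]
      exact hs.2.2 hz
    obtain ⟨p, hp, rfl⟩ := hzc
    exact ⟨p, hY ▸ ⟨hp, hz⟩, rfl⟩
  have h1 : Nat.card τ.ker ≤ Nat.card Y := by
    refine (Subgroup.card_le_of_le hcov).trans ?_
    exact Nat.card_le_card_of_surjective (fun y : Y => (⟨pl y, Subgroup.mem_map_of_mem pl y.2⟩ : Y.map pl))
      fun x => by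
        obtain ⟨p, hp, hpe⟩ := x.2
        exact ⟨⟨p, hp⟩, Subtype.ext hpe⟩
  let f : Y →* Cfsg.SU 6 F 2 := pr.comp Y.subtype
  have hf : f.range ≤ Subgroup.center (Cfsg.SU 6 F 2) := by
    rintro _ ⟨y, rfl⟩
    have hy : y.1 ∈ commutator P ⊓ τ.ker.comap pl := hY ▸ y.2
    have := (hPm _).1 y.1.2
    rw [show τ y.1.1.1 = 1 from hy.2, hmk] at this
    exact (QuotientGroup.eq_one_iff _).1 this.symm
  have h2 : Nat.card f.range ≤ 3 := by
    refine (Subgroup.card_le_of_le hf).trans (le_of_eq ?_)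
    rw [card_center_SU hF (by norm_num)]
    norm_num
  have h3 : Nat.card f.ker ≤ 4 := by
    refine le_trans (Nat.card_le_card_of_injective (fun y : f.ker => (⟨y.1.1, ?_, y.2⟩ :
      (commutator P ⊓ pr.ker : Subgroup P))) fun a b hab => Subtype.ext (Subtype.ext (congrArg Subtype.val hab :)))
      (natCard_comm_inf_le e hF h hpr)
    exact ((SetLike.ext_iff.1 hY _).1 y.1.2).1
  have h4 := f.ker.card_mul_index
  rw [Subgroup.index_ker] at h4
  have := Nat.mul_le_mul h3 h2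
  omega

include hF h in
/-- The multiplier. -/
theorem hasSchurMultiplier' (e : QField →+* F) :
    Cfsg.HasSchurMultiplier (Cfsg.PSU 6 F 2) (Multiplicative (ZMod 3 × ZMod 2 × ZMod 2)) := by
  obtain ⟨mk, hmk⟩ : ∃ mk, mk = QuotientGroup.mk' (Subgroup.center (Cfsg.SU 6 F 2)) := ⟨_, rfl⟩
  obtain ⟨τ, hτ⟩ : ∃ τ : CovGrp e →* Cfsg.PSU 6 F 2, τ = mk.comp (covProj e) := ⟨_, rfl⟩
  have hsurj := covProj_surjective e hF h
  have hperfSU : commutator (Cfsg.SU 6 F 2) = ⊤ :=
    su_commutator_eq_top hF h (by norm_num) (fun e => absurd e (by norm_num))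
  have hperf : commutator (CovGrp e) = ⊤ := by
    refine eq_top_iff.2 fun x _ => ?_
    have hm : covProj e x ∈ (commutator (CovGrp e)).map (covProj e) := by
      rw [commutator_def, Subgroup.map_commutator, Subgroup.map_top_of_surjective _ hsurj, ← commutator_def,
        hperfSU]
      trivial
    obtain ⟨y, hy, hyx⟩ := hm
    obtain ⟨z, hz, rfl⟩ := exists_eq_mul (σ := covProj e) hyx.symm
    exact mul_mem hy (ker_le_commutator e hF h hz)
  have hkcen : ∀ x ∈ (covProj e).ker, ∀ y, y * x = x * y := fun x hx y => by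
    obtain ⟨d, rfl⟩ := (ker_covProj e hF).1 hx
    exact Subgroup.mem_center_iff.1 (covFlip_central e d) y
  have hker : ∀ x, x ∈ τ.ker ↔ covProj e x ∈ Subgroup.center (Cfsg.SU 6 F 2) := fun x => by
    rw [hτ, hmk, MonoidHom.mem_ker, MonoidHom.comp_apply]
    exact QuotientGroup.eq_one_iff _
  have hcen : τ.ker ≤ Subgroup.center (CovGrp e) := fun z hz => by
    have hzc := (hker z).1 hz
    have hb : ∀ y, ⁅y, z⁆ ∈ (covProj e).ker := fun y => by
      rw [MonoidHom.mem_ker, map_commutatorElement, commutatorElement_eq_one_iff_mul_comm]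
      exact Subgroup.mem_center_iff.1 hzc _
    let φ : CovGrp e →* (covProj e).ker := MonoidHom.mk' (fun y => ⟨⁅y, z⁆, hb y⟩) fun a b => Subtype.ext (by
      show ⁅a * b, z⁆ = ⁅a, z⁆ * ⁅b, z⁆
      rw [show ⁅a * b, z⁆ = a * ⁅b, z⁆ * a⁻¹ * ⁅a, z⁆ by simp only [commutatorElement_def]; group,
        hkcen _ (hb b) a, mul_inv_cancel_right, hkcen _ (hb b) ⁅a, z⁆])
    refine Subgroup.mem_center_iff.2 fun y => ?_
    have h1 : φ y = 1 := by
      let _ : CommGroup (covProj e).ker :=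
        { (inferInstance : Group (covProj e).ker) with
          mul_comm := fun a b => Subtype.ext (hkcen _ b.2 a.1) }
      exact Abelianization.commutator_subset_ker φ (hperf ▸ Subgroup.mem_top y)
    exact commutatorElement_eq_one_iff_mul_comm.1 (congrArg Subtype.val h1)
  have hs : Cfsg.IsStemExtension τ :=
    ⟨fun g => by
      obtain ⟨a, rfl⟩ := QuotientGroup.mk'_surjective _ g
      obtain ⟨x, rfl⟩ := hsurj a
      exact ⟨x, by rw [hτ, hmk]; rfl⟩, hcen, hperf ▸ le_top⟩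
  -- the order of the kernel
  have hcard : Nat.card τ.ker = 12 := by
    let g : τ.ker →* Cfsg.SU 6 F 2 := (covProj e).comp τ.ker.subtype
    have hgr : g.range = Subgroup.center (Cfsg.SU 6 F 2) := by
      refine le_antisymm (by rintro _ ⟨x, rfl⟩; exact (hker _).1 x.2) fun c hc => ?_
      obtain ⟨x, rfl⟩ := hsurj c
      exact ⟨⟨x, (hker x).2 hc⟩, rfl⟩
    have hgk : Nat.card g.ker = 4 := by
      rw [← natCard_ker_covProj e hF]
      exact Nat.card_congr
        { toFun := fun x => ⟨x.1.1, x.2⟩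
          invFun := fun x => ⟨⟨x.1, (hker _).2 (by rw [MonoidHom.mem_ker.1 x.2]; exact one_mem _)⟩, x.2⟩
          left_inv := fun _ => rfl
          right_inv := fun _ => rfl }
    have := g.ker.card_mul_index
    rw [Subgroup.index_ker, hgr, hgk, card_center_SU hF (by norm_num)] at this
    norm_num at this
    exact this.symm
  -- the kernel is three by a four-group
  obtain ⟨ζ, hζ⟩ := exists_prime_orderOf_dvd_card' (G := τ.ker) 3 (by rw [hcard]; norm_num)
  let fl : Fin 4 → τ.ker := fun d => ⟨covFlip e d, (hker _).2 (by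
    rw [show covProj e (covFlip e d) = 1 from rfl]; exact one_mem _)⟩
  have hfl : ∀ a b, fl a * fl b = fl (xb b a) := fun a b => Subtype.ext (covFlip_mul e a b)
  let m : ZMod 2 × ZMod 2 → Fin 4 := fun r => ⟨(r.1.val + 2 * r.2.val) % 4, Nat.mod_lt _ (by norm_num)⟩
  have hm : ∀ u v, m (u + v) = xb (m v) (m u) := by decide +kernel
  have hminj : ∀ u v, m u = m v → u = v := by decide +kernel
  have hζc : ∀ x : τ.ker, Commute ζ x := fun x => Subtype.ext (Subgroup.mem_center_iff.1 (hcen x.2) ζ.1)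
  let φ : Multiplicative (ZMod 3 × ZMod 2 × ZMod 2) →* τ.ker :=
    MonoidHom.mk' (fun r => ζ ^ r.toAdd.1.val * fl (m r.toAdd.2)) fun a b => by
      have h1 : ζ ^ (a.toAdd.1 + b.toAdd.1).val = ζ ^ a.toAdd.1.val * ζ ^ b.toAdd.1.val := by
        rw [← pow_add, ZMod.val_add]
        exact (pow_eq_pow_mod _ (by rw [← hζ]; exact pow_orderOf_eq_one ζ)).symm
      show ζ ^ (a.toAdd.1 + b.toAdd.1).val * fl (m (a.toAdd.2 + b.toAdd.2)) = _
      rw [h1, hm, ← hfl, mul_assoc, ← mul_assoc (ζ ^ b.toAdd.1.val),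
        ((hζc (fl (m a.toAdd.2))).pow_left _).eq]
      simp only [mul_assoc]
  have hφ : Function.Bijective φ := by
    refine (Nat.bijective_iff_injective_and_card φ).2 ⟨(injective_iff_map_eq_one φ).2 fun r hr => ?_, ?_⟩
    · have h1 : ζ ^ r.toAdd.1.val * fl (m r.toAdd.2) = 1 := hr
      have hsq : ∀ d, fl d * fl d = 1 := fun d => by
        rw [hfl, (xb_facts d d d).2.2.2.2]
        exact Subtype.ext (covFlip_zero e)
      have h2 : ζ ^ (2 * r.toAdd.1.val) = 1 := by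
        have h3 := eq_inv_of_mul_eq_one_left h1
        rw [two_mul, pow_add, h3, ← _root_.mul_inv_rev, hsq, inv_one]
      have h0 : r.toAdd.1.val = 0 := by
        have := orderOf_dvd_of_pow_eq_one h2
        rw [hζ] at this
        have hlt := ZMod.val_lt r.toAdd.1
        omega
      rw [h0, pow_zero, one_mul] at h1
      have h4 : m r.toAdd.2 = m 0 := by
        refine covFlip_injective e ((congrArg Subtype.val h1).trans ?_)
        exact (covFlip_zero e).symm
      refine Multiplicative.toAdd.injective (Prod.ext ((ZMod.val_eq_zero _).1 h0) (hminj _ _ h4))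
    · rw [hcard, Nat.card_congr Multiplicative.toAdd, Nat.card_prod, Nat.card_prod, Nat.card_zmod, Nat.card_zmod]
  -- comparison with the multiplier
  haveI : Finite (Cfsg.PSU 6 F 2) := Quotient.finite _
  obtain ⟨Δ, _, _, η, c, hη, -, -, -, ⟨e1⟩⟩ := CfsgLib.Schur.exists_cover (Cfsg.PSU 6 F 2)
  obtain ⟨π, hπ⟩ := CfsgLib.Schur.exists_mult_surjective τ hs
  haveI : Finite (CfsgLib.Schur.Mult (Cfsg.PSU 6 F 2)) := Finite.of_equiv _ e1.toEquiv
  have hle : Nat.card (CfsgLib.Schur.Mult (Cfsg.PSU 6 F 2)) ≤ 12 := by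
    rw [← Nat.card_congr e1.toEquiv]
    exact natCard_stem_ker_le e hF h hη
  have hπb : Function.Bijective π := (Nat.bijective_iff_surjective_and_card π).2
    ⟨hπ, le_antisymm (hle.trans hcard.ge) (Nat.card_le_card_of_surjective _ hπ)⟩
  exact CfsgLib.Schur.hasSchurMultiplier_iff.2
    ⟨(MulEquiv.ofBijective φ hφ).trans (MulEquiv.ofBijective π hπb).symm⟩

theorem hasSchurMultiplier {F : Type u} [Field F] [Fintype F] (hF : Fintype.card F = 4) :
    Cfsg.HasSchurMultiplier (Cfsg.PSU 6 F 2) (Multiplicative (ZMod 3 × ZMod 2 × ZMod 2)) := by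
  have hF' : Nat.card F = 2 ^ 2 := by rw [Nat.card_eq_fintype_card, hF]; norm_num
  obtain ⟨σ, hσ⟩ := exists_uFrob hF'
  exact hasSchurMultiplier' hF' hσ
    (FiniteField.ringEquivOfCardEq (K := QField) (K' := F) (by rw [hF]; rfl)).toRingHom

end CfsgLib.KnownB.U62Mult
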