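import Mathlib.GroupTheory.PGroup

/-!
Subgroups generated by commuting involutions given as lists.
-/

set_option autoImplicit false

namespace CfsgLib.KnownB.U62Mult

variable {α β : Type*}

/-- the sublist selected by the bits of a number -/
def sel : List α → ℕ → List α
  | [], _ => []
  | a :: r, m => if m % 2 = 1 then a :: sel r (m / 2) else sel r (m / 2)

theorem sel_map (f : α → β) : ∀ (l : List α) (m : ℕ), sel (l.map f) m = (sel l m).map f
  | [], _ => rfl
  | a :: r, m => by
    simp only [List.map_cons, sel, sel_map f r]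
    split_ifs <;> simp

theorem sel_subset : ∀ (l : List α) (m : ℕ), ∀ x ∈ sel l m, x ∈ l
  | [], _, x, hx => hx
  | a :: r, m, x, hx => by
    simp only [sel] at hx
    split_ifs at hx
    · rcases List.mem_cons.1 hx with rfl | hx
      · exact List.mem_cons_self
      · exact List.mem_cons_of_mem _ (sel_subset r _ x hx)
    · exact List.mem_cons_of_mem _ (sel_subset r _ x hx)

variable {G : Type*} [Group G]

/-- pairwise commuting involutions -/
def InvComm (l : List G) : Prop := (∀ a ∈ l, a * a = 1) ∧ ∀ a ∈ l, ∀ b ∈ l, Commute a b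

theorem InvComm.tail {a : G} {r : List G} (h : InvComm (a :: r)) : InvComm r :=
  ⟨fun x hx => h.1 x (List.mem_cons_of_mem _ hx),
    fun x hx y hy => h.2 x (List.mem_cons_of_mem _ hx) y (List.mem_cons_of_mem _ hy)⟩

theorem InvComm.commute_prod {a : G} {r : List G} (h : InvComm (a :: r)) (m : ℕ) :
    Commute a (sel r m).prod :=
  Commute.list_prod_right (sel r m) a fun b hb => h.2 a List.mem_cons_self b (List.mem_cons_of_mem _ (sel_subset r m b hb))

theorem sel_mul : ∀ {l : List G}, InvComm l → ∀ m n : ℕ,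
    ∃ k < 2 ^ l.length, (sel l m).prod * (sel l n).prod = (sel l k).prod
  | [], _, _, _ => ⟨0, Nat.one_pos, mul_one 1⟩
  | a :: r, h, m, n => by
    obtain ⟨k, hk, e⟩ := sel_mul h.tail (m / 2) (n / 2)
    have ca := h.commute_prod (m / 2)
    have k2 : 2 ^ (a :: r).length = 2 * 2 ^ r.length := by rw [List.length_cons, pow_succ']
    have e0 : sel (a :: r) (2 * k) = sel r k := by
      simp only [sel]
      rw [if_neg (by omega), show 2 * k / 2 = k by omega]
    have e1 : sel (a :: r) (2 * k + 1) = a :: sel r k := by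
      simp only [sel]
      rw [if_pos (by omega), show (2 * k + 1) / 2 = k by omega]
    simp only [sel] at e0 e1 ⊢
    by_cases hm : m % 2 = 1 <;> by_cases hn : n % 2 = 1 <;> simp only [hm, hn, if_true, if_false, List.prod_cons]
    · refine ⟨2 * k, by omega, ?_⟩
      rw [e0, ← e]
      calc a * (sel r (m / 2)).prod * (a * (sel r (n / 2)).prod)
          = a * ((sel r (m / 2)).prod * a) * (sel r (n / 2)).prod := by simp only [mul_assoc]
        _ = a * a * ((sel r (m / 2)).prod * (sel r (n / 2)).prod) := by rw [← ca.eq]; simp only [mul_assoc]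
        _ = _ := by rw [h.1 a List.mem_cons_self, one_mul]
    · refine ⟨2 * k + 1, by omega, ?_⟩
      rw [e1, List.prod_cons, ← e, mul_assoc]
    · refine ⟨2 * k + 1, by omega, ?_⟩
      rw [e1, List.prod_cons, ← e, ← mul_assoc, ← ca.eq, mul_assoc]
    · exact ⟨2 * k, by omega, by rw [e0, e]⟩

theorem sel_zero : ∀ l : List α, sel l 0 = []
  | [] => rfl
  | a :: r => by simp only [sel]; rw [if_neg (by omega), Nat.zero_div, sel_zero r]

theorem sel_sq : ∀ {l : List G}, InvComm l → ∀ m : ℕ, (sel l m).prod * (sel l m).prod = 1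
  | [], _, _ => mul_one 1
  | a :: r, h, m => by
    have ca := h.commute_prod (m / 2)
    simp only [sel]
    split_ifs
    · rw [List.prod_cons, ← pow_two, ca.mul_pow, pow_two, pow_two, h.1 a List.mem_cons_self,
        sel_sq h.tail, one_mul]
    · exact sel_sq h.tail _

theorem mem_sel : ∀ {l : List G}, ∀ x ∈ l, ∃ m, (sel l m).prod = x
  | a :: r, x, hx => by
    rcases List.mem_cons.1 hx with rfl | hx
    · exact ⟨1, by simp [sel, sel_zero]⟩
    · obtain ⟨m, hm⟩ := mem_sel x hx
      refine ⟨2 * m, ?_⟩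
      simp only [sel]
      rw [if_neg (by omega), show 2 * m / 2 = m by omega, hm]

/-- The subgroup consists of the products of sublists. -/
theorem mem_closure_list {l : List G} (h : InvComm l) {x : G} (hx : x ∈ Subgroup.closure {a | a ∈ l}) :
    ∃ k < 2 ^ l.length, x = (sel l k).prod := by
  have hlt : ∀ m, ∃ k < 2 ^ l.length, (sel l m).prod = (sel l k).prod := fun m => by
    obtain ⟨k, hk, e⟩ := sel_mul h m 0
    exact ⟨k, hk, by rw [← e, sel_zero, List.prod_nil, mul_one]⟩
  induction hx using Subgroup.closure_induction with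
  | mem y hy =>
    obtain ⟨m, hm⟩ := mem_sel y hy
    obtain ⟨k, hk, e⟩ := hlt m
    exact ⟨k, hk, by rw [← hm, e]⟩
  | one => exact ⟨0, Nat.two_pow_pos _, by rw [sel_zero, List.prod_nil]⟩
  | mul y z _ _ hy hz =>
    obtain ⟨m, -, rfl⟩ := hy
    obtain ⟨n, -, rfl⟩ := hz
    obtain ⟨k, hk, e⟩ := sel_mul h m n
    exact ⟨k, hk, e⟩
  | inv y _ hy =>
    obtain ⟨m, hm, rfl⟩ := hy
    exact ⟨m, hm, inv_eq_of_mul_eq_one_right (sel_sq h m)⟩

theorem sel_prod_mem {l : List G} (m : ℕ) : (sel l m).prod ∈ Subgroup.closure {a | a ∈ l} :=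
  list_prod_mem fun x hx => Subgroup.subset_closure (sel_subset l m x hx)

theorem natCard_closure_le [Finite G] {l : List G} (h : InvComm l) :
    Nat.card (Subgroup.closure {a | a ∈ l}) ≤ 2 ^ l.length := by
  refine le_trans (Nat.card_le_card_of_surjective
    (fun k : Fin (2 ^ l.length) => (⟨(sel l k).prod, sel_prod_mem k.1⟩ : Subgroup.closure {a | a ∈ l}))
    fun x => ?_) (le_of_eq (Nat.card_fin _))
  obtain ⟨k, hk, e⟩ := mem_closure_list h x.2
  exact ⟨⟨k, hk⟩, Subtype.ext e.symm⟩

theorem isPGroup_closure {l : List G} (h : InvComm l) : IsPGroup 2 (Subgroup.closure {a | a ∈ l}) := by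
  rintro ⟨x, hx⟩
  obtain ⟨k, -, rfl⟩ := mem_closure_list h hx
  exact ⟨1, Subtype.ext (by rw [Subgroup.coe_pow, pow_one, pow_two, sel_sq h]; rfl)⟩

end CfsgLib.KnownB.U62Mult
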