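import Cfsg.Agent.Lib.MultSU.Small

/-!
The multiplier of `SU 6` over four elements away from the characteristic.
-/

set_option autoImplicit false

namespace CfsgLib.KnownB.U62Mult

open Matrix CfsgLib.Classical CfsgLib.Classical.Unitary CfsgLib.MinIdx.Un CfsgLib.MultSU
open scoped commutatorElement

universe u

variable {F : Type u} [Field F] {σ : F →+* F} {q : ℕ} [Finite F]

theorem cycle_six : (Equiv.swap (1 : Fin 6) 2 * Equiv.swap 0 1) ^ 3 = 1 ∧
    Equiv.swap (1 : Fin 6) 2 * Equiv.swap 0 1 ≠ 1 ∧ (Equiv.swap (4 : Fin 6) 5 * Equiv.swap 3 4) ^ 3 = 1 := by decide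

theorem card_SU_six_two (hF : Nat.card F = q ^ 2) (hq : q = 2) :
    Nat.card (Cfsg.SU 6 F q) = 2187 * (32768 * 385) := by
  rw [card_SU_succ hF (by norm_num : 1 ≤ 5), card_SU_five_two hF hq, hq, fac]
  norm_num [show ¬ Even 5 by decide]

/-- The prime three. -/
theorem noMult_six_three (hF : Nat.card F = q ^ 2) (h : UFrob σ q) (hq : q = 2) [Fact (Nat.Prime 3)] :
    NoMult 3 (Cfsg.SU 6 F q) := by
  classical
  have h2 : (3 : ℕ) ≠ 2 := by norm_num
  have hrq : ¬ 3 ∣ q := by rw [hq]; norm_num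
  obtain ⟨c, hc⟩ : ∃ c : Cfsg.SU 6 F q, c = sw hF (show (0 : Fin 6) ≠ 1 by decide) *
      sw hF (show (1 : Fin 6) ≠ 2 by decide) := ⟨_, rfl⟩
  obtain ⟨d, hd⟩ : ∃ d : Cfsg.SU 6 F q, d = sw hF (show (3 : Fin 6) ≠ 4 by decide) *
      sw hF (show (4 : Fin 6) ≠ 5 by decide) := ⟨_, rfl⟩
  have hmon := hc ▸ (sw_mon hF (show (0 : Fin 6) ≠ 1 by decide)).mul (sw_mon hF (show (1 : Fin 6) ≠ 2 by decide))
  have hmon' := hd ▸ (sw_mon hF (show (3 : Fin 6) ≠ 4 by decide)).mul (sw_mon hF (show (4 : Fin 6) ≠ 5 by decide))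
  obtain ⟨p, hp⟩ : ∃ p, p = Equiv.swap (1 : Fin 6) 2 * Equiv.swap 0 1 := ⟨_, rfl⟩
  obtain ⟨p', hp'⟩ : ∃ p', p' = Equiv.swap (4 : Fin 6) 5 * Equiv.swap 3 4 := ⟨_, rfl⟩
  have pv : p 1 = 0 ∧ p 2 = 1 ∧ p 3 = 3 ∧ p' 4 = 3 ∧ p' 5 = 4 ∧ p' 3 ≠ 3 := by rw [hp, hp']; decide
  have pfix : ∀ i, p i = i ∨ p' i = i := by rw [hp, hp']; decide
  rw [← hp] at hmon
  rw [← hp'] at hmon'
  have hnorm : ∀ t ∈ tSub 6 F q, c * t * c⁻¹ ∈ tSub 6 F q := fun t ht => hmon.normalizes h ht
  have hnorm' : ∀ t ∈ tSub 6 F q, d * t * d⁻¹ ∈ tSub 6 F q := fun t ht => hmon'.normalizes h ht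
  have hdc : d * c = c * d := by
    have hsw : ∀ {a b e f : Fin 6} (hab : a ≠ b) (hef : e ≠ f), a ≠ e → a ≠ f → b ≠ e → b ≠ f →
        Commute (sw (F := F) hF hab) (sw hF hef) := fun hab hef x1 x2 x3 x4 => by
      obtain ⟨M, hM⟩ := sw_eq_blk hF h hab
      obtain ⟨M', hM'⟩ := sw_eq_blk hF h hef
      rw [hM, hM']
      exact blk_comm h _ _ (fun i l => by fin_cases i <;> fin_cases l <;> simp [x1, x2, x3, x4]) M M'
    rw [hc, hd]
    exact (Commute.mul_left ((hsw _ _ (by decide) (by decide) (by decide) (by decide)).mul_right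
      (hsw _ _ (by decide) (by decide) (by decide) (by decide)))
      ((hsw _ _ (by decide) (by decide) (by decide) (by decide)).mul_right
      (hsw _ _ (by decide) (by decide) (by decide) (by decide)))).eq
  have hdn : d ∉ tSub 6 F q ⊔ Subgroup.zpowers c := fun hm => by
    rw [← SetLike.mem_coe, Subgroup.coe_mul_of_right_le_normalizer_left (tSub 6 F q) _
      (Subgroup.zpowers_le.2 (Subgroup.mem_normalizer_fintype hnorm))] at hm
    obtain ⟨t, ⟨e, he⟩, g, hg, etg⟩ := Set.mem_mul.1 hm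
    obtain ⟨j, rfl⟩ : g ∈ Submonoid.powers c := by rwa [mem_powers_iff_mem_zpowers]
    obtain ⟨d', hd'⟩ := hmon.pow j
    have h1 := he.mul hd'
    rw [mul_one] at h1
    simp only at etg
    rw [etg] at h1
    have h4 : (p ^ j) 3 = 3 := by
      have : ∀ k : ℕ, (p ^ k) 3 = 3 := fun k => by
        induction k with
        | zero => rfl
        | succ k ih => rw [pow_succ, Equiv.Perm.mul_apply, pv.2.2.1, ih]
      exact this j
    rw [← (hmon'.perm_eq h1).1] at h4
    exact pv.2.2.2.2.2 h4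
  have hnd : ∀ g ∈ tSub 6 F q ⊔ Subgroup.zpowers c, d * g * d⁻¹ ∈ tSub 6 F q ⊔ Subgroup.zpowers c := fun g hg => by
    have hle : tSub 6 F q ⊔ Subgroup.zpowers c ≤
        (tSub 6 F q ⊔ Subgroup.zpowers c).comap (MulAut.conj d).toMonoidHom := by
      refine sup_le (fun a ha => Subgroup.mem_sup_left (hnorm' a ha)) (Subgroup.zpowers_le.2 ?_)
      show d * c * d⁻¹ ∈ tSub 6 F q ⊔ Subgroup.zpowers c
      rw [hdc, mul_inv_cancel_right]
      exact Subgroup.mem_sup_right (Subgroup.mem_zpowers c)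
    exact hle hg
  refine NoMult.of_subgroup (tSub 6 F q ⊔ Subgroup.zpowers c ⊔ Subgroup.zpowers d) (index_not_dvd _ (c := 2187)
    (i := 32768 * 385) ?_ ?_ (by norm_num)) fun Γ _ _ π hπ hpr => ?_
  · rw [card_extend_prime _ _ Nat.prime_three hnd (Subgroup.mem_sup_left (hmon'.pow_mem_tSub
        (hp' ▸ cycle_six.2.2))) hdn,
      card_extend_prime _ _ Nat.prime_three hnorm (hmon.pow_mem_tSub (hp ▸ cycle_six.1))
      (hmon.not_tSub (hp ▸ cycle_six.2.1)), card_tSub hF h 5, hq]; rfl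
  · exact card_SU_six_two hF hq
  · refine abExt hπ _ (tSub_liftComm_odd hF h hπ hpr h2) c d hnorm hnorm' ?_ (fun s hs t ht hst => ?_)
      (fun t ht hct => ?_) (fun t ht hct => ?_)
    · have key : ∀ {a b : Fin 6} (hab : a ≠ b), a ≠ 3 → a ≠ 4 → a ≠ 5 → b ≠ 3 → b ≠ 4 → b ≠ 5 →
          LiftComm π (sw hF hab) d := fun hab a3 a4 a5 b3 b4 b5 => hd ▸ (cLift hπ (sw hF hab)).mul_mem
        (sw_sw hF h hπ hpr hrq hab _ a3 a4 b3 b4) (sw_sw hF h hπ hpr hrq hab _ a4 a5 b4 b5)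
      rw [hc]
      exact ((cLift hπ d).mul_mem
        (key _ (by decide) (by decide) (by decide) (by decide) (by decide) (by decide)).symm
        (key _ (by decide) (by decide) (by decide) (by decide) (by decide) (by decide)).symm).symm
    · obtain ⟨e, he⟩ := hs
      obtain ⟨f, hf⟩ := ht
      obtain ⟨s', hs'⟩ := exists_dg (q := q) (fun i => e (p i)) (fun i => he.norm h _)
        ((Equiv.prod_comp p e).trans he.prod)
      obtain ⟨t', ht'⟩ := exists_dg (q := q) (fun i => f (p' i)) (fun i => hf.norm h _)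
        ((Equiv.prod_comp p' f).trans hf.prod)
      rw [commutatorElement_def, commutatorElement_def, hmon.conj he hs', hmon'.conj hf ht'] at hst
      rw [commutatorElement_def, hmon.conj he hs']
      have h1 := (hs'.mul_diag he.inv_diag).mul_diag (ht'.mul_diag hf.inv_diag)
      rw [hst] at h1
      refine (hs'.mul_diag he.inv_diag).ext ?_
      convert IsMon.one (n := 6) (F := F) (q := q) using 1
      funext i
      have h2 := congrFun (h1.perm_eq IsMon.one).2 i
      rcases pfix i with hi | hi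
      · rw [hi, mul_inv_cancel₀ (he.2 i)]
      · rwa [hi, mul_inv_cancel₀ (hf.2 i), mul_one] at h2
    · obtain ⟨e, he⟩ := ht
      have hfix := hmon.commute_fix he hct
      have e1 := hfix 1
      have e2 := hfix 2
      rw [pv.1] at e1
      rw [pv.2.1] at e2
      rw [hc]
      exact ((cLift hπ t).mul_mem (diag_sw hF h hπ hpr hrq he _ e1) (diag_sw hF h hπ hpr hrq he _ e2)).symm
    · obtain ⟨e, he⟩ := ht
      have hfix := hmon'.commute_fix he hct
      have e1 := hfix 4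
      have e2 := hfix 5
      rw [pv.2.2.2.1] at e1
      rw [pv.2.2.2.2.1] at e2
      rw [hd]
      exact ((cLift hπ t).mul_mem (diag_sw hF h hπ hpr hrq he _ e1) (diag_sw hF h hπ hpr hrq he _ e2)).symm

/-- The primes from five on. -/
theorem noMult_six_big (hF : Nat.card F = q ^ 2) (hq : q = 2) {r : ℕ} [hr : Fact r.Prime] (h2 : r ≠ 2)
    (h3 : r ≠ 3) : NoMult r (Cfsg.SU 6 F q) := by
  refine noMult_of_sq ?_
  rw [card_SU_six_two hF hq, show (2187 : ℕ) = 3 ^ 7 by norm_num, show (32768 : ℕ) = 2 ^ 15 by norm_num]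
  refine not_sq_dvd hr.out ?_ _ _ h2 h3
  rw [show (385 : ℕ) = 5 * (7 * 11) by norm_num, Nat.squarefree_mul (by norm_num),
    Nat.squarefree_mul (by norm_num)]
  exact ⟨(show Nat.Prime 5 by norm_num).squarefree, (show Nat.Prime 7 by norm_num).squarefree,
    (show Nat.Prime 11 by norm_num).squarefree⟩

end CfsgLib.KnownB.U62Mult
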