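/-!
Tries of numbers indexed by the bits of a number.
-/

set_option autoImplicit false

namespace CfsgLib.KnownB.U62Mult

/-- a trie -/
inductive Trie where
  | lf (n : Nat)
  | nd (l r : Trie)

/-- lookup -/
noncomputable def Trie.get (t : Trie) : Nat → Nat :=
  Trie.rec (motive := fun _ => Nat → Nat) (fun n _ => n)
    (fun _ _ gl gr i => cond (Nat.beq (i % 2) 0) (gl (i / 2)) (gr (i / 2))) t

/-- evaluate a number before use -/
noncomputable def forceN {α : Type} (n : Nat) (k : Nat → α) : α :=
  Nat.rec (motive := fun _ => α) (k 0) (fun m _ => k (m + 1)) n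

theorem forceN_eq {α : Type} (n : Nat) (k : Nat → α) : forceN n k = k n := by
  cases n <;> rfl

end CfsgLib.KnownB.U62Mult
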