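import Mathlib.Data.List.Basic

/-! Tables for the two-part of the multiplier of `PSU₆(2)`. -/

set_option autoImplicit false

namespace CfsgLib.KnownB.U62Mult

/-- points of a totally isotropic plane -/
def plane0 : List ℕ :=
  [5, 80, 85, 165, 245, 1280, 1285, 1360, 1365, 1445, 1525, 2565, 2640, 2645, 2725, 2805, 3845, 3920, 3925, 4005, 4085]

/-- their images in a second plane -/
def plane1 : List ℕ :=
  [5, 149, 117, 229, 144, 2309, 1797, 2448, 3813, 1936, 2421, 3589, 2021, 3728, 1909, 2533, 2304, 3701, 1941, 3733, 2453]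

/-- their images in a third plane -/
def plane2 : List ℕ :=
  [5, 80, 85, 165, 245, 2309, 1797, 2549, 1957, 2037, 1877, 3589, 2469, 3829, 3669, 3749, 2304, 2389, 2384, 1872, 3664]

/-- a word moving the first plane to the second -/
def toPlane1 : List ℕ :=
  [1541, 101]

/-- a word moving the first plane to the third -/
def toPlane2 : List ℕ :=
  [1541]

/-- words moving the base point over the plane -/
def movers0 : List (List ℕ) :=
  [[], [5, 144, 229, 80, 9, 249], [80, 9, 249], [80, 9, 89], [80, 9, 89, 80, 9, 249], [5, 2304, 3589, 1280, 9, 3849], [1280, 9, 3849], [1280, 144, 3984, 5, 144, 229, 80, 9, 249], [1280, 9, 3849, 80, 9, 249], [1280, 9, 3849, 80, 9, 89], [1280, 9, 3849, 80, 9, 89, 80, 9, 249], [1280, 9, 1289], [1280, 144, 1424, 5, 144, 229, 80, 9, 249], [1280, 9, 1289, 80, 9, 249], [1280, 9, 1289, 80, 9, 89], [80, 2304, 2384, 1280, 9, 1289], [1280, 9, 1289, 1280, 9, 3849], [5, 2304, 3589, 1280, 9, 3849, 80, 9, 89], [1280, 9, 1289, 1280, 9, 3849, 80, 9, 249], [1280, 144, 1424, 80, 9, 89], [1280, 144,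 3984, 80, 9, 89, 80, 9, 249]]

/-- words fixing the base point -/
def fixers : List (ℕ × List ℕ) :=
  [(80, []), (85, [213, 101]), (117, [213]), (144, [208]), (149, [101]), (165, [181, 101]), (229, [181]), (245, [208, 101]), (1280, [1088, 272]), (1285, [1093, 272]), (1360, [3941, 101]), (1365, [2773, 101]), (1445, [4021, 101]), (1525, [4048, 101]), (1797, [1221, 272]), (1872, [3685, 101]), (1877, [2517, 101]), (1909, [2005]), (1936, [3792]), (1941, [1893]), (1957, [3765, 101]), (2021, [1973]), (2037, [3792, 101]), (2304, [2112, 272]), (2309, [2117, 272]), (2384, [1893, 101]), (2389, [3797, 101]), (2421, [2517]), (2448, [2000]), (2453, [2405]), (2469, [1973, 101]), (2533, [2485]), (2549, [2000, 101]), (2565, [2181, 272]), (2640, [1381, 101]), (2645, [4053, 101]), (2725, [1461, 101]), (2805, [1488, 101]), (3589, [3205, 272]), (3664, [2405, 101]), (3669, [2005, 101]), (3701, [3797]), (3728, [2512]), (3733, [3685]), (3749, [2485, 101]), (3813, [3765]), (3829, [2512, 101]), (3845, [3269, 272]), (3920, [2661, 101]),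 (3925, [1493, 101]), (4005, [2741, 101]), (4085, [2768, 101])]

/-- a line off the base point -/
def line0 : List ℕ :=
  [80, 1280, 1360, 2640, 3920]

/-- images of the line, the last point new, with their words -/
def lineSteps : List (List ℕ × List ℕ) :=
  [([165, 3845, 1365, 2640, 2805], [5, 2304, 2309, 5, 144, 149, 5, 144, 229]), ([165, 1280, 2725, 4005, 1445], [5, 144, 149, 5, 144, 229]), ([4005, 1285, 2805, 85, 1360], [5, 2304, 3589, 1280, 9, 1289, 5, 144, 229]), ([85, 1445, 2640, 4085, 2565], [80, 2304, 2384, 5, 2304, 3589, 5, 144, 229]), ([1285, 1280, 3845, 2565, 5], [1280, 9, 3849, 80, 9, 89, 5, 144, 149, 5, 144, 229]), ([165, 1285, 4085, 2645, 3920], [5, 2304, 3589, 5, 144, 149, 5, 144, 229]), ([5, 3920, 1445, 2805, 3925], [80, 9, 249, 80, 2304, 2384, 5, 144, 229]), ([2645, 3845, 1360, 1445, 245], [1280, 9, 1289, 5, 2304, 3589, 5, 144, 229]), ([165, 1360, 2565, 3925, 1525], [80, 2304, 3664, 5, 144, 149, 5, 144, 229]), ([1525, 1445, 1285, 1365, 80], [5, 2304, 3589, 1280, 144, 1424, 80, 2304, 3664])]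

/-- eleven points generating the plane -/
def spanPts : List ℕ :=
  [85, 2725, 1285, 1365, 3845, 1280, 2640, 165, 4005, 4085, 2645]

/-- nine independent points -/
def basPts : List ℕ :=
  [5, 80, 85, 165, 1280, 1285, 1360, 1445, 2565]

/-- coordinates -/
def uMasks : List ℕ :=
  [2214608900, 1074020352, 49152, 2147516416, 18320719872, 2348810240, 1073741824, 2147483648, 134217728]

/-- words of root involutions -/
def rootWords : List (List ℕ) :=
  [[5, 144, 229], [5, 144, 149], [5, 2304, 3589], [5, 2304, 2309], [80, 2304, 3664], [80, 2304, 2384]]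

/-- conjugates of root involutions -/
def rootConj : List (List ℕ) :=
  [[5, 10, 4, 8], [9, 14, 4, 8]]

end CfsgLib.KnownB.U62Mult
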