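import Cfsg.Agent.Lib.KnownB.U62Mult.Basics
import Cfsg.Agent.Lib.KnownB.U62Mult.TwoData
import Cfsg.Agent.Lib.KnownB.U62Mult.Sel
import Cfsg.Agent.Lib.KnownB.U62Mult.ThreePart

/-!
A Sylow two-subgroup of `SU₆(2)` made of transvections of three totally isotropic planes.
-/

set_option autoImplicit false
set_option maxRecDepth 20000

namespace CfsgLib.KnownB.U62Mult

open Matrix CfsgLib.Classical CfsgLib.Classical.Unitary CfsgLib.Spor CfsgLib.MultSU

universe u

/-- maps the first list into the second -/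
def carries (w l l' : List ℕ) : Bool := l.all fun p => l'.any fun q => moves w p q

/-- pairwise orthogonal isotropic codes below `4096` -/
def isoSpan (l : List ℕ) : Bool :=
  l.all fun p => Nat.blt p 4096 && l.all fun q => Nat.beq (hm p q) 0

/-- the word of a sublist of root words -/
def rootSel (l : List (List ℕ)) (m : ℕ) : List ℕ := (sel l m).flatten

/-- a key of an element of the first factor -/
def uKey (w : List ℕ) : ℕ :=
  (appW w 14 % 4096) + 4096 * (appW w 224 % 4096) + 16777216 * (appW w 3584 % 4096)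

/-- a key of the action on the plane -/
def yKey (w : List ℕ) : ℕ :=
  (appW w 5 % 4096) + 4096 * (appW w 80 % 4096) + 16777216 * (appW w 1280 % 4096)

/-- different numbers -/
def distinct : List ℕ → Bool
  | [] => true
  | a :: r => r.all (fun b => !Nat.beq a b) && distinct r

/-- parity of the bits -/
def par64 (x : ℕ) : ℕ :=
  let a := x ^^^ (x >>> 32)
  let b := a ^^^ (a >>> 16)
  let c := b ^^^ (b >>> 8)
  let d := c ^^^ (c >>> 4)
  let f := d ^^^ (d >>> 2)
  (f ^^^ (f >>> 1)) % 2

/-- coordinates recovered from a key -/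
def uCoord (k : ℕ) : ℕ :=
  let x := k ^^^ uKey []
  uMasks.foldr (fun m r => par64 (x &&& m) + 2 * r) 0

theorem planes_ok : isoSpan plane0 = true ∧ isoSpan plane1 = true ∧ isoSpan plane2 = true := by
  refine ⟨?_, ?_, ?_⟩ <;> decide +kernel

theorem root_ok : (rootWords.all isoW) = true ∧
    (rootWords.all fun w => carries w plane0 plane0) = true ∧
    ((rootWords.take 4).all fun w => w.all fun p => plane1.any (Nat.beq p)) = true ∧
    ((rootWords.drop 2).all fun w => w.all fun p => plane2.any (Nat.beq p)) = true ∧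
    ((rootWords.drop 4).all fun w => carries w plane1 plane1) = true := by
  refine ⟨?_, ?_, ?_, ?_, ?_⟩ <;> decide +kernel

theorem conj_ok : ((List.range 2).all fun i => (List.range 4).all fun j =>
    let m := (rootConj.getD i []).getD j 0
    eqW ((rootWords.drop 4).getD i [] ++ (rootWords.take 4).getD j [] ++ (rootWords.drop 4).getD i [])
      (rootSel (rootWords.take 4) m) && isoW (rootSel (rootWords.take 4) m)) = true ∧
    (rootWords.all fun w => eqW (w ++ w) []) = true := by
  refine ⟨?_, ?_⟩ <;> decide +kernel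

theorem bas_ok : (basPts.all fun p => plane0.any (Nat.beq p)) = true ∧
    ((List.range 512).all fun i => Nat.beq (uCoord (uKey (sel basPts i))) i) = true := by
  refine ⟨?_, ?_⟩ <;> decide +kernel

theorem root_keys : distinct ((List.range 64).map fun j =>
    yKey (rootSel (rootWords.take 4) (j % 16) ++ rootSel (rootWords.drop 4) (j / 16))) = true := by
  decide +kernel

theorem fix_ok : (plane0.all fun p => [5, 80, 1280].all fun b => Nat.beq (app p b % 4096) b) = true := by
  decide +kernel

theorem distinct_nodup : ∀ {l : List ℕ}, distinct l = true → l.Nodup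
  | [], _ => List.nodup_nil
  | a :: r, h => by
    simp only [distinct, Bool.and_eq_true, List.all_eq_true, Bool.not_eq_true'] at h
    refine List.nodup_cons.2 ⟨fun hm => ?_, distinct_nodup h.2⟩
    have := h.1 a hm
    rw [← Bool.not_eq_true, Nat.beq_eq] at this
    exact this rfl

theorem isoSpan_spec {l : List ℕ} (h : isoSpan l = true) {p : ℕ} (hp : p ∈ l) :
    hm p p % 4 = 0 ∧ p < 4096 ∧ ∀ q ∈ l, hm p q % 4 = 0 := by
  simp only [isoSpan, List.all_eq_true, Bool.and_eq_true, Nat.beq_eq] at h
  obtain ⟨h1, h2⟩ := h p hp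
  exact ⟨by rw [h2 p hp], Nat.le_of_ble_eq_true h1, fun q hq => by rw [h2 q hq]⟩

theorem isoW_of_mem {l : List ℕ} (h : isoSpan l = true) {w : List ℕ} (hw : ∀ p ∈ w, p ∈ l) :
    isoW w = true := by
  simp only [isoW, List.all_eq_true, Nat.beq_eq]
  intro p hp
  simp only [isoSpan, List.all_eq_true, Bool.and_eq_true, Nat.beq_eq] at h
  exact (h p (hw p hp)).2 p (hw p hp)

theorem moves_self_iff {w : List ℕ} {x y : ℕ} (h : carries w [x] [y] = true) : moves w x y = true := by
  simpa [carries] using h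

variable {F : Type u} [Field F] (e : QField →+* F) {σ : F →+* F} [Finite F] (hF : Nat.card F = 2 ^ 2)
  (h : UFrob σ 2)

theorem tv_comm {p q : ℕ} (hp : hm p p % 4 = 0) (hq : hm q q % 4 = 0) (hqp : hm q p % 4 = 0) :
    Commute (tv e hF h p) (tv e hF h q) := by
  have := conj_tv e hF h hq hq (g := tv e hF h p) (c := 1) one_ne_zero (by
    rw [tv_mulVec e hF h hp, (uh_vec_zero e h).2 hqp, zero_smul, add_zero, one_smul])
  exact mul_inv_eq_iff_eq_mul.1 this

theorem conj_of_carries {w l l' : List ℕ} (hw : isoW w = true) (hl : isoSpan l = true) (hl' : isoSpan l' = true)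
    (hc : carries w l l' = true) {p : ℕ} (hp : p ∈ l) :
    ∃ q ∈ l', gW e hF h w * tv e hF h p * (gW e hF h w)⁻¹ = tv e hF h q := by
  simp only [carries, List.all_eq_true, List.any_eq_true] at hc
  obtain ⟨q, hq, hm'⟩ := hc p hp
  obtain ⟨c, hc0, e1⟩ := moves_spec e hF h hw hm'
  exact ⟨q, hq, conj_tv e hF h (isoSpan_spec hl hp).1 (isoSpan_spec hl' hq).1 hc0 e1⟩

/-- the group of a plane -/
def planeGrp (l : List ℕ) : Subgroup (Cfsg.SU 6 F 2) := Subgroup.closure {a | a ∈ l.map (tv e hF h)}

/-- the group of some root words -/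
def rootGrp (ws : List (List ℕ)) : Subgroup (Cfsg.SU 6 F 2) :=
  Subgroup.closure {a | a ∈ ws.map (gW e hF h)}

theorem invComm_plane {l : List ℕ} (hl : isoSpan l = true) : InvComm (l.map (tv e hF h)) := by
  refine ⟨fun a ha => ?_, fun a ha b hb => ?_⟩
  · obtain ⟨p, hp, rfl⟩ := List.mem_map.1 ha
    exact tv_sq e hF h (isoSpan_spec hl hp).1
  · obtain ⟨p, hp, rfl⟩ := List.mem_map.1 ha
    obtain ⟨q, hq, rfl⟩ := List.mem_map.1 hb
    exact tv_comm e hF h (isoSpan_spec hl hp).1 (isoSpan_spec hl hq).1 ((isoSpan_spec hl hq).2.2 p hp)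

theorem gW_mem_plane {l w : List ℕ} (hw : ∀ p ∈ w, p ∈ l) : gW e hF h w ∈ planeGrp e hF h l :=
  list_prod_mem fun x hx => by
    obtain ⟨p, hp, rfl⟩ := List.mem_map.1 hx
    exact Subgroup.subset_closure (List.mem_map_of_mem (hw p hp))

theorem rootGrp_le {ws : List (List ℕ)} {l : List ℕ} (hw : (ws.all fun w => w.all fun p => l.any (Nat.beq p)) = true) :
    rootGrp e hF h ws ≤ planeGrp e hF h l := by
  refine (Subgroup.closure_le _).2 fun a ha => ?_
  obtain ⟨w, hwm, rfl⟩ := List.mem_map.1 ha
  refine gW_mem_plane e hF h fun p hp => ?_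
  simp only [List.all_eq_true, List.any_eq_true, Nat.beq_eq] at hw
  obtain ⟨q, hq, rfl⟩ := hw w hwm p hp
  exact hq

theorem gW_flatten : ∀ ws : List (List ℕ), gW e hF h ws.flatten = (ws.map (gW e hF h)).prod
  | [] => rfl
  | w :: r => by rw [List.flatten_cons, gW_append, gW_flatten r, List.map_cons, List.prod_cons]

theorem gW_rootSel (ws : List (List ℕ)) (m : ℕ) :
    gW e hF h (rootSel ws m) = (sel (ws.map (gW e hF h)) m).prod := by
  rw [rootSel, gW_flatten, sel_map]

theorem root_sq {w : List ℕ} (hw : w ∈ rootWords) : gW e hF h w * gW e hF h w = 1 := by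
  have hi := List.all_eq_true.1 root_ok.1 w hw
  rw [← gW_append, gW_eq e hF h (w' := []) (by simp only [isoW, List.all_append]; exact Bool.and_eq_true_iff.2 ⟨hi, hi⟩)
    rfl (List.all_eq_true.1 conj_ok.2 w hw)]
  rfl

theorem root_inv {w : List ℕ} (hw : w ∈ rootWords) : (gW e hF h w)⁻¹ = gW e hF h w :=
  inv_eq_of_mul_eq_one_right (root_sq e hF h hw)

theorem invComm_root {ws : List (List ℕ)} (hsub : ∀ w ∈ ws, w ∈ rootWords) {l : List ℕ}
    (hl : isoSpan l = true) (hw : (ws.all fun w => w.all fun p => l.any (Nat.beq p)) = true) :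
    InvComm (ws.map (gW e hF h)) := by
  refine ⟨fun a ha => ?_, fun a ha b hb => ?_⟩
  · obtain ⟨w, hwm, rfl⟩ := List.mem_map.1 ha
    exact root_sq e hF h (hsub w hwm)
  · obtain ⟨i, -, hi⟩ := mem_closure_list (invComm_plane e hF h hl)
      (rootGrp_le e hF h hw (Subgroup.subset_closure ha))
    obtain ⟨j, -, hj⟩ := mem_closure_list (invComm_plane e hF h hl)
      (rootGrp_le e hF h hw (Subgroup.subset_closure hb))
    rw [hi, hj]
    refine Commute.list_prod_right _ _ fun y hy => Commute.list_prod_left _ _ fun x hx => ?_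
    exact (invComm_plane e hF h hl).2 x (sel_subset _ _ x hx) y (sel_subset _ _ y hy)

theorem invComm_first : InvComm ((rootWords.take 4).map (gW e hF h)) :=
  invComm_root e hF h (fun _ hw => List.mem_of_mem_take hw) planes_ok.2.1 root_ok.2.2.1

theorem invComm_second : InvComm ((rootWords.drop 4).map (gW e hF h)) := by
  refine invComm_root e hF h (fun _ hw => List.mem_of_mem_drop hw) planes_ok.2.2 ?_
  have := root_ok.2.2.2.1
  rw [List.all_eq_true] at this ⊢
  exact fun w hw => this w (by
    rw [show rootWords.drop 4 = (rootWords.drop 2).drop 2 by rw [List.drop_drop]] at hw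
    exact List.mem_of_mem_drop hw)

/-- The Sylow subgroup. -/
def sylGrp : Subgroup (Cfsg.SU 6 F 2) :=
  planeGrp e hF h plane0 ⊔ rootGrp e hF h (rootWords.take 4) ⊔ rootGrp e hF h (rootWords.drop 4)

theorem root_normalizes_plane {w : List ℕ} (hw : w ∈ rootWords) {a : Cfsg.SU 6 F 2}
    (ha : a ∈ planeGrp e hF h plane0) : gW e hF h w * a * (gW e hF h w)⁻¹ ∈ planeGrp e hF h plane0 := by
  have hle : planeGrp e hF h plane0 ≤ (planeGrp e hF h plane0).comap (MulAut.conj (gW e hF h w)).toMonoidHom := by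
    refine (Subgroup.closure_le _).2 fun b hb => ?_
    obtain ⟨p, hp, rfl⟩ := List.mem_map.1 hb
    obtain ⟨q, hq, e1⟩ := conj_of_carries e hF h (List.all_eq_true.1 root_ok.1 w hw) planes_ok.1 planes_ok.1
      (List.all_eq_true.1 root_ok.2.1 w hw) hp
    show gW e hF h w * tv e hF h p * (gW e hF h w)⁻¹ ∈ planeGrp e hF h plane0
    rw [e1]
    exact Subgroup.subset_closure (List.mem_map_of_mem hq)
  exact hle ha

theorem root_conj_root {x y : List ℕ} (hx : x ∈ rootWords.drop 4) (hy : y ∈ rootWords.take 4) :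
    ∃ m, gW e hF h x * gW e hF h y * (gW e hF h x)⁻¹ = gW e hF h (rootSel (rootWords.take 4) m) := by
  obtain ⟨i, hi, rfl⟩ := List.getElem_of_mem hx
  obtain ⟨j, hj, rfl⟩ := List.getElem_of_mem hy
  have h1 := List.all_eq_true.1 (List.all_eq_true.1 conj_ok.1 i (List.mem_range.2 (by simpa [rootWords] using hi))) j
    (List.mem_range.2 (by simpa [rootWords] using hj))
  rw [List.getD_eq_getElem _ _ hi, List.getD_eq_getElem _ _ hj, Bool.and_eq_true] at h1
  have hxw := List.mem_of_mem_drop (List.getElem_mem hi)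
  have hyw := List.mem_of_mem_take (List.getElem_mem hj)
  refine ⟨(rootConj.getD i []).getD j 0, ?_⟩
  rw [root_inv e hF h hxw, ← gW_append, ← gW_append]
  refine gW_eq e hF h ?_ h1.2 h1.1
  simp only [isoW, List.all_append]
  have a := List.all_eq_true.1 root_ok.1 _ hxw
  have b := List.all_eq_true.1 root_ok.1 _ hyw
  exact Bool.and_eq_true_iff.2 ⟨Bool.and_eq_true_iff.2 ⟨a, b⟩, a⟩

theorem first_normalizes : rootGrp e hF h (rootWords.take 4) ≤
    Subgroup.normalizer (planeGrp e hF h plane0 : Set (Cfsg.SU 6 F 2)) := by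
  refine (Subgroup.closure_le _).2 fun a ha => ?_
  obtain ⟨w, hw, rfl⟩ := List.mem_map.1 ha
  exact Subgroup.mem_normalizer_fintype fun b hb => root_normalizes_plane e hF h (List.mem_of_mem_take hw) hb

theorem second_normalizes : rootGrp e hF h (rootWords.drop 4) ≤
    Subgroup.normalizer ((planeGrp e hF h plane0 ⊔ rootGrp e hF h (rootWords.take 4) :
      Subgroup (Cfsg.SU 6 F 2)) : Set (Cfsg.SU 6 F 2)) := by
  refine (Subgroup.closure_le _).2 fun a ha => ?_
  obtain ⟨x, hx, rfl⟩ := List.mem_map.1 ha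
  have hle : planeGrp e hF h plane0 ⊔ rootGrp e hF h (rootWords.take 4) ≤
      (planeGrp e hF h plane0 ⊔ rootGrp e hF h (rootWords.take 4)).comap
        (MulAut.conj (gW e hF h x)).toMonoidHom := by
    refine sup_le (fun b hb => Subgroup.mem_sup_left
      (root_normalizes_plane e hF h (List.mem_of_mem_drop hx) hb)) ((Subgroup.closure_le _).2 fun b hb => ?_)
    obtain ⟨y, hy, rfl⟩ := List.mem_map.1 hb
    obtain ⟨m, hm'⟩ := root_conj_root e hF h hx hy
    show gW e hF h x * gW e hF h y * (gW e hF h x)⁻¹ ∈ planeGrp e hF h plane0 ⊔ rootGrp e hF h (rootWords.take 4)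
    rw [hm', gW_rootSel]
    exact Subgroup.mem_sup_right (sel_prod_mem m)
  exact Subgroup.mem_normalizer_fintype fun b hb => hle hb

theorem sylGrp_isPGroup : IsPGroup 2 (sylGrp e hF h) :=
  (IsPGroup.to_sup_of_normal_left' (isPGroup_closure (invComm_plane e hF h planes_ok.1))
    (isPGroup_closure (invComm_first e hF h)) (first_normalizes e hF h)).to_sup_of_normal_left'
    (isPGroup_closure (invComm_second e hF h)) (second_normalizes e hF h)

theorem gW_key_u {w w' : List ℕ} (hw : isoW w = true) (hw' : isoW w' = true)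
    (hg : gW e hF h w = gW e hF h w') : uKey w = uKey w' ∧ yKey w = yKey w' := by
  have key : ∀ x : ℕ, appW w x % 4096 = appW w' x % 4096 := fun x => by
    rw [← vec_inj e, ← gW_vec e hF h hw, ← gW_vec e hF h hw', hg]
  exact ⟨by rw [uKey, uKey, key, key, key], by rw [yKey, yKey, key, key, key]⟩

theorem plane_fix {a : Cfsg.SU 6 F 2} (ha : a ∈ planeGrp e hF h plane0) {b : ℕ} (hb : b ∈ [5, 80, 1280]) :
    a.1.1 *ᵥ vec e b = vec e b := by
  induction ha using Subgroup.closure_induction with
  | mem y hy =>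
    obtain ⟨p, hp, rfl⟩ := List.mem_map.1 hy
    have h1 := Nat.eq_of_beq_eq_true (List.all_eq_true.1 (List.all_eq_true.1 fix_ok p hp) b hb)
    have hb' : b < 4096 := by simp at hb; rcases hb with rfl | rfl | rfl <;> norm_num
    have h2 := gW_vec e hF h (w := [p]) (isoW_of_mem planes_ok.1 (by simpa using hp)) b
    rw [gW_cons, gW_nil, mul_one] at h2
    rw [h2, vec_inj]
    show app p b % 4096 = b % 4096
    rw [h1, Nat.mod_eq_of_lt hb']
  | one => exact su_one_mulVec _
  | mul y z _ _ hy hz => rw [su_mul_mulVec, hz, hy]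
  | inv y _ hy => conv_lhs => rw [← hy, ← su_mul_mulVec, inv_mul_cancel, su_one_mulVec]

theorem le_natCard_sylGrp : 2 ^ 15 ≤ Nat.card (sylGrp e hF h) := by
  let uw : ℕ → List ℕ := fun i => sel basPts i
  let yw : ℕ → List ℕ := fun j => rootSel (rootWords.take 4) (j % 16) ++ rootSel (rootWords.drop 4) (j / 16)
  have hbas : ∀ p ∈ basPts, p ∈ plane0 := fun p hp => by
    obtain ⟨q, hq, he⟩ := List.any_eq_true.1 (List.all_eq_true.1 bas_ok.1 p hp)
    rwa [Nat.eq_of_beq_eq_true he]
  have hu : ∀ i, isoW (uw i) = true ∧ gW e hF h (uw i) ∈ planeGrp e hF h plane0 := fun i =>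
    ⟨isoW_of_mem planes_ok.1 fun p hp => hbas p (sel_subset _ _ p hp),
      gW_mem_plane e hF h fun p hp => hbas p (sel_subset _ _ p hp)⟩
  have hy : ∀ j, isoW (yw j) = true := fun j => by
    simp only [yw, isoW, List.all_append, rootSel, List.all_flatten, Bool.and_eq_true]
    have hr := root_ok.1
    simp only [List.all_eq_true, isoW] at hr ⊢
    exact ⟨fun w hw => hr w (List.mem_of_mem_take (sel_subset _ _ w hw)),
      fun w hw => hr w (List.mem_of_mem_drop (sel_subset _ _ w hw))⟩
  let f : Fin 512 × Fin 64 → sylGrp e hF h := fun q => ⟨gW e hF h (yw q.2) * gW e hF h (uw q.1), by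
    refine mul_mem ?_ (Subgroup.mem_sup_left (Subgroup.mem_sup_left (hu _).2))
    rw [gW_append, gW_rootSel, gW_rootSel]
    exact mul_mem (Subgroup.mem_sup_left (Subgroup.mem_sup_right (sel_prod_mem _)))
      (Subgroup.mem_sup_right (sel_prod_mem _))⟩
  have hf : Function.Injective f := by
    rintro ⟨i, j⟩ ⟨i', j'⟩ eq
    have eq' : gW e hF h (yw j) * gW e hF h (uw i) = gW e hF h (yw j') * gW e hF h (uw i') :=
      congrArg Subtype.val eq
    have key : ∀ b ∈ [5, 80, 1280], appW (yw j) b % 4096 = appW (yw j') b % 4096 := by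
      intro b hbm
      have h1 := congrArg (fun g : Cfsg.SU 6 F 2 => g.1.1 *ᵥ vec e b) eq'
      simp only [su_mul_mulVec] at h1
      rwa [plane_fix e hF h (hu _).2 hbm, plane_fix e hF h (hu _).2 hbm, gW_vec e hF h (hy _),
        gW_vec e hF h (hy _), vec_inj] at h1
    have hk : yKey (yw j) = yKey (yw j') := by
      simp only [yKey]
      rw [key 5 (by simp), key 80 (by simp), key 1280 (by simp)]
    have hj : j = j' := Fin.ext (by
      have hnd := distinct_nodup root_keys
      refine List.inj_on_of_nodup_map hnd ?_ ?_ hk <;> simp)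
    subst hj
    have hi := (gW_key_u e hF h (hu _).1 (hu _).1 (mul_left_cancel eq')).1
    have hc : ∀ k : Fin 512, uCoord (uKey (uw k)) = k.1 := fun k =>
      Nat.eq_of_beq_eq_true (List.all_eq_true.1 bas_ok.2 k.1 (List.mem_range.2 k.2))
    have : i = i' := Fin.ext (by rw [← hc i, ← hc i', hi])
    rw [this]
  have := Nat.card_le_card_of_injective f hf
  rwa [Nat.card_prod, Nat.card_fin, Nat.card_fin] at this

end CfsgLib.KnownB.U62Mult
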