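import Cfsg.Agent.Lib.KnownB.U62Mult.TwoGroup

/-!
Equivariant lifts of transvections in a central extension of `SU₆(2)` with kernel a two-group: involutions
with product one over a line.
-/

set_option autoImplicit false
set_option maxRecDepth 20000

namespace CfsgLib.KnownB.U62Mult

open Matrix CfsgLib.Classical CfsgLib.Classical.Unitary CfsgLib.Spor CfsgLib.MultSU
open scoped commutatorElement

universe u

theorem fixers_ok : (fixers.all fun q => isoW q.2 && moves q.2 5 5 && moves q.2 80 q.1) = true ∧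
    ((plane0 ++ plane1 ++ plane2).all fun p => Nat.beq p 5 || fixers.any fun q => Nat.beq q.1 p) = true := by
  refine ⟨?_, ?_⟩ <;> decide +kernel

theorem line0_ok : eqW line0 [] = true ∧ line0.length = 5 ∧
    (line0.all fun p => plane0.any (Nat.beq p) && !Nat.beq p 5) = true := by
  refine ⟨?_, ?_, ?_⟩ <;> decide +kernel

theorem movers0_ok : movers0.length = plane0.length ∧
    ((plane0.zip movers0).all fun q => isoW q.2 && moves q.2 5 q.1 &&
      plane0.all fun p => plane0.any fun r => moves q.2 r p) = true := by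
  refine ⟨?_, ?_⟩ <;> decide +kernel

theorem iso_80 : hm 80 80 % 4 = 0 ∧ hm 5 5 % 4 = 0 := by decide +kernel

variable {F : Type u} [Field F] (e : QField →+* F) {σ : F →+* F} [Finite F] (hF : Nat.card F = 2 ^ 2)
  (h : UFrob σ 2)

/-- the conjugates of the base transvection -/
def IsTv (t : Cfsg.SU 6 F 2) : Prop := ∃ k, k * tv e hF h 5 * k⁻¹ = t

theorem IsTv.conj {t : Cfsg.SU 6 F 2} (ht : IsTv e hF h t) (g : Cfsg.SU 6 F 2) :
    IsTv e hF h (g * t * g⁻¹) := by
  obtain ⟨k, rfl⟩ := ht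
  exact ⟨g * k, by group⟩

theorem exists_mover {p : ℕ} (hp : p ∈ plane0) : ∃ w, isoW w = true ∧
    gW e hF h w * tv e hF h 5 * (gW e hF h w)⁻¹ = tv e hF h p ∧
    ∀ q ∈ plane0, ∃ r ∈ plane0, gW e hF h w * tv e hF h r * (gW e hF h w)⁻¹ = tv e hF h q := by
  obtain ⟨i, hi, rfl⟩ := List.getElem_of_mem hp
  have hl : i < (plane0.zip movers0).length := by rw [List.length_zip, movers0_ok.1, min_self]; exact hi
  have h1 := List.all_eq_true.1 movers0_ok.2 _ (List.getElem_mem hl)
  rw [List.getElem_zip] at h1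
  simp only [Bool.and_eq_true, List.all_eq_true, List.any_eq_true] at h1
  obtain ⟨⟨hw, hm'⟩, hall⟩ := h1
  obtain ⟨c, hc, e1⟩ := moves_spec e hF h hw hm'
  refine ⟨_, hw, conj_tv e hF h iso_80.2 (isoSpan_spec planes_ok.1 hp).1 hc e1, fun q hq => ?_⟩
  obtain ⟨r, hr, hrm⟩ := hall q hq
  obtain ⟨d, hd, e2⟩ := moves_spec e hF h hw hrm
  exact ⟨r, hr, conj_tv e hF h (isoSpan_spec planes_ok.1 hr).1 (isoSpan_spec planes_ok.1 hq).1 hd e2⟩

theorem isTv_plane0 {p : ℕ} (hp : p ∈ plane0) : IsTv e hF h (tv e hF h p) :=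
  (exists_mover e hF h hp).elim fun w hw => ⟨gW e hF h w, hw.2.1⟩

theorem mem_line0 {p : ℕ} (hp : p ∈ line0) : p ∈ plane0 ∧ p ≠ 5 := by
  have h1 := List.all_eq_true.1 line0_ok.2.2 p hp
  simp only [Bool.and_eq_true, List.any_eq_true, Nat.beq_eq, Bool.not_eq_true'] at h1
  obtain ⟨⟨q, hq, rfl⟩, h5⟩ := h1
  exact ⟨hq, fun he => by subst he; simp at h5⟩

theorem five_mem : 5 ∈ plane0 := by decide +kernel

include e hF h in
theorem sylGrp_index_odd : ¬ 2 ∣ (sylGrp e hF h).index := by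
  obtain ⟨k, hk⟩ := IsPGroup.iff_card.1 (sylGrp_isPGroup e hF h)
  have h1 := (sylGrp e hF h).card_mul_index
  rw [card_SU_six_two (q := 2) hF rfl, hk] at h1
  have h2 := le_natCard_sylGrp e hF h
  rw [hk] at h2
  have hk15 : 15 ≤ k := (Nat.pow_le_pow_iff_right (by norm_num)).1 h2
  have h3 : 2 ^ k ∣ 2187 * (2 ^ 15 * 385) := ⟨_, h1.symm⟩
  have hk' : k = 15 := by
    by_contra hne
    have h4 : 2 ^ 16 ∣ 2187 * (2 ^ 15 * 385) := (pow_dvd_pow 2 (by omega)).trans h3
    norm_num at h4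
  subst hk'
  intro hd
  obtain ⟨j, hj⟩ := hd
  rw [hj] at h1
  norm_num at h1
  omega

variable {Γ : Type u} [Group Γ] [Finite Γ] {π : Γ →* Cfsg.SU 6 F 2} (hπ : IsCE π) (hpr : IsPGroup 2 π.ker)

include hπ hpr in
/-- The lifts of the base transvection commute with those of the three planes. -/
theorem base_comm {p : ℕ} (hp : p ∈ plane0 ++ plane1 ++ plane2) :
    LiftComm π (tv e hF h 5) (tv e hF h p) := by
  obtain ⟨C, hC⟩ : ∃ C, C = Subgroup.centralizer ({tv e hF h 5} : Set (Cfsg.SU 6 F 2)) := ⟨_, rfl⟩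
  have hCm : ∀ g, g ∈ C ↔ tv e hF h 5 * g = g * tv e hF h 5 := fun g => by
    rw [hC, Subgroup.mem_centralizer_singleton_iff]
    exact eq_comm
  obtain ⟨t, ht⟩ := hπ.surj (tv e hF h 5)
  choose s hs using hπ.surj
  have hcomm : ∀ g : C, π t * π (s g) = π (s g) * π t := fun g => by rw [ht, hs]; exact (hCm _).1 g.2
  let φ : C →* Γ := MonoidHom.mk' (fun g => ⁅t, s g⁆) fun g g' => by
    show ⁅t, s (g * g' : C).1⁆ = _
    rw [bracket_congr hπ (a' := t) (b' := s g.1 * s g'.1) rfl (by rw [map_mul, hs, hs, hs]; rfl),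
      bracket_mul_right hπ (hcomm g')]
  have hφk : ∀ g, φ g ∈ π.ker := fun g => bracket_mem_ker (hcomm g)
  have hφ2 : ∀ g, φ g * φ g = 1 := fun g => by
    show ⁅t, s g.1⁆ * ⁅t, s g.1⁆ = 1
    rw [← bracket_mul_left hπ (hcomm g)]
    have h2 : π (t * t) = 1 := by rw [map_mul, ht, tv_sq e hF h iso_80.2]
    rw [bracket_congr_left hπ (a' := 1) (by rw [h2, map_one])]
    simp [commutatorElement_def]
  have hinv : ∀ k x : C, φ (k * x * k⁻¹) = φ x := fun k x => by
    rw [map_mul, map_mul, map_inv, hπ.ker_comm (hφk x) (φ k), mul_inv_cancel_right]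
  -- the fixers
  have hfix : ∀ q ∈ plane0 ++ plane1 ++ plane2, q ≠ 5 → ∀ (hq : tv e hF h q ∈ C) (h80 : tv e hF h 80 ∈ C),
      φ ⟨tv e hF h q, hq⟩ = φ ⟨tv e hF h 80, h80⟩ := by
    intro q hq hq5 hqC h80
    have h1 := List.all_eq_true.1 fixers_ok.2 q hq
    simp only [Bool.or_eq_true, Nat.beq_eq, List.any_eq_true] at h1
    obtain ⟨⟨q', w⟩, hmem, rfl⟩ := h1.resolve_left hq5
    have h2 := List.all_eq_true.1 fixers_ok.1 _ hmem
    simp only [Bool.and_eq_true] at h2
    obtain ⟨⟨hw, hm5⟩, hm80⟩ := h2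
    obtain ⟨c, hc, e5⟩ := moves_spec e hF h hw hm5
    obtain ⟨d, hd, e80⟩ := moves_spec e hF h hw hm80
    have hk5 := conj_tv e hF h iso_80.2 iso_80.2 hc e5
    have hqiso : hm q' q' % 4 = 0 := by
      rcases List.mem_append.1 hq with hq | hq
      · rcases List.mem_append.1 hq with hq | hq
        · exact (isoSpan_spec planes_ok.1 hq).1
        · exact (isoSpan_spec planes_ok.2.1 hq).1
      · exact (isoSpan_spec planes_ok.2.2 hq).1
    have hk80 := conj_tv e hF h iso_80.1 hqiso hd e80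
    have hkC : gW e hF h w ∈ C := (hCm _).2 (mul_inv_eq_iff_eq_mul.1 hk5).symm
    rw [← hinv ⟨_, hkC⟩ ⟨_, h80⟩]
    exact congrArg φ (Subtype.ext hk80.symm)
  have hplC : ∀ q ∈ plane0, tv e hF h q ∈ C := fun q hq => (hCm _).2
    ((invComm_plane e hF h planes_ok.1).2 _ (List.mem_map_of_mem five_mem) _ (List.mem_map_of_mem hq)).eq
  have h80 : tv e hF h 80 ∈ C := hplC 80 (by decide +kernel)
  have hc1 : φ ⟨_, h80⟩ = 1 := by
    let l : List C := line0.pmap (fun q hq => ⟨tv e hF h q, hplC q hq⟩) fun q hq => (mem_line0 hq).1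
    have hl : l.prod = 1 := Subtype.ext (by
      show (l.prod : Cfsg.SU 6 F 2) = 1
      rw [Subgroup.val_list_prod, List.map_pmap, List.pmap_eq_map]
      exact gW_eq e hF h (isoW_of_mem planes_ok.1 fun q hq => (mem_line0 hq).1) rfl line0_ok.1)
    have hlen : l.length = 5 := by rw [List.length_pmap, line0_ok.2.1]
    have hall : ∀ y ∈ l.map φ, y = φ ⟨_, h80⟩ := fun y hy => by
      obtain ⟨x, hx, rfl⟩ := List.mem_map.1 hy
      obtain ⟨q, hq, rfl⟩ := List.mem_pmap.1 hx
      exact hfix q (by simp [(mem_line0 hq).1]) (mem_line0 hq).2 _ h80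
    have := congrArg φ hl
    rw [map_list_prod, map_one, List.prod_eq_pow_card _ _ hall, List.length_map, hlen,
      show (5 : ℕ) = 2 + 2 + 1 by norm_num, pow_succ, pow_add, pow_two, hφ2, one_mul, one_mul] at this
    exact this
  rcases eq_or_ne p 5 with rfl | h5
  · exact fun a b ha hb => by
      obtain ⟨z, hz, rfl⟩ := exists_eq_mul (σ := π) (ha.trans hb.symm)
      rw [mul_assoc, ← hπ.ker_comm hz b]
  · have hpC : tv e hF h p ∈ C := by
      refine (hCm _).2 (mul_inv_eq_iff_eq_mul.1 ?_)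
      rcases List.mem_append.1 hp with hp' | hp'
      · rcases List.mem_append.1 hp' with hp' | hp'
        · exact mul_inv_eq_iff_eq_mul.2 ((hCm _).1 (hplC p hp'))
        · exact mul_inv_eq_iff_eq_mul.2 ((invComm_plane e hF h planes_ok.2.1).2 _
            (List.mem_map_of_mem (by decide +kernel)) _ (List.mem_map_of_mem hp')).eq
      · exact mul_inv_eq_iff_eq_mul.2 ((invComm_plane e hF h planes_ok.2.2).2 _
            (List.mem_map_of_mem (by decide +kernel)) _ (List.mem_map_of_mem hp')).eq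
    refine (liftComm_iff hπ ht (hs _)).2 (commutatorElement_eq_one_iff_mul_comm.1 ?_)
    exact (hfix p hp h5 hpC h80).trans hc1

include hπ hpr in
/-- The lifts of the base transvection commute with those of its centraliser. -/
theorem stab_comm {g : Cfsg.SU 6 F 2} (hg : g * tv e hF h 5 = tv e hF h 5 * g) :
    LiftComm π (tv e hF h 5) g := by
  obtain ⟨C, hC⟩ : ∃ C, C = Subgroup.centralizer ({tv e hF h 5} : Set (Cfsg.SU 6 F 2)) := ⟨_, rfl⟩
  have hCm : ∀ g, g ∈ C ↔ tv e hF h 5 * g = g * tv e hF h 5 := fun g => by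
    rw [hC, Subgroup.mem_centralizer_singleton_iff]
    exact eq_comm
  obtain ⟨t, ht⟩ := hπ.surj (tv e hF h 5)
  choose s hs using hπ.surj
  have hcomm : ∀ g : C, π t * π (s g) = π (s g) * π t := fun g => by rw [ht, hs]; exact (hCm _).1 g.2
  let φ : C →* π.ker := MonoidHom.mk' (fun g => ⟨⁅t, s g⁆, bracket_mem_ker (hcomm g)⟩) fun g g' => by
    refine Subtype.ext ?_
    show ⁅t, s (g * g' : C).1⁆ = _
    rw [bracket_congr hπ (a' := t) (b' := s g.1 * s g'.1) rfl (by rw [map_mul, hs, hs, hs]; rfl),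
      bracket_mul_right hπ (hcomm g')]
    rfl
  have hle : sylGrp e hF h ≤ cLift hπ (tv e hF h 5) := by
    have hpl : ∀ l : List ℕ, (∀ p ∈ l, p ∈ plane0 ++ plane1 ++ plane2) →
        planeGrp e hF h l ≤ cLift hπ (tv e hF h 5) := fun l hl => (Subgroup.closure_le _).2 fun a ha => by
      obtain ⟨p, hp, rfl⟩ := List.mem_map.1 ha
      exact base_comm e hF h hπ hpr (hl p hp)
    refine sup_le (sup_le (hpl _ fun p hp => by simp [hp]) ?_) ?_
    · exact (rootGrp_le e hF h root_ok.2.2.1).trans (hpl _ fun p hp => by simp [hp])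
    · refine le_trans (rootGrp_le e hF h (l := plane2) ?_) (hpl _ fun p hp => by simp [hp])
      have := root_ok.2.2.2.1
      rw [List.all_eq_true] at this ⊢
      exact fun w hw => this w (by
        rw [show rootWords.drop 4 = (rootWords.drop 2).drop 2 by rw [List.drop_drop]] at hw
        exact List.mem_of_mem_drop hw)
  have hodd := sylGrp_index_odd e hF h
  have hker : φ.range = ⊥ := by
    have hd : Nat.card φ.range ∣ (sylGrp e hF h).index := by
      rw [← Subgroup.index_ker]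
      have h1 : (sylGrp e hF h).subgroupOf C ≤ φ.ker := fun x hx => by
        refine Subtype.ext ?_
        show ⁅t, s x.1⁆ = 1
        exact commutatorElement_eq_one_iff_mul_comm.2 (hle hx t (s x.1) ht (hs _))
      refine (Subgroup.index_dvd_of_le h1).trans ?_
      have hSC : sylGrp e hF h ≤ C := fun x hx => (hCm x).2 (LiftComm.commute hπ (hle hx))
      exact Subgroup.relIndex_dvd_index_of_le hSC
    refine (Subgroup.eq_bot_iff_forall _).2 fun y hy => ?_
    by_contra hy1
    obtain ⟨g, rfl⟩ := hy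
    have h2 : φ g * φ g = 1 := by
      refine Subtype.ext ?_
      show ⁅t, s g.1⁆ * ⁅t, s g.1⁆ = 1
      rw [← bracket_mul_left hπ (hcomm g), bracket_congr_left hπ (a' := 1)
        (by rw [map_mul, ht, tv_sq e hF h iso_80.2, map_one])]
      simp [commutatorElement_def]
    have hord : orderOf (⟨φ g, g, rfl⟩ : φ.range) = 2 := orderOf_eq_prime (Subtype.ext (by rw [Subgroup.coe_pow, pow_two]; exact h2))
      fun he => hy1 (congrArg Subtype.val he)
    exact hodd ((hord ▸ orderOf_dvd_natCard _).trans hd)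
  refine (liftComm_iff hπ ht (hs g)).2 (commutatorElement_eq_one_iff_mul_comm.1 ?_)
  have : φ ⟨g, (hCm g).2 hg.symm⟩ = 1 := by
    rw [← Subgroup.mem_bot, ← hker]; exact ⟨_, rfl⟩
  exact congrArg Subtype.val this

/-- Normalised lifts of the transvections. -/
structure Lifts (L : Cfsg.SU 6 F 2 → Γ) : Prop where
  map : ∀ t, IsTv e hF h t → π (L t) = t
  conj : ∀ (K : Γ) (t), IsTv e hF h t → K * L t * K⁻¹ = L (π K * t * (π K)⁻¹)
  sq : ∀ t, IsTv e hF h t → L t * L t = 1
  comm : ∀ p ∈ plane0, ∀ q ∈ plane0, Commute (L (tv e hF h p)) (L (tv e hF h q))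
  line : (line0.map fun p => L (tv e hF h p)).prod = 1

include hπ hpr in
theorem exists_lifts : ∃ L, Lifts e hF h (π := π) L := by
  classical
  obtain ⟨t0, ht0⟩ := hπ.surj (tv e hF h 5)
  choose s hs using hπ.surj
  -- the equivariant family of a lift
  let fam : Γ → Cfsg.SU 6 F 2 → Γ := fun t T =>
    if hT : IsTv e hF h T then s hT.choose * t * (s hT.choose)⁻¹ else 1
  have hfam : ∀ t, π t = tv e hF h 5 → ∀ K : Γ,
      fam t (π K * tv e hF h 5 * (π K)⁻¹) = K * t * K⁻¹ := by
    intro t ht K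
    have hT : IsTv e hF h (π K * tv e hF h 5 * (π K)⁻¹) := ⟨π K, rfl⟩
    simp only [fam, dif_pos hT]
    have hk := hT.choose_spec
    generalize hT.choose = k at hk
    have hc : (k⁻¹ * π K) * tv e hF h 5 = tv e hF h 5 * (k⁻¹ * π K) := by
      have h1 := congrArg (fun x => k⁻¹ * x * π K) hk
      group at h1 ⊢
      exact h1.symm
    have h2 := stab_comm e hF h hπ hpr hc t ((s k)⁻¹ * K) ht (by rw [map_mul, map_inv, hs])
    have h3 := congrArg (fun x => s k * x * K⁻¹) h2
    group at h3 ⊢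
    exact h3
  have hconj : ∀ t, π t = tv e hF h 5 → ∀ K T, IsTv e hF h T →
      K * fam t T * K⁻¹ = fam t (π K * T * (π K)⁻¹) := by
    intro t ht K T hT
    obtain ⟨k, rfl⟩ := hT
    obtain ⟨J, rfl⟩ := hπ.surj k
    rw [hfam t ht J, show π K * (π J * tv e hF h 5 * (π J)⁻¹) * (π K)⁻¹ =
      π (K * J) * tv e hF h 5 * (π (K * J))⁻¹ by rw [map_mul]; group, hfam t ht]
    group
  have hmap : ∀ t, π t = tv e hF h 5 → ∀ T, IsTv e hF h T → π (fam t T) = T := by
    rintro t ht T ⟨k, rfl⟩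
    obtain ⟨J, rfl⟩ := hπ.surj k
    rw [hfam t ht, map_mul, map_mul, map_inv, ht]
  have hcomm : ∀ t, π t = tv e hF h 5 → ∀ p ∈ plane0, ∀ q ∈ plane0,
      Commute (fam t (tv e hF h p)) (fam t (tv e hF h q)) := by
    intro t ht p hp q hq
    obtain ⟨w, -, hw5, hwall⟩ := exists_mover e hF h hp
    obtain ⟨r, hr, hwr⟩ := hwall q hq
    obtain ⟨K, hK⟩ := hπ.surj (gW e hF h w)
    have hr5 : Commute (fam t (tv e hF h 5)) (fam t (tv e hF h r)) :=
      base_comm e hF h hπ hpr (by simp [hr]) _ _ (hmap t ht _ ⟨1, by group⟩)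
        (hmap t ht _ (isTv_plane0 e hF h hr))
    have := Commute.conj_iff K |>.2 hr5
    rwa [hconj t ht K _ ⟨1, by group⟩, hconj t ht K _ (isTv_plane0 e hF h hr), hK, hw5, hwr] at this
  -- normalisation
  let lp : Γ → Γ := fun t => (line0.map fun p => fam t (tv e hF h p)).prod
  have hlp : ∀ t, π t = tv e hF h 5 → π (lp t) = 1 := by
    intro t ht
    simp only [lp]
    rw [map_list_prod, List.map_map]
    refine Eq.trans (congrArg List.prod (List.map_congr_left fun p hp =>
      hmap t ht _ (isTv_plane0 e hF h (mem_line0 hp).1))) ?_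
    exact gW_eq e hF h (isoW_of_mem planes_ok.1 fun q hq => (mem_line0 hq).1) rfl line0_ok.1
  have hshift : ∀ t z, π t = tv e hF h 5 → π z = 1 → ∀ T, IsTv e hF h T →
      fam (t * z) T = fam t T * z := by
    rintro t z ht hz T ⟨k, rfl⟩
    obtain ⟨J, rfl⟩ := hπ.surj k
    rw [hfam t ht, hfam (t * z) (by rw [map_mul, hz, mul_one, ht])]
    simp only [mul_assoc]
    rw [← hπ.ker_comm hz J⁻¹]
  have hco : Nat.Coprime 2 5 := by norm_num
  obtain ⟨z, hz⟩ := (hpr.powEquiv hco).surjective ⟨(lp t0)⁻¹, by rw [MonoidHom.mem_ker, map_inv, hlp t0 ht0, inv_one]⟩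
  have hz5 : (z : Γ) ^ 5 = (lp t0)⁻¹ := congrArg Subtype.val hz
  have ht : π (t0 * (z : Γ)) = tv e hF h 5 := by rw [map_mul, z.2, mul_one, ht0]
  have hline : lp (t0 * (z : Γ)) = 1 := by
    have key : ∀ l : List ℕ, (∀ p ∈ l, p ∈ plane0) → (l.map fun p => fam (t0 * (z : Γ)) (tv e hF h p)).prod =
        (l.map fun p => fam t0 (tv e hF h p)).prod * (z : Γ) ^ l.length := by
      intro l hl
      induction l with
      | nil => simp
      | cons a r ih =>
        rw [List.map_cons, List.map_cons, List.prod_cons, List.prod_cons, List.length_cons,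
          ih (fun p hp => hl p (List.mem_cons_of_mem _ hp)),
          hshift t0 z ht0 z.2 _ (isTv_plane0 e hF h (hl a List.mem_cons_self)), pow_succ']
        have hzc : ∀ x, x * (z : Γ) = (z : Γ) * x := hπ.ker_comm z.2
        simp only [mul_assoc]
        rw [← mul_assoc (z : Γ), ← hzc, mul_assoc]
    show (line0.map fun p => fam (t0 * (z : Γ)) (tv e hF h p)).prod = 1
    rw [key _ fun p hp => (mem_line0 hp).1, line0_ok.2.1, hz5]
    exact mul_inv_cancel (lp t0)
  refine ⟨fam (t0 * z), ⟨hmap _ ht, hconj _ ht, ?_, hcomm _ ht, hline⟩⟩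
  have hsqk : π (t0 * z * (t0 * z)) = 1 := by rw [map_mul, ht, tv_sq e hF h iso_80.2]
  have hsq : ∀ T, IsTv e hF h T → fam (t0 * z) T * fam (t0 * z) T = (t0 * z : Γ) * (t0 * z) := by
    rintro T ⟨k, rfl⟩
    obtain ⟨J, rfl⟩ := hπ.surj k
    rw [hfam _ ht]
    calc J * (t0 * z) * J⁻¹ * (J * (t0 * z) * J⁻¹) = J * ((t0 * z) * (t0 * z)) * J⁻¹ := by group
      _ = _ := by rw [hπ.ker_comm hsqk J, mul_inv_cancel_right]
  have ha : (t0 * z : Γ) * (t0 * z) = 1 := by
    refine eq_one_of_pow hpr hsqk (N := 5) ?_ (by norm_num)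
    have key : ∀ l : List ℕ, (∀ p ∈ l, p ∈ plane0) → (l.map fun p => fam (t0 * (z : Γ)) (tv e hF h p)).prod *
        (l.map fun p => fam (t0 * (z : Γ)) (tv e hF h p)).prod = ((t0 * z : Γ) * (t0 * z)) ^ l.length := by
      intro l hl
      induction l with
      | nil => simp
      | cons a r ih =>
        have hc : Commute (fam (t0 * (z : Γ)) (tv e hF h a))
            (r.map fun p => fam (t0 * (z : Γ)) (tv e hF h p)).prod :=
          Commute.list_prod_right _ _ fun b hb => by
            obtain ⟨p, hp, rfl⟩ := List.mem_map.1 hb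
            exact hcomm _ ht a (hl a List.mem_cons_self) p (hl p (List.mem_cons_of_mem _ hp))
        rw [List.map_cons, List.prod_cons, ← pow_two, hc.mul_pow, pow_two, pow_two,
          hsq _ (isTv_plane0 e hF h (hl a List.mem_cons_self)),
          ih (fun p hp => hl p (List.mem_cons_of_mem _ hp)), List.length_cons, pow_succ']
    rw [← line0_ok.2.1, ← key _ fun p hp => (mem_line0 hp).1]
    exact (congrArg₂ (· * ·) hline hline).trans (one_mul 1)
  exact fun T hT => (hsq T hT).trans ha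

end CfsgLib.KnownB.U62Mult
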